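import Cfsg.Agent.Lib.Classical.Dickson.Tools
import Mathlib.GroupTheory.Sylow

/-!
# Proper subgroups of `L₂(q)` containing a Sylow subgroup in the defining characteristic
-/

set_option autoImplicit false

namespace Cfsg.Agent.PushUp

open Cfsg.Agent.Small Cfsg.Agent.Small.SL2C Cfsg.Agent.Classical.Dickson
open Cfsg.Agent.Fusion.Dickson (mul_entry inv_entries ext' det_eq)

section
variable {F : Type*} [Field F] [Fintype F]

local notation "SL2" => Matrix.SpecialLinearGroup (Fin 2) F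
local notation "P2" => Matrix.ProjectiveSpecialLinearGroup (Fin 2) F

theorem sl2_top_of_mem {H : Subgroup SL2} (hu : ∀ x, PSL2.uS x ∈ H) {g : SL2} (hg : g ∈ H)
    (hc : g.1 1 0 ≠ 0) : H = ⊤ := by
  have hv : ∀ y, PSL2.vS y ∈ H := by
    intro y
    obtain ⟨i1, i2, i3, i4⟩ := inv_entries g
    set s := -(g.1 0 0 / g.1 1 0)
    set x := -(y / (g.1 1 0 * g.1 1 0))
    have hd := det_eq g
    have e : PSL2.vS y = PSL2.uS s * (g * PSL2.uS x * g⁻¹) * PSL2.uS (-s) := by
      apply ext' <;>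
        simp only [mul_entry, i1, i2, i3, i4] <;>
        simp only [PSL2.vS, PSL2.uS, Matrix.of_apply, Matrix.cons_val', Matrix.cons_val_zero,
          Matrix.cons_val_one, Matrix.cons_val_fin_one] <;>
        simp only [s, x] <;> field_simp <;> grind
    rw [e]
    exact mul_mem (mul_mem (hu _) (mul_mem (mul_mem hg (hu _)) (inv_mem hg))) (hu _)
  have hall : ∀ h : SL2, h.1 1 0 ≠ 0 → h ∈ H := by
    intro h hh
    have hd := det_eq h
    have e : h = PSL2.uS ((h.1 0 0 - 1) / h.1 1 0) * PSL2.vS (h.1 1 0) *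
        PSL2.uS ((h.1 1 1 - 1) / h.1 1 0) := by
      apply ext' <;>
        simp only [mul_entry] <;>
        simp only [PSL2.vS, PSL2.uS, Matrix.of_apply, Matrix.cons_val', Matrix.cons_val_zero,
          Matrix.cons_val_one, Matrix.cons_val_fin_one] <;>
        field_simp <;> grind
    rw [e]
    exact mul_mem (mul_mem (hu _) (hv _)) (hu _)
  refine eq_top_iff.2 fun h _ => ?_
  by_cases hh : h.1 1 0 = 0
  · have h1 : (PSL2.vS (1 : F) * h).1 1 0 ≠ 0 := by
      intro h0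
      have hd := det_eq h
      simp only [mul_entry] at h0
      simp [PSL2.vS, hh] at h0
      rw [h0, hh] at hd
      simp at hd
    exact (Subgroup.mul_mem_cancel_left H (hv 1)).1 (hall _ h1)
  · exact hall h hh

theorem card_U' : Nat.card (PSL2.U : Subgroup P2) = Fintype.card F := by
  rw [← Nat.card_eq_fintype_card]
  refine (Nat.card_congr (Equiv.ofBijective
    (fun x : F => (⟨PSL2.pr (PSL2.uS x), PSL2.uS_mem x⟩ : (PSL2.U : Subgroup P2))) ⟨?_, ?_⟩)).symm
  · exact fun x y h => PSL2.pr_uS_inj (congrArg Subtype.val h)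
  · rintro ⟨g, hg⟩
    obtain ⟨x, rfl⟩ := (PSL2.mem_U g).1 hg
    exact ⟨x, rfl⟩

/-- A proper subgroup containing the unipotent subgroup lies in the Borel subgroup. -/
theorem le_borelP {H : Subgroup P2} (hU : PSL2.U ≤ H) (hne : H ≠ ⊤) : H ≤ borelP F := by
  intro x hx
  obtain ⟨g, rfl⟩ := PSL2.pr_surjective x
  refine ⟨g, ?_, rfl⟩
  by_contra hc
  have h1 : H.comap PSL2.pr = ⊤ := sl2_top_of_mem (fun y => hU (PSL2.uS_mem y)) hx hc
  exact hne (eq_top_iff.2 fun y _ => by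
    obtain ⟨z, rfl⟩ := PSL2.pr_surjective y
    exact (h1.ge (Subgroup.mem_top z) : z ∈ H.comap PSL2.pr))

theorem inf_conj_U {x : P2} (hx : x ∉ borelP F) {y : P2} (hy : y ∈ (PSL2.U : Subgroup P2))
    (hy' : x * y * x⁻¹ ∈ (PSL2.U : Subgroup P2)) : y = 1 := by
  obtain ⟨g, rfl⟩ := PSL2.pr_surjective x
  obtain ⟨a, rfl⟩ := (PSL2.mem_U y).1 hy
  obtain ⟨b, hb⟩ := (PSL2.mem_U _).1 hy'
  rw [← map_inv, ← map_mul, ← map_mul, eq_comm, PSL2.pr_eq_iff] at hb
  obtain ⟨ε, -, he⟩ := hb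
  have h10 : (g * PSL2.uS a * g⁻¹).1 1 0 = (ε • (PSL2.uS b).1) 1 0 := by rw [he]
  obtain ⟨i1, i2, i3, i4⟩ := inv_entries g
  simp only [mul_entry, i1, i2, i3, i4] at h10
  simp only [PSL2.uS, Matrix.of_apply, Matrix.cons_val', Matrix.cons_val_zero,
    Matrix.cons_val_one, Matrix.cons_val_fin_one, Matrix.smul_apply, smul_eq_mul, mul_zero, mul_one] at h10
  have hc : g.1 1 0 ≠ 0 := fun h => hx ⟨g, h, rfl⟩
  have ha : a = 0 := by
    have : g.1 1 0 * g.1 1 0 * a = 0 := by linear_combination -h10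
    simpa [hc] using this
  rw [ha, show PSL2.uS (0 : F) = 1 by apply ext' <;> simp [PSL2.uS], map_one]

variable {p n : ℕ} [hp : Fact p.Prime]

theorem sylow_psl_card (hF : Fintype.card F = p ^ n) (hn : 1 ≤ n) (T : Sylow p P2) :
    Nat.card T = p ^ n := by
  obtain ⟨j, hj⟩ := IsPGroup.iff_card.1 T.2
  have hU : IsPGroup p (PSL2.U : Subgroup P2) := IsPGroup.of_card (card_U'.trans hF)
  obtain ⟨P, hP⟩ := hU.exists_le_sylow
  have h1 : p ^ n ≤ Nat.card T := by
    rw [show Nat.card T = Nat.card P from (Sylow.card_eq_multiplicity T).trans (Sylow.card_eq_multiplicity P).symm,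
      ← hF, ← card_U']
    exact Subgroup.card_le_of_le hP
  refine le_antisymm (Nat.le_of_dvd (Nat.pow_pos hp.out.pos) ?_) h1
  have h3 : Nat.card T ∣ p ^ n * ((p ^ n) ^ 2 - 1) := by
    rw [← hF, ← card_psl F]
    exact dvd_mul_of_dvd_left (Subgroup.card_subgroup_dvd_card _) _
  rw [hj] at h3 ⊢
  refine Nat.Coprime.dvd_of_dvd_mul_right (Nat.Coprime.pow_left j
    ((Nat.Prime.coprime_iff_not_dvd hp.out).2 fun hd => ?_)) h3
  have h4 : p ∣ (p ^ n) ^ 2 := (dvd_pow_self p (by omega)).trans (dvd_pow_self _ two_ne_zero)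
  have h5 := Nat.dvd_sub h4 hd
  rw [Nat.sub_sub_self (Nat.one_le_pow _ _ (Nat.pow_pos hp.out.pos))] at h5
  exact hp.out.not_dvd_one h5

/-- Sylow subgroups in the defining characteristic: a maximal overgroup, and trivial intersections. -/
theorem exists_borel (hF : Fintype.card F = p ^ n) (hn : 1 ≤ n) (T : Sylow p P2) :
    ∃ B : Subgroup P2, B ≠ ⊤ ∧ (T : Subgroup P2) ≤ B ∧
      (∀ H : Subgroup P2, (T : Subgroup P2) ≤ H → H ≠ ⊤ → H ≤ B) ∧
      (∀ x ∈ B, ∀ k, x ^ p ^ k = 1 → x ∈ (T : Subgroup P2)) ∧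
      (∀ g ∉ B, ∀ x ∈ (T : Subgroup P2), g * x * g⁻¹ ∈ (T : Subgroup P2) → x = 1) := by
  have hU : IsPGroup p (PSL2.U : Subgroup P2) := IsPGroup.of_card (card_U'.trans hF)
  obtain ⟨P, hP⟩ := hU.exists_le_sylow
  have hPU : (PSL2.U : Subgroup P2) = P := Subgroup.eq_of_le_of_card_ge hP
    (by rw [card_U', hF]; exact (sylow_psl_card hF hn P).le)
  obtain ⟨γ, hγ⟩ := MulAction.exists_smul_eq P2 P T
  have hT : (T : Subgroup P2) = (PSL2.U : Subgroup P2).map (MulAut.conj γ).toMonoidHom := by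
    rw [← hγ, Sylow.coe_subgroup_smul, hPU]; rfl
  have memT : ∀ x, x ∈ (T : Subgroup P2) ↔ γ⁻¹ * x * γ ∈ (PSL2.U : Subgroup P2) := fun x => by
    rw [hT]
    constructor
    · rintro ⟨u, hu, rfl⟩
      simpa [mul_assoc] using hu
    · exact fun hu => ⟨_, hu, by simp [mul_assoc]⟩
  let c := (MulAut.conj γ).symm.toMonoidHom
  have hc : ∀ x, c x = γ⁻¹ * x * γ := fun x => rfl
  have hUB : (PSL2.U : Subgroup P2) ≤ borelP F := by
    intro x hx
    obtain ⟨a, rfl⟩ := (PSL2.mem_U x).1 hx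
    exact ⟨PSL2.uS a, by show (PSL2.uS a).1 1 0 = 0; simp [PSL2.uS], rfl⟩
  refine ⟨(borelP F).comap c, fun htop => ?_, fun x hx => hUB (by simpa [hc] using (memT x).1 hx),
    fun H hTH hne x hx => ?_, ?_, fun g hg x hx hgx => ?_⟩
  · obtain ⟨z, hz⟩ : ∃ z : P2, z ∉ borelP F := by
      refine ⟨PSL2.pr PSL2.wS, ?_⟩
      rintro ⟨b, hb, hbw⟩
      obtain ⟨ε, hε, he⟩ := (PSL2.pr_eq_iff _ _).1 hbw
      have hb0 : b.1 1 0 = 0 := hb
      rw [he] at hb0
      simp [PSL2.wS] at hb0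
      rw [hb0] at hε
      simp at hε
    have h1 := htop.ge (Subgroup.mem_top (γ * z * γ⁻¹))
    rw [Subgroup.mem_comap, hc, show γ⁻¹ * (γ * z * γ⁻¹) * γ = z by group] at h1
    exact hz h1
  · refine le_borelP (H := H.map c) (fun u hu => ⟨γ * u * γ⁻¹, hTH ((memT _).2 (by simpa [mul_assoc] using hu)),
      by simp [hc, mul_assoc]⟩) (fun htop => hne ?_) ⟨x, hx, rfl⟩
    refine eq_top_iff.2 fun y _ => ?_
    obtain ⟨h, hh, he⟩ := htop.ge (Subgroup.mem_top (c y))
    exact (MulAut.conj γ).symm.injective he ▸ hh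
  · intro x hx k hk
    refine (memT x).2 ?_
    set y := γ⁻¹ * x * γ with hy
    have hyk : y ^ p ^ k = 1 := by
      rw [← hc] at hy
      rw [hy, ← map_pow, hk, map_one]
    have hyB : y ∈ borelP F := hx
    have hn' : Subgroup.zpowers y ≤ Subgroup.normalizer ((PSL2.U : Subgroup P2) : Set P2) :=
      Subgroup.zpowers_le.2 (borelP_le_normalizer hyB)
    have hz : IsPGroup p (Subgroup.zpowers y) := by
      rintro ⟨w, i, rfl⟩
      refine ⟨k, Subtype.ext ?_⟩
      show (y ^ i) ^ p ^ k = 1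
      rw [← zpow_natCast (y ^ i), ← zpow_mul, mul_comm, zpow_mul, zpow_natCast, hyk, one_zpow]
    have hsup := hz.to_sup_of_normal_right' hU hn'
    obtain ⟨Q, hQ⟩ := hsup.exists_le_sylow
    have : (PSL2.U : Subgroup P2) = Q := Subgroup.eq_of_le_of_card_ge (le_sup_right.trans hQ)
      (by rw [card_U', hF]; exact (sylow_psl_card hF hn Q).le)
    rw [this]
    exact hQ (Subgroup.mem_sup_left (Subgroup.mem_zpowers y))
  · have h1 := inf_conj_U (x := c g) hg ((memT x).1 hx) (by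
      have h2 := (memT _).1 hgx
      convert h2 using 1
      rw [hc]; group)
    exact (MulAut.conj γ).symm.injective (h1.trans (map_one c).symm)

end

section
variable {G : Type*} [Group G] [Finite G] {p n : ℕ} [hp : Fact p.Prime] {F : Type*} [Field F] [Fintype F]

/-- The Sylow subgroups of a group with quotient `L₂(q)`: the preimage of the Borel subgroup. -/
theorem borel_preimage (hF : Fintype.card F = p ^ n) (hn : 1 ≤ n) (S : Sylow p G)
    (φ : G →* Matrix.ProjectiveSpecialLinearGroup (Fin 2) F) (hφ : Function.Surjective φ) :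
    ∃ B : Subgroup G, B ≠ ⊤ ∧ (S : Subgroup G) ≤ B ∧ φ.ker ≤ B ∧
      (∀ H : Subgroup G, (S : Subgroup G) ≤ H → φ.ker ≤ H → H ≠ ⊤ → H ≤ B) ∧
      (∀ g ∉ B, ∀ x ∈ B, g⁻¹ * x * g ∈ (S : Subgroup G) → φ x = 1) := by
  haveI : Finite (Matrix.ProjectiveSpecialLinearGroup (Fin 2) F) := Finite.of_surjective φ hφ
  obtain ⟨B, hB, hTB, hmax, hp', hti⟩ := exists_borel hF hn (S.mapSurjective hφ)
  refine ⟨B.comap φ, fun h => hB ?_, fun x hx => hTB ⟨x, hx, rfl⟩,
    fun x hx => show φ x ∈ B by rw [show φ x = 1 from hx]; exact one_mem _, fun H hS hK hne x hx => ?_,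
    fun g hg x hx hgx => ?_⟩
  · rw [← Subgroup.map_comap_eq_self_of_surjective hφ B, h, Subgroup.map_top_of_surjective φ hφ]
  · refine hmax (H.map φ) (Subgroup.map_mono hS) (fun htop => hne ?_) ⟨x, hx, rfl⟩
    rw [← Subgroup.comap_top φ, ← htop, Subgroup.comap_map_eq, sup_eq_left.2 hK]
  · obtain ⟨k, hk⟩ := S.2 ⟨_, hgx⟩
    have hk' : (g⁻¹ * x * g) ^ p ^ k = 1 := congrArg Subtype.val hk
    have hxk : φ x ^ p ^ k = 1 := by
      have : x ^ p ^ k = 1 := by
        have h := congrArg (fun y => g * y * g⁻¹) hk'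
        simp only [mul_one, mul_inv_cancel] at h
        rwa [← conj_pow, show g * (g⁻¹ * x * g) * g⁻¹ = x by group] at h
      rw [← map_pow, this, map_one]
    refine hti (φ g)⁻¹ (fun h => hg (by simpa using h)) (φ x) (hp' _ hx k hxk) ⟨g⁻¹ * x * g, hgx, ?_⟩
    simp

end

end Cfsg.Agent.PushUp
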