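import Cfsg.Agent.Lib.PushUp.BaseFacts

/-!
# Two Borel subgroups of `L₂(q)` meet in an abelian group
-/

set_option autoImplicit false

open scoped commutatorElement

namespace Cfsg.Agent.PushUp

open Cfsg Cfsg.Agent.Small Cfsg.Agent.Classical.Dickson

variable {F : Type*} [Field F] [Fintype F]

theorem comm_borelP {x y : Matrix.ProjectiveSpecialLinearGroup (Fin 2) F} (hx : x ∈ borelP F) (hy : y ∈ borelP F) :
    ⁅x, y⁆ ∈ (PSL2.U : Subgroup (Matrix.ProjectiveSpecialLinearGroup (Fin 2) F)) := by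
  obtain ⟨A, hA, rfl⟩ := hx
  obtain ⟨B, hB, rfl⟩ := hy
  have hm : ⁅A, B⁆ ∈ upperSL F := by
    rw [commutatorElement_def]
    exact mul_mem (mul_mem (mul_mem hA hB) (inv_mem hA)) (inv_mem hB)
  have h00 : (⁅A, B⁆).1 0 0 = 1 := by
    obtain ⟨a1, a2, a3, a4⟩ := Fusion.Dickson.inv_entries A
    obtain ⟨b1, b2, b3, b4⟩ := Fusion.Dickson.inv_entries B
    have hdA := Fusion.Dickson.det_eq A
    have hdB := Fusion.Dickson.det_eq B
    rw [show A.1 1 0 = 0 from hA, mul_zero, sub_zero] at hdA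
    rw [show B.1 1 0 = 0 from hB, mul_zero, sub_zero] at hdB
    simp only [commutatorElement_def, Fusion.Dickson.mul_entry, a1, a3, b1, b3,
      show A.1 1 0 = 0 from hA, show B.1 1 0 = 0 from hB]
    linear_combination (B.1 0 0 * B.1 1 1) * hdA + hdB
  refine (PSL2.mem_U _).2 ⟨(⁅A, B⁆).1 0 1, ?_⟩
  rw [← map_commutatorElement]
  congr 1
  obtain ⟨C, hC⟩ : ∃ C, C = ⁅A, B⁆ := ⟨_, rfl⟩
  rw [← hC] at h00 hm ⊢
  have hd := Fusion.Dickson.det_eq C
  have hC10 : C.1 1 0 = 0 := hm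
  rw [h00, hC10, mul_zero, sub_zero, one_mul] at hd
  apply Fusion.Dickson.ext' <;> simp [PSL2.uS, h00, hC10, hd]

theorem exists_borel_comm {p n : ℕ} [Fact p.Prime] (hF : Fintype.card F = p ^ n) (hn : 1 ≤ n)
    (T : Sylow p (Matrix.ProjectiveSpecialLinearGroup (Fin 2) F)) :
    ∃ B : Subgroup (Matrix.ProjectiveSpecialLinearGroup (Fin 2) F),
      (∀ H : Subgroup (Matrix.ProjectiveSpecialLinearGroup (Fin 2) F),
        (T : Subgroup (Matrix.ProjectiveSpecialLinearGroup (Fin 2) F)) ≤ H → H ≠ ⊤ → H ≤ B) ∧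
      ∀ x ∈ B, ∀ y ∈ B, ⁅x, y⁆ ∈ (T : Subgroup (Matrix.ProjectiveSpecialLinearGroup (Fin 2) F)) := by
  have hU : IsPGroup p (PSL2.U : Subgroup (Matrix.ProjectiveSpecialLinearGroup (Fin 2) F)) :=
    IsPGroup.of_card (card_U'.trans hF)
  obtain ⟨P, hP⟩ := hU.exists_le_sylow
  have hPU : (PSL2.U : Subgroup (Matrix.ProjectiveSpecialLinearGroup (Fin 2) F)) = P :=
    Subgroup.eq_of_le_of_card_ge hP (by rw [card_U', hF]; exact (sylow_psl_card hF hn P).le)
  obtain ⟨γ, hγ⟩ := MulAction.exists_smul_eq (Matrix.ProjectiveSpecialLinearGroup (Fin 2) F) P T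
  set c := (MulAut.conj γ).toMonoidHom
  have hT : (T : Subgroup (Matrix.ProjectiveSpecialLinearGroup (Fin 2) F)) = PSL2.U.map c := by
    rw [← hγ, Sylow.coe_subgroup_smul, hPU]; rfl
  refine ⟨(borelP F).map c, fun H hH hne x hx => ?_, ?_⟩
  · obtain ⟨y, rfl⟩ : ∃ y, c y = x := (MulAut.conj γ).surjective x
    refine ⟨y, le_borelP (H := H.comap c) (fun u hu => hH (hT.ge ⟨u, hu, rfl⟩)) (fun htop => hne ?_) hx, rfl⟩
    rw [← Subgroup.map_comap_eq_self_of_surjective (f := c) (MulAut.conj γ).surjective H, htop,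
      Subgroup.map_top_of_surjective c (MulAut.conj γ).surjective]
  · rintro _ ⟨x, hx, rfl⟩ _ ⟨y, hy, rfl⟩
    rw [hT, ← map_commutatorElement]
    exact ⟨_, comm_borelP hx hy, rfl⟩

namespace Setting

variable {G : Type*} [Group G] [Finite G] {p n : ℕ} [hp : Fact p.Prime] {S : Sylow p G} {L : Type} [Field L]
  [Fintype L] {φ : G →* Matrix.ProjectiveSpecialLinearGroup (Fin 2) L} (R : Setting p n S L φ)
include R

/-- Two conjugates of `M` meet in a group which is abelian over the kernel. -/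
theorem torus {g : G} (hg : g ∉ R.M) : ∀ x ∈ R.M, g⁻¹ * x * g ∈ R.M → ∀ y ∈ R.M, g⁻¹ * y * g ∈ R.M →
    ⁅x, y⁆ ∈ φ.ker := by
  intro x hx hx' y hy hy'
  haveI : Finite (Matrix.ProjectiveSpecialLinearGroup (Fin 2) L) := Finite.of_surjective φ R.surj
  obtain ⟨B, hmax, hcomm⟩ := exists_borel_comm R.hF R.hn (S.mapSurjective R.surj)
  have hMB : R.M.map φ ≤ B := by
    refine hmax _ (Subgroup.map_mono R.le_M) fun hc => R.M_coatom.1 ?_
    have h1 := congrArg (Subgroup.comap φ) hc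
    rwa [Subgroup.comap_map_eq, sup_eq_left.2 R.ker_le, Subgroup.comap_top] at h1
  have key : ∀ {a b : G}, a ∈ R.M → b ∈ R.M → ∃ s ∈ (S : Subgroup G), φ s = φ ⁅a, b⁆ := fun ha hb => by
    rw [map_commutatorElement]
    exact hcomm _ (hMB ⟨_, ha, rfl⟩) _ (hMB ⟨_, hb, rfl⟩)
  obtain ⟨s, hs, hsc⟩ := key hx' hy'
  have he : φ (g * s * g⁻¹) = φ ⁅x, y⁆ := by
    rw [map_mul, map_mul, hsc]
    simp only [map_commutatorElement, map_mul, map_inv, commutatorElement_def]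
    group
  have hm : g * s * g⁻¹ ∈ R.M := by
    have h1 : g * s * g⁻¹ * ⁅x, y⁆⁻¹ ∈ R.M :=
      R.ker_le (MonoidHom.mem_ker.2 (by rw [map_mul, map_inv, he, mul_inv_cancel]))
    have h2 : ⁅x, y⁆ ∈ R.M := by
      rw [commutatorElement_def]
      exact mul_mem (mul_mem (mul_mem hx hy) (inv_mem hx)) (inv_mem hy)
    have h3 := mul_mem h1 h2
    rwa [inv_mul_cancel_right] at h3
  rw [MonoidHom.mem_ker, ← he]
  exact R.ti_ker hg hm (by simpa [mul_assoc] using hs)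

end Setting

end Cfsg.Agent.PushUp
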