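import Cfsg.Agent.Lib.PushUp.NatSection
import Cfsg.Prelude.Def_LocalEven

/-!
# Chief factors under a series with central and natural steps
-/

set_option autoImplicit false

open scoped commutatorElement

namespace Cfsg.Agent.PushUp

open Cfsg Cfsg.Agent.Small

universe u w

variable {G : Type u} [Group G] {F : Type w} [Field F]

theorem exists_column (v : Fin 2 → F) (hv : v ≠ 0) : ∃ N : Matrix.SpecialLinearGroup (Fin 2) F,
    (N : Matrix (Fin 2) (Fin 2) F).mulVec ![1, 0] = v := by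
  by_cases h0 : v 0 = 0
  · have h1 : v 1 ≠ 0 := fun h1 => hv (funext fun i => by fin_cases i <;> simp [h0, h1])
    refine ⟨⟨!![v 0, -(v 1)⁻¹; v 1, 0], by simp [Matrix.det_fin_two, h1]⟩, funext fun i => ?_⟩
    fin_cases i <;> simp [Matrix.mulVec, dotProduct, Fin.sum_univ_two]
  · refine ⟨⟨!![v 0, 0; v 1, (v 0)⁻¹], by simp [Matrix.det_fin_two, h0]⟩, funext fun i => ?_⟩
    fin_cases i <;> simp [Matrix.mulVec, dotProduct, Fin.sum_univ_two]

theorem eq_one_of_mulVec {N : Matrix.SpecialLinearGroup (Fin 2) F}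
    (h : ∀ v, (N : Matrix (Fin 2) (Fin 2) F).mulVec v = v) : N = 1 :=
  Subtype.ext (Matrix.ext_of_mulVec_single fun i => by
    rw [h, Matrix.SpecialLinearGroup.coe_one, Matrix.one_mulVec])

namespace NatSect

variable {W C : Subgroup G} {R : G →* Matrix.SpecialLinearGroup (Fin 2) F} {c : G → Fin 2 → F}
  (hc : NatSect W C R c)
include hc

theorem map_inv {a : G} (ha : a ∈ W) : c a⁻¹ = -c a := by
  refine eq_neg_of_add_eq_zero_right ?_
  rw [← hc.mul a ha a⁻¹ (inv_mem ha), mul_inv_cancel, hc.zero 1 (one_mem _)]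
  exact one_mem _

theorem eq_iff {a b : G} (ha : a ∈ W) (hb : b ∈ W) : c a = c b ↔ a * b⁻¹ ∈ C := by
  rw [← hc.zero _ (mul_mem ha (inv_mem hb)), hc.mul a ha _ (inv_mem hb), hc.map_inv hb, ← sub_eq_add_neg,
    sub_eq_zero]

theorem ker_iff (x : G) : R x = 1 ↔ ∀ w ∈ W, ⁅x, w⁆ ∈ C := by
  constructor
  · intro hx w hw
    rw [commutatorElement_def, ← hc.eq_iff (hc.Wn.conj_mem w hw x) hw, hc.conj x w hw, hx,
      Matrix.SpecialLinearGroup.coe_one, Matrix.one_mulVec]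
  · intro hx
    refine eq_one_of_mulVec fun v => ?_
    obtain ⟨a, ha, rfl⟩ := hc.onto v
    rw [← hc.conj x a ha, hc.eq_iff (hc.Wn.conj_mem a ha x) ha, ← commutatorElement_def]
    exact hx a ha

theorem le_sup (hR : Function.Surjective R) {X : Subgroup G} (hX : X.Normal) (hXW : X ≤ W) (hne : ¬ X ≤ C) :
    ∀ a ∈ W, ∃ x ∈ X, a * x⁻¹ ∈ C := by
  intro a ha
  obtain ⟨x₀, hx₀, hx₀C⟩ := SetLike.not_le_iff_exists.1 hne
  by_cases h0 : c a = 0
  · exact ⟨1, one_mem _, by simpa using (hc.zero a ha).1 h0⟩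
  have hv : c x₀ ≠ 0 := fun h => hx₀C ((hc.zero x₀ (hXW hx₀)).1 h)
  obtain ⟨N₁, hN₁⟩ := exists_column (c a) h0
  obtain ⟨N₂, hN₂⟩ := exists_column (c x₀) hv
  obtain ⟨g, hg⟩ := hR (N₁ * N₂⁻¹)
  refine ⟨g * x₀ * g⁻¹, hX.conj_mem x₀ hx₀ g, (hc.eq_iff ha (hc.Wn.conj_mem _ (hXW hx₀) g)).1 ?_⟩
  rw [hc.conj g x₀ (hXW hx₀), hg, ← hN₂, Matrix.mulVec_mulVec, ← Matrix.SpecialLinearGroup.coe_mul,
    inv_mul_cancel_right, hN₁]

end NatSect

section
variable [Finite G] {Q N U W₀ : Subgroup G}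

theorem chief_central_step {top bot : Subgroup G} (hch : IsChiefFactor U W₀) (hnc : ¬ ⁅U, (⊤ : Subgroup G)⁆ ≤ W₀)
    (hUQ : ∀ u ∈ U, ∀ x ∈ Q, ⁅u, x⁆ ∈ W₀) (hsup : N ⊔ Q = ⊤) (ht : top.Normal) (hb : bot.Normal)
    (hcomm : ∀ x ∈ top, ∀ l ∈ N, ⁅x, l⁆ ∈ bot) (hbot : U ⊓ bot ≤ W₀) : U ⊓ top ≤ W₀ := by
  obtain ⟨hlt, hUn, hWn, hirr⟩ := hch
  by_contra hne
  haveI := hUn; haveI := hWn; haveI := ht
  have hn : ((U ⊓ top) ⊔ W₀).Normal := inferInstance
  rcases hirr _ hn le_sup_right (sup_le inf_le_left hlt.le) with e | e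
  · exact hne (le_sup_left.trans e.le)
  refine hnc (Subgroup.commutator_le.2 fun u hu g _ => ?_)
  have hstab : (⊤ : Subgroup G) ≤
      (Subgroup.centralizer ({QuotientGroup.mk' W₀ u} : Set (G ⧸ W₀))).comap (QuotientGroup.mk' W₀) := by
    refine hsup ▸ sup_le (fun l hl => ?_) fun x hx => ?_
    · rw [Subgroup.mem_comap, Subgroup.mem_centralizer_singleton_iff, eq_comm,
        ← commutatorElement_eq_one_iff_mul_comm, ← map_commutatorElement, QuotientGroup.mk'_apply,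
        QuotientGroup.eq_one_iff]
      obtain ⟨t, ht', w, hw, rfl⟩ := Subgroup.mem_sup_of_normal_right.1 (e.ge hu)
      have h1 : ⁅t, l⁆ ∈ W₀ := hbot ⟨(by
        rw [commutatorElement_def, mul_assoc t, mul_assoc t]
        exact mul_mem ht'.1 (hUn.conj_mem _ (inv_mem ht'.1) l)), hcomm t ht'.2 l hl⟩
      rw [← QuotientGroup.eq_one_iff, ← QuotientGroup.mk'_apply (N := W₀), map_commutatorElement, map_mul,
        show QuotientGroup.mk' W₀ w = 1 from (QuotientGroup.eq_one_iff w).2 hw, mul_one, ← map_commutatorElement,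
        QuotientGroup.mk'_apply, QuotientGroup.eq_one_iff]
      exact h1
    · rw [Subgroup.mem_comap, Subgroup.mem_centralizer_singleton_iff, eq_comm,
        ← commutatorElement_eq_one_iff_mul_comm, ← map_commutatorElement, QuotientGroup.mk'_apply,
        QuotientGroup.eq_one_iff]
      exact hUQ u hu x hx
  have h2 := hstab (Subgroup.mem_top g)
  rwa [Subgroup.mem_comap, Subgroup.mem_centralizer_singleton_iff, eq_comm,
    ← commutatorElement_eq_one_iff_mul_comm, ← map_commutatorElement, QuotientGroup.mk'_apply,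
    QuotientGroup.eq_one_iff] at h2

theorem chief_natural_step [W₀.Normal] {top bot : Subgroup G}
    {R : G →* Matrix.SpecialLinearGroup (Fin 2) F} {c : G → Fin 2 → F} (hc : NatSect top bot R c)
    (hR : Function.Surjective R) (hch : IsChiefFactor U W₀) (hWR : W₀ ≤ R.ker) (hbot : U ⊓ bot ≤ W₀)
    (hne : ¬ U ⊓ top ≤ W₀) : IsNaturalSL2Module F (U.map (QuotientGroup.mk' W₀)) (⊤ : Subgroup (G ⧸ W₀)) := by
  classical
  obtain ⟨hlt, hUn, -, hirr⟩ := hch
  haveI := hUn; haveI := hc.Wn; haveI := hc.Cn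
  set T := U ⊓ top
  have hUT : U ≤ T ⊔ W₀ := by
    rcases hirr _ (inferInstance : (T ⊔ W₀).Normal) le_sup_right (sup_le inf_le_left hlt.le) with e | e
    · exact absurd (le_sup_left.trans e.le) hne
    · exact e.ge
  have hTb : ¬ T ≤ bot := fun hle => hne (fun t ht => hbot ⟨ht.1, hle ht⟩)
  have hWb : ∀ t ∈ T, (t ∈ W₀ ↔ t ∈ bot) := by
    intro t ht
    refine ⟨fun htW => ?_, fun htb => hbot ⟨ht.1, htb⟩⟩
    by_contra htb
    refine hne fun x hx => ?_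
    obtain ⟨y, hy, hxy⟩ := hc.le_sup hR (inferInstance : (W₀ ⊓ top).Normal) inf_le_right
      (fun hle => htb (hle ⟨htW, ht.2⟩)) x hx.2
    have h1 : x * y⁻¹ ∈ W₀ := hbot (Subgroup.mem_inf.2 ⟨mul_mem hx.1 (inv_mem (hlt.le hy.1)), hxy⟩)
    simpa using mul_mem h1 hy.1
  set π := QuotientGroup.mk' W₀
  have hπ : ∀ x, π x = 1 ↔ x ∈ W₀ := fun x => QuotientGroup.eq_one_iff x
  have hrep : ∀ v : U.map π, ∃ t ∈ T, π t = (v : G ⧸ W₀) := by
    rintro ⟨_, u, hu, rfl⟩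
    obtain ⟨t, ht, w, hw, rfl⟩ := Subgroup.mem_sup_of_normal_right.1 (hUT hu)
    refine ⟨t, ht, ?_⟩
    show π t = π (t * w)
    rw [map_mul, (hπ w).2 hw, mul_one]
  choose r hrT hrπ using hrep
  have hsame : ∀ a ∈ T, ∀ b ∈ T, (π a = π b ↔ c a = c b) := fun a ha b hb => by
    rw [hc.eq_iff ha.2 hb.2, ← hWb _ (mul_mem ha (inv_mem hb)), ← hπ, map_mul, _root_.map_inv, mul_inv_eq_one]
  let ψ0 : U.map π → (Fin 2 → F) := fun v => c (r v)
  have hψ : ∀ (v : U.map π), ∀ t ∈ T, π t = (v : G ⧸ W₀) → ψ0 v = c t := fun v t ht e =>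
    (hsame _ (hrT v) t ht).1 ((hrπ v).trans e.symm)
  have hψb : Function.Bijective ψ0 := by
    refine ⟨fun v v' e => Subtype.ext ?_, fun x => ?_⟩
    · rw [← hrπ v, ← hrπ v']
      exact (hsame _ (hrT v) _ (hrT v')).2 e
    · obtain ⟨a, ha, rfl⟩ := hc.onto x
      obtain ⟨t, ht, hat⟩ := hc.le_sup hR (inferInstance : T.Normal) inf_le_right hTb a ha
      exact ⟨⟨π t, t, ht.1, rfl⟩, (hψ _ t ht rfl).trans ((hc.eq_iff ha ht.2).2 hat).symm⟩
  let ψ : Additive (U.map π) ≃+ (Fin 2 → F) :=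
    { toEquiv := Additive.toMul.trans (Equiv.ofBijective ψ0 hψb)
      map_add' := fun a b => by
        show ψ0 (Additive.toMul a * Additive.toMul b) = ψ0 (Additive.toMul a) + ψ0 (Additive.toMul b)
        rw [hψ _ (r (Additive.toMul a) * r (Additive.toMul b)) (mul_mem (hrT _) (hrT _))
          (by rw [map_mul, hrπ, hrπ]; rfl), hc.mul _ (hrT _).2 _ (hrT _).2] }
  let ρ₀ : G ⧸ W₀ →* Matrix.SpecialLinearGroup (Fin 2) F := QuotientGroup.lift W₀ R hWR
  haveI : (U.map π).Normal := hUn.map π (QuotientGroup.mk'_surjective W₀)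
  refine ⟨by rw [Subgroup.normalizer_eq_top], ρ₀.comp (⊤ : Subgroup (G ⧸ W₀)).subtype, ψ, fun x => ?_, ?_, ?_⟩
  · obtain ⟨g, rfl⟩ := hR x
    exact ⟨⟨π g, Subgroup.mem_top _⟩, rfl⟩
  · ext ⟨x, hx⟩
    obtain ⟨g, rfl⟩ := QuotientGroup.mk'_surjective W₀ x
    show R g = 1 ↔ π g ∈ Subgroup.centralizer ((U.map π : Subgroup (G ⧸ W₀)) : Set (G ⧸ W₀))
    rw [Subgroup.mem_centralizer_iff, hc.ker_iff]
    constructor
    · intro hg y hy
      obtain ⟨t, ht, rfl⟩ : ∃ t ∈ T, π t = y := ⟨_, hrT ⟨y, hy⟩, hrπ _⟩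
      rw [eq_comm, ← commutatorElement_eq_one_iff_mul_comm, ← map_commutatorElement, hπ]
      have hm : ⁅g, t⁆ ∈ T := mul_mem ((inferInstance : T.Normal).conj_mem t ht g) (inv_mem ht)
      exact (hWb _ hm).2 (hg t ht.2)
    · intro hg w hw
      obtain ⟨t, ht, hwt⟩ := hc.le_sup hR (inferInstance : T.Normal) inf_le_right hTb w hw
      have hm : ⁅g, t⁆ ∈ T := mul_mem ((inferInstance : T.Normal).conj_mem t ht g) (inv_mem ht)
      have h1 : ⁅g, t⁆ ∈ bot := (hWb _ hm).1 ((hπ _).1 (by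
        rw [map_commutatorElement, commutatorElement_eq_one_iff_mul_comm]
        exact (hg (π t) ⟨t, ht.1, rfl⟩).symm))
      rw [show w = w * t⁻¹ * t by group, ← QuotientGroup.eq_one_iff, ← QuotientGroup.mk'_apply (N := bot),
        map_commutatorElement, map_mul, show QuotientGroup.mk' bot (w * t⁻¹) = 1 from
          (QuotientGroup.eq_one_iff _).2 hwt, one_mul, ← map_commutatorElement, QuotientGroup.mk'_apply,
        QuotientGroup.eq_one_iff]
      exact h1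
  · rintro ⟨x, hx⟩ v
    obtain ⟨g, rfl⟩ := QuotientGroup.mk'_surjective W₀ x
    refine ⟨⟨π g * (v : G ⧸ W₀) * (π g)⁻¹, (inferInstance : (U.map π).Normal).conj_mem _ v.2 _⟩, rfl, ?_⟩
    show ψ0 ⟨π g * (v : G ⧸ W₀) * (π g)⁻¹, _⟩ = (R g : Matrix (Fin 2) (Fin 2) F).mulVec (ψ0 v)
    rw [hψ _ (g * r v * g⁻¹) ((inferInstance : T.Normal).conj_mem _ (hrT v) g)
      (by rw [map_mul, map_mul, _root_.map_inv, hrπ]), hc.conj g _ (hrT v).2]

/-- A normal `p`-subgroup centralizes the chief factors inside it. -/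
theorem chief_pgroup_central {p : ℕ} [Fact p.Prime] (hQ : IsPGroup p Q) (hQn : Q.Normal)
    (hch : IsChiefFactor U W₀) (hU : U ≤ Q) : ∀ u ∈ U, ∀ x ∈ Q, ⁅u, x⁆ ∈ W₀ := by
  obtain ⟨hlt, hUn, hWn, hirr⟩ := hch
  haveI := hUn; haveI := hWn; haveI := hQn
  set π := QuotientGroup.mk' W₀
  have hπ : ∀ x, π x = 1 ↔ x ∈ W₀ := fun x => QuotientGroup.eq_one_iff x
  haveI : (U.map π).Normal := hUn.map π (QuotientGroup.mk'_surjective W₀)
  haveI : (Q.map π).Normal := hQn.map π (QuotientGroup.mk'_surjective W₀)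
  set Z := U.map π ⊓ Subgroup.centralizer ((Q.map π : Subgroup (G ⧸ W₀)) : Set (G ⧸ W₀))
  have hne : (U.map π).subgroupOf (Q.map π) ≠ ⊥ := fun hb => hlt.not_ge fun x hx => (hπ x).1 (by
    have h1 : (⟨π x, x, hU hx, rfl⟩ : ↥(Q.map π)) ∈ (U.map π).subgroupOf (Q.map π) := ⟨x, hx, rfl⟩
    rw [hb, Subgroup.mem_bot] at h1
    exact congrArg Subtype.val h1)
  obtain ⟨z, hz, hzc, hz1⟩ := exists_center_mem (hQ.map π) ((U.map π).subgroupOf (Q.map π)) hne
  have hzZ : (z : G ⧸ W₀) ∈ Z := ⟨hz, Subgroup.mem_centralizer_iff.2 fun y hy =>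
    congrArg Subtype.val (Subgroup.mem_center_iff.1 hzc ⟨y, hy⟩)⟩
  rcases hirr (Z.comap π ⊓ U) inferInstance
    (le_inf (fun x hx => by show π x ∈ Z; rw [(hπ x).2 hx]; exact one_mem Z) hlt.le) inf_le_right with e | e
  · obtain ⟨u, hu, huz⟩ := hz
    refine absurd (Subtype.ext ?_) hz1
    rw [OneMemClass.coe_one]
    change π u = (z : G ⧸ W₀) at huz
    rw [← huz, hπ]
    exact e.le ⟨show π u ∈ Z from huz ▸ hzZ, hu⟩
  · intro u hu x hx
    rw [← hπ, map_commutatorElement, commutatorElement_eq_one_iff_mul_comm]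
    exact (Subgroup.mem_centralizer_iff.1 (e.ge hu).1.2 (π x) ⟨x, hx, rfl⟩).symm

end

end Cfsg.Agent.PushUp
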