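import Cfsg.Agent.Lib.PushUp.RankOne
import Cfsg.Agent.Lib.PushUp.SL2Overgroup
import Cfsg.Agent.Lib.Fusion.ZJApply

/-!
# The situation in which no characteristic subgroup of the Sylow subgroup is normal
-/

set_option autoImplicit false

open scoped commutatorElement

namespace Cfsg.Agent.PushUp

open Cfsg Cfsg.Agent.Fusion

universe u

variable {G : Type u} [Group G]

/-- The elements of the first subgroup which are central in the group. -/
abbrev cenIn (Y : Subgroup G) : Subgroup G := Y ⊓ Subgroup.center G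

/-- What holds when `Z(S)` is not central: `Q` is the `p`-core, `Y` is the normal closure of `Z(S)` and `M` is
the maximal subgroup over `S`. -/
structure PUp0 (S Q Y M : Subgroup G) (p q : ℕ) : Prop where
  two_le : 2 ≤ q
  Qn : Q.Normal
  Yn : Y.Normal
  Q_le : Q ≤ S
  Y_le : Y ≤ Q
  Q_cent : Q ≤ Subgroup.centralizer (Y : Set G)
  Y_exp : ∀ y ∈ Y, y ^ p = 1
  S_le : S ≤ M
  M_ne : M ≠ ⊤
  top : ∀ H : Subgroup G, S ≤ H → ¬ H ≤ M → H = ⊤
  ti : ∀ g ∉ M, ∀ x ∈ M, g⁻¹ * x * g ∈ S → x ∈ Q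
  idxS : Q.relIndex S = q
  idxY : (zS S).relIndex Y = q
  Z_le : zS S ≤ Y
  Z_char : ∀ σ : MulAut ↥S, ∀ x : ↥S, (x : G) ∈ zS S → (σ x : G) ∈ zS S
  cent : ∀ s ∈ S, s ∉ Q → ∀ y ∈ Y, ⁅y, s⁆ ∈ cenIn Y → y ∈ zS S
  disp : ∀ W C : Subgroup G, W.Normal → C.Normal → C ≤ W → W ≤ Q →
    (∀ g : G, (∀ w ∈ W, ⁅w, g⁆ ∈ C) → g ∈ M) → ∀ s ∈ S, s ∉ Q → ∀ D : Subgroup G, D ≤ W →
      (∀ d ∈ D, ⁅d, s⁆ ∈ C) → q ≤ D.relIndex W

/-- What is needed for pushing up: moreover no characteristic subgroup of `S` is normal. -/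
structure PUp (S Q Y M : Subgroup G) (p q : ℕ) : Prop extends PUp0 S Q Y M p q where
  hd : ∀ T : Subgroup ↥S, T ≠ ⊥ → T.Characteristic → ¬ (T.map S.subtype).Normal

variable [Finite G] {p n : ℕ} [hp : Fact p.Prime] {S : Sylow p G} {F : Type} [Field F] [Fintype F]
  {φ : G →* Matrix.ProjectiveSpecialLinearGroup (Fin 2) F}

theorem centerA_char (S : Subgroup G) (σ : MulAut ↥S) (x : ↥S) (hx : (x : G) ∈ centerThompsonAOf S) :
    (σ x : G) ∈ centerThompsonAOf S := by
  obtain ⟨⟨y, hy, hyx⟩, hc⟩ := hx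
  obtain rfl : y = x := Subtype.ext hyx
  have hmap := map_thompsonSubgroupA σ
  refine ⟨⟨σ y, ?_, rfl⟩, Subgroup.mem_centralizer_iff.2 ?_⟩
  · exact hmap.le ⟨y, hy, rfl⟩
  · rintro _ ⟨z, hz, rfl⟩
    obtain ⟨w, hw, rfl⟩ := hmap.ge hz
    have h : w * y = y * w := Subtype.ext (Subgroup.mem_centralizer_iff.1 hc (w : G) ⟨w, hw, rfl⟩)
    exact congrArg Subtype.val (by rw [← map_mul, ← map_mul, h] : σ w * σ y = σ y * σ w)

theorem subgroupOf_characteristic {S X : Subgroup G}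
    (h : ∀ σ : MulAut ↥S, ∀ x : ↥S, (x : G) ∈ X → (σ x : G) ∈ X) : (X.subgroupOf S).Characteristic := by
  refine Subgroup.characteristic_iff_comap_eq.2 fun σ => le_antisymm (fun x hx => ?_) fun x hx => h σ x hx
  have := h σ.symm (σ x) hx
  rwa [σ.symm_apply_apply] at this

theorem eq_bot_of_hd {S X : Subgroup G}
    (hd : ∀ T : Subgroup ↥S, T ≠ ⊥ → T.Characteristic → ¬ (T.map S.subtype).Normal) (hXS : X ≤ S)
    (hX : X.Normal) (h : ∀ σ : MulAut ↥S, ∀ x : ↥S, (x : G) ∈ X → (σ x : G) ∈ X) : X = ⊥ := by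
  by_contra hne
  refine hd (X.subgroupOf S) (fun h0 => hne ?_) (subgroupOf_characteristic h) ?_
  · rw [Subgroup.subgroupOf_eq_bot, disjoint_iff, inf_eq_left.2 hXS] at h0
    exact h0
  · rwa [Subgroup.subgroupOf_map_subtype, inf_eq_left.2 hXS]

theorem exists_center_mem {p : ℕ} [Fact p.Prime] {T : Type*} [Group T] [Finite T] (hT : IsPGroup p T)
    (N : Subgroup T) [N.Normal] (hN : N ≠ ⊥) : ∃ z ∈ N, z ∈ Subgroup.center T ∧ z ≠ 1 := by
  have hfix := (hT.of_equiv (ConjAct.toConjAct (G := T))).exists_fixed_point_of_prime_dvd_card_of_fixed_point N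
    ?_ (a := (1 : N)) ?_
  · obtain ⟨b, hb, hne⟩ := hfix
    refine ⟨b, b.2, Subgroup.mem_center_iff.2 fun t => ?_, fun h => hne (Subtype.ext h.symm)⟩
    have := congrArg Subtype.val (hb (ConjAct.toConjAct t))
    change ConjAct.toConjAct t • (b : T) = b at this
    rw [ConjAct.toConjAct_smul, mul_inv_eq_iff_eq_mul] at this
    exact this
  · obtain ⟨n, hn⟩ := IsPGroup.iff_card.1 (hT.to_subgroup N)
    rw [hn]
    refine dvd_pow_self p ?_
    rintro rfl
    exact hN (Subgroup.eq_bot_of_card_eq N (by rw [hn, pow_zero]))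
  · intro g
    exact Subtype.ext (show g • (1 : T) = 1 from smul_one g)

namespace Setting

variable (R : Setting p n S F φ)
include R

theorem M_eq : ∀ B : Subgroup G, B ≠ ⊤ → (S : Subgroup G) ≤ B →
    (∀ H : Subgroup G, (S : Subgroup G) ≤ H → φ.ker ≤ H → H ≠ ⊤ → H ≤ B) → B = R.M := fun B hB hSB hmax =>
  le_antisymm (by_contra fun h => hB (R.top_of_not_le hSB h)) (hmax R.M R.le_M R.ker_le R.M_coatom.1)

theorem ti_ker {g : G} (hg : g ∉ R.M) {x : G} (hx : x ∈ R.M) (hgx : g⁻¹ * x * g ∈ (S : Subgroup G)) :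
    φ x = 1 := by
  obtain ⟨B, hB, hSB, -, hmax, hti⟩ := borel_preimage R.hF R.hn S φ R.surj
  rw [R.M_eq B hB hSB hmax] at hti
  exact hti g hg x hx hgx

theorem Q_le_ker : pCore p G ≤ φ.ker := by
  obtain ⟨g, hg⟩ : ∃ g, g ∉ R.M := by
    by_contra hc
    simp only [not_exists, not_not] at hc
    exact R.M_coatom.1 (eq_top_iff.2 fun x _ => hc x)
  intro x hx
  exact R.ti_ker hg (R.le_M (R.Q_le hx)) (R.Q_le (by
    simpa using Subgroup.Normal.conj_mem (inferInstance : (pCore p G).Normal) x hx g⁻¹))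

theorem idxS : (pCore p G).relIndex (S : Subgroup G) = p ^ n := by
  haveI : Finite (Matrix.ProjectiveSpecialLinearGroup (Fin 2) F) := Finite.of_surjective φ R.surj
  refine Eq.trans ?_ ((Subgroup.relIndex_ker (S : Subgroup G) φ).trans
    (sylow_psl_card R.hF R.hn (S.mapSurjective R.surj)))
  rw [← Subgroup.inf_relIndex_right φ.ker, ← Subgroup.inf_relIndex_right (pCore p G)]
  congr 1
  exact le_antisymm (inf_le_inf_right _ R.Q_le_ker)
    (le_inf (inf_comm φ.ker (S : Subgroup G) ▸ R.inf_le_Q R.ker_le) inf_le_right)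

/-- Displacement on a section of `O_p(G)`. -/
theorem sect_disp {W C : Subgroup G} [W.Normal] [C.Normal] (hCW : C ≤ W) (hWQ : W ≤ pCore p G)
    (hN : ∀ g : G, (∀ w ∈ W, ⁅w, g⁆ ∈ C) → g ∈ R.M) {s : G} (hs : s ∈ (S : Subgroup G))
    (hsQ : s ∉ pCore p G) {D : Subgroup G} (hDW : D ≤ W) (hD : ∀ d ∈ D, ⁅d, s⁆ ∈ C) :
    p ^ n ≤ D.relIndex W := by
  set π := QuotientGroup.mk' C with hπ
  have hπs : Function.Surjective π := QuotientGroup.mk'_surjective C
  have hπ1 : ∀ x, π x = 1 ↔ x ∈ C := fun x => QuotientGroup.eq_one_iff x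
  haveI : (W.map π).Normal := Subgroup.Normal.map inferInstance _ hπs
  have hmem : ∀ g : G, π g ∈ Subgroup.centralizer ((W.map π : Subgroup (G ⧸ C)) : Set (G ⧸ C)) ↔
      ∀ w ∈ W, ⁅w, g⁆ ∈ C := by
    intro g
    simp only [Subgroup.mem_centralizer_iff, SetLike.mem_coe, Subgroup.mem_map, forall_exists_index, and_imp,
      forall_apply_eq_imp_iff₂]
    refine forall_congr' fun w => imp_congr_right fun _ => ?_
    rw [← hπ1, map_commutatorElement, commutatorElement_eq_one_iff_mul_comm]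
  set N := (Subgroup.centralizer ((W.map π : Subgroup (G ⧸ C)) : Set (G ⧸ C))).comap π with hNdef
  have hNM : N ≤ R.M := fun g hg => hN g ((hmem g).1 hg)
  haveI : N.Normal := by rw [hNdef]; infer_instance
  have hCker : C ≤ φ.ker := (hCW.trans hWQ).trans R.Q_le_ker
  let φ' : G ⧸ C →* Matrix.ProjectiveSpecialLinearGroup (Fin 2) F := QuotientGroup.lift C φ hCker
  have hφ' : ∀ g, φ' (π g) = φ g := fun g => rfl
  obtain ⟨k, hk⟩ := S.2 ⟨s, hs⟩
  have hk' : s ^ p ^ k = 1 := congrArg Subtype.val hk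
  have hW : IsPGroup p (W.map π) := ((isPGroup_pCore p G).to_le hWQ).map π
  have h1 := displacement (V := W.map π) hW R.hn R.hF φ'
    (fun y => by obtain ⟨x, rfl⟩ := R.surj y; exact ⟨π x, hφ' x⟩)
    (fun h2 y hy => by
      obtain ⟨g, rfl⟩ := hπs y
      exact (hφ' g).trans (R.normal_le_ker h2 hNM hy))
    (s := π s) (k := k) (by rw [← map_pow, hk', map_one]) (by rw [hφ']; exact R.map_ne_one hs hsQ)
    (fun hc => hsQ (R.inf_le_Q hNM ⟨hs, hc⟩))
  refine h1.trans ?_
  have h3 : (W.map π ⊓ Subgroup.centralizer ({π s} : Set (G ⧸ C))).relIndex (W.map π) ≤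
      (D.map π).relIndex (W.map π) := by
    refine Subgroup.relIndex_le_of_le_left ?_ Subgroup.index_ne_zero_of_finite
    rintro _ ⟨d, hd, rfl⟩
    refine ⟨⟨d, hDW hd, rfl⟩, Subgroup.mem_centralizer_iff.2 ?_⟩
    rintro _ rfl
    rw [eq_comm, ← commutatorElement_eq_one_iff_mul_comm, ← map_commutatorElement, hπ1]
    exact hD d hd
  refine h3.trans ?_
  rw [Subgroup.relIndex_map_map, QuotientGroup.ker_mk', sup_eq_left.2 hCW]
  exact Subgroup.relIndex_le_of_le_left le_sup_left Subgroup.index_ne_zero_of_finite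

/-- The data when `Z(S)` is not central, `Z(J(S)) ≤ Z(S)` and `Z(S)` has exponent `p`. -/
theorem pUp0 (hz : ¬ zS (S : Subgroup G) ≤ Subgroup.center G)
    (hJ : (S : Subgroup G) ≤ Subgroup.centralizer (centerThompsonAOf (S : Subgroup G) : Set G))
    (hzexp : ∀ z ∈ zS (S : Subgroup G), z ^ p = 1) :
    PUp0 (S : Subgroup G) (pCore p G) (yS (S : Subgroup G)) R.M p (p ^ n) := by
  have hn1 : 2 ≤ p ^ n := le_trans hp.out.two_le (Nat.le_self_pow (by have := R.hn; omega) p)
  have hcn : ∀ X : Subgroup G, X ≤ Subgroup.center G → X.Normal := fun X hX => ⟨fun x hx g => by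
    rwa [Subgroup.mem_center_iff.1 (hX hx) g, mul_inv_cancel_right]⟩
  have zchar : ∀ σ : MulAut ↥(S : Subgroup G), ∀ x : ↥(S : Subgroup G),
      (x : G) ∈ zS (S : Subgroup G) → (σ x : G) ∈ zS (S : Subgroup G) := by
    intro σ x hx
    refine ⟨(σ x).2, Subgroup.mem_centralizer_iff.2 fun y hy => ?_⟩
    obtain ⟨w, hw⟩ := σ.surjective ⟨y, hy⟩
    have h : w * x = x * w := Subtype.ext (Subgroup.mem_centralizer_iff.1 hx.2 (w : G) w.2)
    have h2 := congrArg σ h
    rw [map_mul, map_mul, hw] at h2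
    exact congrArg Subtype.val h2
  -- the offending case holds
  have hO : Offending R := by
    rcases R.cases with h | h | h
    · exact absurd h hz
    · exfalso
      rw [cZJ, inf_eq_left.2 hJ] at h
      haveI := h
      have h1 := R.idxS
      rw [Subgroup.relIndex_eq_one.2 (Fusion.le_pCore S.2)] at h1
      omega
    · exact h
  obtain ⟨A, hA, hAQ⟩ := hO.exA
  have hYexp : ∀ y ∈ yS (S : Subgroup G), y ^ p = 1 := by
    intro y hy
    refine Subgroup.closure_induction (p := fun y _ => y ^ p = 1) ?_ (one_pow p) ?_ ?_ hy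
    · intro x hx
      obtain ⟨z, hz, hzx⟩ := Group.mem_conjugatesOfSet_iff.1 hx
      obtain ⟨g, rfl⟩ := isConj_iff.1 hzx
      rw [conj_pow, hzexp z hz, mul_one, mul_inv_cancel]
    · intro a b ha hb ha' hb'
      have hc : Commute a b := congrArg Subtype.val (R.Y_comm.1.1 ⟨a, ha⟩ ⟨b, hb⟩)
      rw [hc.mul_pow, ha', hb', one_mul]
    · intro a _ ha'
      rw [inv_pow, ha', inv_one]
  obtain ⟨hAY, -, -, hSA, -⟩ := hO.counts hA hAQ
  have hidxY : (zS (S : Subgroup G)).relIndex (yS (S : Subgroup G)) = p ^ n := by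
    rw [← hAY, ← Subgroup.inf_relIndex_right A]
    congr 1
    refine le_antisymm (le_inf (fun z hz => (Setting.Z_mem_iff.1 (Setting.zS_le_Z hz)).2 A hA) Subgroup.le_normalClosure) ?_
    rintro y ⟨hyA, hyY⟩
    refine ⟨hA.1 hyA, Subgroup.mem_centralizer_iff.2 fun s hs => ?_⟩
    rw [SetLike.mem_coe, ← hSA] at hs
    obtain ⟨a, ha, x, hx, rfl⟩ := Subgroup.mem_sup_of_normal_right.1 hs
    exact ((show Commute a y from congrArg Subtype.val (hA.2.1.1.1 ⟨a, ha⟩ ⟨y, hyA⟩)).mul_left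
      (show Commute x y from (Subgroup.mem_centralizer_iff.1 (R.Q_le_CY hx) y hyY).symm)).eq
  have hzn : ¬ (zS (S : Subgroup G)).Normal := fun h => by
    haveI := h
    have h1 : (zS (S : Subgroup G)).relIndex (yS (S : Subgroup G)) = 1 :=
      Subgroup.relIndex_eq_one.2 (Subgroup.normalClosure_le_normal fun _ hx => hx)
    omega
  have hdisp : ∀ W C : Subgroup G, W.Normal → C.Normal → C ≤ W → W ≤ pCore p G →
      (∀ g : G, (∀ w ∈ W, ⁅w, g⁆ ∈ C) → g ∈ R.M) → ∀ s ∈ (S : Subgroup G), s ∉ pCore p G →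
      ∀ D : Subgroup G, D ≤ W → (∀ d ∈ D, ⁅d, s⁆ ∈ C) → p ^ n ≤ D.relIndex W :=
    fun W C hW hC hCW hWQ hN s hs hsQ D hDW hD => by
      haveI := hW; haveI := hC; exact R.sect_disp hCW hWQ hN hs hsQ hDW hD
  refine ⟨hn1, inferInstance, inferInstance, R.Q_le, R.Y_le_Q, R.Q_le_CY, hYexp, R.le_M, R.M_coatom.1,
    fun H => R.top_of_not_le, fun g hg x hx hgx => ?_, R.idxS, hidxY, Subgroup.le_normalClosure, zchar, ?_,
    hdisp⟩
  · have hx1 := R.ti_ker hg hx hgx
    have h1 : g⁻¹ * x * g ∈ pCore p G := R.inf_le_Q R.ker_le ⟨hgx, by simp [hx1]⟩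
    simpa [mul_assoc] using Subgroup.Normal.conj_mem (inferInstance : (pCore p G).Normal) _ h1 g
  -- an element of `S` outside `O_p(G)` fixes only `Z(S)` modulo the centre
  · intro s hs hsQ y hy hys
    set Y := yS (S : Subgroup G) with hY
    set C := cenIn Y
    haveI hCn : C.Normal := hcn _ inf_le_right
    have hcl : ∀ a ∈ C, ∀ g : G, g * a * g⁻¹ = a := fun a ha g => by
      rw [Subgroup.mem_center_iff.1 ha.2 g, mul_inv_cancel_right]
    set D : Subgroup G :=
      { carrier := {d | d ∈ Y ∧ ⁅d, s⁆ ∈ C}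
        one_mem' := ⟨one_mem _, by rw [commutatorElement_one_left]; exact one_mem _⟩
        mul_mem' := fun {a b} ha hb => ⟨mul_mem ha.1 hb.1, by
          rw [show ⁅a * b, s⁆ = a * ⁅b, s⁆ * a⁻¹ * ⁅a, s⁆ by simp only [commutatorElement_def]; group, hcl _ hb.2]
          exact mul_mem hb.2 ha.2⟩
        inv_mem' := fun {a} ha => ⟨inv_mem ha.1, by
          rw [show ⁅a⁻¹, s⁆ = a⁻¹ * ⁅a, s⁆⁻¹ * a⁻¹⁻¹ by simp only [commutatorElement_def]; group,
            hcl _ (inv_mem ha.2)]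
          exact inv_mem ha.2⟩ }
    have hN : ∀ g : G, (∀ w ∈ Y, ⁅w, g⁆ ∈ C) → g ∈ R.M := by
      by_contra hcon
      simp only [not_forall] at hcon
      obtain ⟨g, hg, hgM⟩ := hcon
      have hC : C ≤ zS (S : Subgroup G) := fun c hc => ⟨R.Q_le (R.Y_le_Q hc.1),
        Subgroup.mem_centralizer_iff.2 fun x _ => Subgroup.mem_center_iff.1 hc.2 x⟩
      refine hzn (Subgroup.normalizer_eq_top_iff.1 (R.top_of_not_le (fun x hx => ?_) fun h => hgM (h ?_)))
      · refine mem_normalizer_iff_cj_le.2 ?_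
        rintro _ ⟨z, hz, rfl⟩
        show x * z * x⁻¹ ∈ _
        rw [Subgroup.mem_centralizer_iff.1 hz.2 x hx, mul_inv_cancel_right]
        exact hz
      · refine mem_normalizer_iff_cj_le.2 ?_
        rintro _ ⟨z, hz, rfl⟩
        show g * z * g⁻¹ ∈ _
        have h1 := hg z (Subgroup.subset_normalClosure hz)
        rw [show g * z * g⁻¹ = ⁅z, g⁆⁻¹ * z by simp only [commutatorElement_def]; group]
        exact mul_mem (inv_mem (hC h1)) hz
    have hDle : zS (S : Subgroup G) ≤ D := fun z hz => ⟨Subgroup.subset_normalClosure hz, by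
      rw [commutatorElement_eq_one_iff_mul_comm.2 (Subgroup.mem_centralizer_iff.1 hz.2 s hs).symm]
      exact one_mem _⟩
    have h1 : p ^ n ≤ D.relIndex Y :=
      hdisp Y C inferInstance hCn inf_le_left R.Y_le_Q hN s hs hsQ D (fun d hd => hd.1) (fun d hd => hd.2)
    have h2 := Subgroup.relIndex_mul_relIndex (zS (S : Subgroup G)) D Y hDle (fun d hd => hd.1)
    rw [hidxY] at h2
    have h3 : (zS (S : Subgroup G)).relIndex D = 1 := by
      have h4 := Nat.pos_of_ne_zero (relIndex_ne_zero' (zS (S : Subgroup G)) D)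
      by_contra hne
      have h5 : 2 * p ^ n ≤ (zS (S : Subgroup G)).relIndex D * D.relIndex Y := Nat.mul_le_mul (by omega) h1
      omega
    exact Subgroup.relIndex_eq_one.1 h3 (show y ∈ D from ⟨hy, hys⟩)

/-- No nontrivial characteristic subgroup of `S` being normal gives the data for pushing up. -/
theorem pUp (hd : ∀ T : Subgroup ↥(S : Subgroup G), T ≠ ⊥ → T.Characteristic →
      ¬ (T.map (S : Subgroup G).subtype).Normal) :
    PUp (S : Subgroup G) (pCore p G) (yS (S : Subgroup G)) R.M p (p ^ n) := by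
  have hn1 : 2 ≤ p ^ n := le_trans hp.out.two_le (Nat.le_self_pow (by have := R.hn; omega) p)
  have hcn : ∀ X : Subgroup G, X ≤ Subgroup.center G → X.Normal := fun X hX => ⟨fun x hx g => by
    rwa [Subgroup.mem_center_iff.1 (hX hx) g, mul_inv_cancel_right]⟩
  have zchar : ∀ σ : MulAut ↥(S : Subgroup G), ∀ x : ↥(S : Subgroup G),
      (x : G) ∈ zS (S : Subgroup G) → (σ x : G) ∈ zS (S : Subgroup G) := by
    intro σ x hx
    refine ⟨(σ x).2, Subgroup.mem_centralizer_iff.2 fun y hy => ?_⟩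
    obtain ⟨w, hw⟩ := σ.surjective ⟨y, hy⟩
    have h : w * x = x * w := Subtype.ext (Subgroup.mem_centralizer_iff.1 hx.2 (w : G) w.2)
    have h2 := congrArg σ h
    rw [map_mul, map_mul, hw] at h2
    exact congrArg Subtype.val h2
  have hSne : (S : Subgroup G) ≠ ⊥ := fun h => by
    have h1 := R.idxS
    rw [h, Subgroup.relIndex_bot_right] at h1
    omega
  have hzne : zS (S : Subgroup G) ≠ ⊥ := by
    haveI : Nontrivial ↥(S : Subgroup G) := (Subgroup.nontrivial_iff_ne_bot _).2 hSne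
    haveI := S.2.center_nontrivial
    obtain ⟨⟨z, hz⟩, hz1⟩ := exists_ne (1 : Subgroup.center ↥(S : Subgroup G))
    intro h
    have hm : (z : G) ∈ zS (S : Subgroup G) := ⟨z.2, Subgroup.mem_centralizer_iff.2 fun y hy =>
      congrArg Subtype.val (Subgroup.mem_center_iff.1 hz ⟨y, hy⟩)⟩
    rw [h, Subgroup.mem_bot] at hm
    exact hz1 (Subtype.ext (Subtype.ext hm))
  have hzn : ¬ (zS (S : Subgroup G)).Normal := fun h => hzne (eq_bot_of_hd hd inf_le_left h zchar)
  -- the offending case holds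
  have hcchar : ∀ σ : MulAut ↥(S : Subgroup G), ∀ x : ↥(S : Subgroup G),
      (x : G) ∈ cZJ (S : Subgroup G) → (σ x : G) ∈ cZJ (S : Subgroup G) := by
    intro σ x hx
    refine ⟨(σ x).2, Subgroup.mem_centralizer_iff.2 fun y hy => ?_⟩
    have hyS : y ∈ (S : Subgroup G) := (Setting.Z_mem_iff.1 hy).1
    have hy' := centerA_char (S : Subgroup G) σ.symm ⟨y, hyS⟩ hy
    have h : σ.symm ⟨y, hyS⟩ * x = x * σ.symm ⟨y, hyS⟩ :=
      Subtype.ext (Subgroup.mem_centralizer_iff.1 hx.2 _ hy')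
    have h2 := congrArg σ h
    rw [map_mul, map_mul, σ.apply_symm_apply] at h2
    exact congrArg Subtype.val h2
  have hO : Offending R := by
    rcases R.cases with h | h | h
    · exact absurd (hcn _ h) hzn
    · have hzc : zS (S : Subgroup G) ≤ cZJ (S : Subgroup G) := fun z hz => ⟨hz.1,
        Subgroup.mem_centralizer_iff.2 fun y hy =>
          Subgroup.mem_centralizer_iff.1 hz.2 y (Setting.Z_mem_iff.1 hy).1⟩
      exact absurd (le_bot_iff.1 (hzc.trans (eq_bot_of_hd hd inf_le_left h hcchar).le)) hzne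
    · exact h
  -- `Z(J(S)) = Z(S)`
  have hcomm : ∀ z ∈ centerThompsonAOf (S : Subgroup G), z ∈ zS (S : Subgroup G) := by
    set X := ⁅centerThompsonAOf (S : Subgroup G), (S : Subgroup G)⁆ with hX
    have hZS : centerThompsonAOf (S : Subgroup G) ≤ (S : Subgroup G) := fun z hz => (Setting.Z_mem_iff.1 hz).1
    have hXS : X ≤ (S : Subgroup G) := by
      rw [hX, Subgroup.commutator_le]
      intro a ha b hb
      rw [commutatorElement_def]
      exact mul_mem (mul_mem (mul_mem (hZS ha) hb) (inv_mem (hZS ha))) (inv_mem hb)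
    have hXchar : ∀ σ : MulAut ↥(S : Subgroup G), ∀ x : ↥(S : Subgroup G), (x : G) ∈ X → (σ x : G) ∈ X := by
      intro σ x hx
      have key : X ≤ ((X.subgroupOf (S : Subgroup G)).comap σ.toMonoidHom).map (S : Subgroup G).subtype := by
        rw [hX, Subgroup.commutator_le]
        intro a ha b hb
        refine ⟨⁅(⟨a, hZS ha⟩ : ↥(S : Subgroup G)), ⟨b, hb⟩⁆, ?_, rfl⟩
        rw [SetLike.mem_coe, Subgroup.mem_comap, map_commutatorElement]
        exact Subgroup.commutator_mem_commutator (centerA_char (S : Subgroup G) σ ⟨a, hZS ha⟩ ha) (σ ⟨b, hb⟩).2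
      obtain ⟨w, hw, hwx⟩ := key hx
      obtain rfl : w = x := Subtype.ext hwx
      exact hw
    have hXbot : X ⊓ zS (S : Subgroup G) = ⊥ := eq_bot_of_hd hd (inf_le_right.trans inf_le_left)
      (hcn _ hO.comm_inf_le_center) fun σ x hx => ⟨hXchar σ x hx.1, zchar σ x hx.2⟩
    have hXn : (X.subgroupOf (S : Subgroup G)).Normal := by
      haveI := subgroupOf_characteristic hXchar
      infer_instance
    have hX0 : X.subgroupOf (S : Subgroup G) = ⊥ := by
      by_contra hne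
      haveI := hXn
      obtain ⟨x, hx, hxc, hx1⟩ := exists_center_mem S.2 (X.subgroupOf (S : Subgroup G)) hne
      have hm : (x : G) ∈ X ⊓ zS (S : Subgroup G) := ⟨hx, x.2, Subgroup.mem_centralizer_iff.2 fun y hy =>
        congrArg Subtype.val (Subgroup.mem_center_iff.1 hxc ⟨y, hy⟩)⟩
      rw [hXbot, Subgroup.mem_bot] at hm
      exact hx1 (Subtype.ext hm)
    intro z hz
    refine ⟨hZS hz, Subgroup.mem_centralizer_iff.2 fun y hy => ?_⟩
    have h1 : (⟨⁅z, y⁆, hXS (Subgroup.commutator_mem_commutator hz hy)⟩ : ↥(S : Subgroup G)) ∈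
        X.subgroupOf (S : Subgroup G) := Subgroup.commutator_mem_commutator hz hy
    rw [hX0, Subgroup.mem_bot] at h1
    exact (commutatorElement_eq_one_iff_mul_comm.1 (congrArg Subtype.val h1)).symm
  have hzexp : ∀ z ∈ zS (S : Subgroup G), z ^ p = 1 := by
    set P0 := powerClosure p 1 (zS (S : Subgroup G))
    have hP0S : P0 ≤ (S : Subgroup G) := (Subgroup.closure_le _).2 (by
      rintro _ ⟨x, hx, rfl⟩
      exact pow_mem hx.1 _)
    have hP0c : P0 ≤ Subgroup.center G := (Subgroup.closure_le _).2 (by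
      rintro _ ⟨x, hx, rfl⟩
      rw [pow_one]
      exact hO.pow_mem_center hx)
    have hP0char : ∀ σ : MulAut ↥(S : Subgroup G), ∀ x : ↥(S : Subgroup G), (x : G) ∈ P0 → (σ x : G) ∈ P0 := by
      intro σ x hx
      have key : P0 ≤ ((P0.subgroupOf (S : Subgroup G)).comap σ.toMonoidHom).map (S : Subgroup G).subtype := by
        refine (Subgroup.closure_le _).2 ?_
        rintro _ ⟨y, hy, rfl⟩
        refine ⟨⟨y, hy.1⟩ ^ p ^ 1, ?_, rfl⟩
        rw [SetLike.mem_coe, Subgroup.mem_comap, map_pow]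
        exact Subgroup.subset_closure ⟨_, zchar σ ⟨y, hy.1⟩ hy, rfl⟩
      obtain ⟨w, hw, hwx⟩ := key hx
      obtain rfl : w = x := Subtype.ext hwx
      exact hw
    have h0 := eq_bot_of_hd hd hP0S (hcn _ hP0c) hP0char
    intro z hz
    have : z ^ p ^ 1 ∈ P0 := Subgroup.subset_closure ⟨z, hz, rfl⟩
    rwa [h0, Subgroup.mem_bot, pow_one] at this
  refine ⟨R.pUp0 (fun h => hzn (hcn _ h)) (fun y hy => ?_) hzexp, hd⟩
  exact Subgroup.mem_centralizer_iff.2 fun z hz => ((Subgroup.mem_centralizer_iff.1 (hcomm z hz).2 y hy)).symm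

end Setting

end Cfsg.Agent.PushUp
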