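import Cfsg.Agent.Lib.PushUp.CoordRigid
import Cfsg.Agent.Lib.PushUp.BaseFacts

/-!
# Natural sections
-/

set_option autoImplicit false

open scoped commutatorElement

namespace Cfsg.Agent.PushUp

open Cfsg

universe u w

variable {G : Type u} [Group G]

/-- A section with a spread. -/
structure SpreadSect (S Q M W C A : Subgroup G) (q : ℕ) : Prop where
  Wn : W.Normal
  Cn : C.Normal
  hCA : C ≤ A
  hAW : A ≤ W
  comm : ∀ a ∈ W, ∀ b ∈ W, ⁅a, b⁆ ∈ C
  Q_triv : ∀ x ∈ Q, ∀ w ∈ W, ⁅w, x⁆ ∈ C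
  idxA : C.relIndex A = q
  idxW : A.relIndex W = q
  fix : ∀ s ∈ S, ∀ a ∈ A, ⁅a, s⁆ ∈ C
  free : ∀ s ∈ S, s ∉ Q → ∀ w ∈ W, ⁅w, s⁆ ∈ C → w ∈ A
  ti : ∀ g ∉ M, ∀ a ∈ A, g * a * g⁻¹ ∈ A → a ∈ C

/-- `R` gives the action on the natural section `W / C`. -/
structure NatSect {F : Type w} [Field F] (W C : Subgroup G)
    (R : G →* Matrix.SpecialLinearGroup (Fin 2) F) (c : G → Fin 2 → F) : Prop where
  Wn : W.Normal
  Cn : C.Normal
  le : C ≤ W
  mul : ∀ a ∈ W, ∀ b ∈ W, c (a * b) = c a + c b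
  zero : ∀ a ∈ W, (c a = 0 ↔ a ∈ C)
  onto : ∀ v, ∃ a ∈ W, c a = v
  conj : ∀ g : G, ∀ a ∈ W, c (g * a * g⁻¹) = (R g : Matrix (Fin 2) (Fin 2) F).mulVec (c a)

theorem SpreadSect.exists_nat [Finite G] {S Q M W C A : Subgroup G} {p q : ℕ} {Y : Subgroup G}
    (P : SpreadSect S Q M W C A q) (h : PUp0 S Q Y M p q) {g : G} (hg : g ∉ M) {s₁ : G} (hs₁ : s₁ ∈ S)
    (hs₁Q : s₁ ∉ Q) {K : Subgroup G} (hK : K.Normal) (hKM : K ≤ M)
    (htor : ∀ x ∈ M, g⁻¹ * x * g ∈ M → ∀ y ∈ M, g⁻¹ * y * g ∈ M → ⁅x, y⁆ ∈ K)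
    (F : Type w) [Field F] [Fintype F] (hF : Fintype.card F = q) :
    ∃ (R : G →* Matrix.SpecialLinearGroup (Fin 2) F) (c : G → Fin 2 → F),
      Coord S Q M g s₁ R ∧ NatSect W C R c := by
  classical
  haveI := P.Wn; haveI := P.Cn
  set π := QuotientGroup.mk' C
  have hπ : ∀ x, π x = 1 ↔ x ∈ C := fun x => QuotientGroup.eq_one_iff x
  set Wb := W.map π
  haveI : Wb.Normal := P.Wn.map π (QuotientGroup.mk'_surjective C)
  haveI : IsMulCommutative Wb := ⟨⟨by
    rintro ⟨_, a, ha, rfl⟩ ⟨_, b, hb, rfl⟩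
    apply Subtype.ext
    show π a * π b = π b * π a
    rw [← commutatorElement_eq_one_iff_mul_comm, ← map_commutatorElement, hπ]
    exact P.comm a ha b hb⟩⟩
  letI : CommGroup Wb := { (inferInstance : Group Wb) with mul_comm := fun a b => IsMulCommutative.is_comm.comm a b }
  let act : G → AddMonoid.End (Additive Wb) := fun x =>
    MonoidHom.toAdditive ((MulAut.conjNormal (H := Wb) (π x)).toMonoidHom)
  have hval : ∀ (x : G) (v : Additive Wb), ((Additive.toMul (act x v) : Wb) : G ⧸ C) =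
      π x * ((Additive.toMul v : Wb) : G ⧸ C) * (π x)⁻¹ := fun x v => MulAut.conjNormal_apply (π x) _
  let ρ : G →* AddMonoid.End (Additive Wb) :=
  { toFun := act
    map_one' := by
      refine AddMonoidHom.ext fun v => Additive.toMul.injective (Subtype.ext ?_)
      show ((Additive.toMul (act 1 v) : Wb) : G ⧸ C) = ((Additive.toMul v : Wb) : G ⧸ C)
      rw [hval, map_one]; group
    map_mul' := fun x y => by
      refine AddMonoidHom.ext fun v => Additive.toMul.injective (Subtype.ext ?_)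
      show ((Additive.toMul (act (x * y) v) : Wb) : G ⧸ C) = ((Additive.toMul (act x (act y v)) : Wb) : G ⧸ C)
      rw [hval, hval, hval, map_mul]; group }
  let Ab : AddSubgroup (Additive Wb) := Subgroup.toAddSubgroup ((A.map π).subgroupOf Wb)
  let cl : (a : G) → a ∈ W → Additive Wb := fun a ha => Additive.ofMul (⟨π a, ⟨a, ha, rfl⟩⟩ : Wb)
  have hρ : ∀ (x a : G) (ha : a ∈ W), ρ x (cl a ha) = cl (x * a * x⁻¹) (P.Wn.conj_mem a ha x) := fun x a ha =>
    Additive.toMul.injective (Subtype.ext ((hval x (cl a ha)).trans (by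
      show π x * π a * (π x)⁻¹ = π (x * a * x⁻¹)
      rw [map_mul, map_mul, map_inv])))
  have hclA : ∀ (a : G) (ha : a ∈ W), cl a ha ∈ Ab ↔ a ∈ A := fun a ha => by
    show π a ∈ A.map π ↔ a ∈ A
    rw [← Subgroup.mem_comap, Subgroup.comap_map_eq, QuotientGroup.ker_mk', sup_eq_left.2 P.hCA]
  have hcl0 : ∀ (a : G) (ha : a ∈ W), cl a ha = 0 ↔ a ∈ C := fun a ha => by
    rw [← hπ a]
    exact ⟨fun e => congrArg (fun v : Additive Wb => ((Additive.toMul v : Wb) : G ⧸ C)) e,
      fun e => Additive.toMul.injective (Subtype.ext e)⟩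
  have hsurj : ∀ v : Additive Wb, ∃ (a : G) (ha : a ∈ W), cl a ha = v := fun v => by
    obtain ⟨a, ha, e⟩ := (Additive.toMul v : Wb).2
    exact ⟨a, ha, Additive.toMul.injective (Subtype.ext e)⟩
  have hfix : ∀ (x a : G) (ha : a ∈ W), ρ x (cl a ha) = cl a ha ↔ ⁅a, x⁆ ∈ C := fun x a ha => by
    rw [hρ x a ha, ← hπ, map_commutatorElement, commutatorElement_eq_one_iff_mul_comm]
    constructor
    · intro e
      have e' : π (x * a * x⁻¹) = π a := congrArg (fun v : Additive Wb => ((Additive.toMul v : Wb) : G ⧸ C)) e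
      rw [map_mul, map_mul, map_inv, mul_inv_eq_iff_eq_mul] at e'
      exact e'.symm
    · intro e
      refine Additive.toMul.injective (Subtype.ext ?_)
      show π (x * a * x⁻¹) = π a
      rw [map_mul, map_mul, map_inv, mul_inv_eq_iff_eq_mul]
      exact e.symm
  have hcard : ∀ B : Subgroup G, C ≤ B → Nat.card (B.map π) = C.relIndex B := fun B _ => by
    rw [← Subgroup.relIndex_ker B π, QuotientGroup.ker_mk']
  have hAWb : A.map π ≤ Wb := Subgroup.map_mono P.hAW
  have D : SpreadAct S Q M ρ Ab q :=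
    { two_le := h.two_le
      Qn := h.Qn
      Q_le := h.Q_le
      idxS := h.idxS
      S_le := h.S_le
      M_ne := h.M_ne
      top := h.top
      tiS := h.ti
      Q_one := fun x hx => AddMonoidHom.ext fun v => by
        obtain ⟨a, ha, rfl⟩ := hsurj v
        exact (hfix x a ha).2 (P.Q_triv x hx a ha)
      cardA := by
        show Nat.card ((A.map π).subgroupOf Wb) = q
        rw [Nat.card_congr (Subgroup.subgroupOfEquivOfLe hAWb).toEquiv, hcard A P.hCA, P.idxA]
      cardV := by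
        show Nat.card Wb = q * q
        rw [hcard W (P.hCA.trans P.hAW), ← Subgroup.relIndex_mul_relIndex C A W P.hCA P.hAW, P.idxA, P.idxW]
      fix := fun s hs v hv => by
        obtain ⟨a, ha, rfl⟩ := hsurj v
        exact (hfix s a ha).2 (P.fix s hs a ((hclA a ha).1 hv))
      free := fun s hs hsQ v hv => by
        obtain ⟨a, ha, rfl⟩ := hsurj v
        exact (hclA a ha).2 (P.free s hs hsQ a ha ((hfix s a ha).1 hv))
      ti := fun x hx v hv hxv => by
        obtain ⟨a, ha, rfl⟩ := hsurj v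
        rw [hρ x a ha] at hxv
        exact (hcl0 a ha).2 (P.ti x hx a ((hclA a ha).1 hv) ((hclA (x * a * x⁻¹) (P.Wn.conj_mem a ha x)).1 hxv)) }
  obtain ⟨F₀, i1, i2, R, ψ, hc, hR, hact⟩ := D.exists_coord hg hs₁ hs₁Q hK hKM htor
  let e : F₀ ≃+* F := FiniteField.ringEquivOfCardEq (hc.trans hF.symm)
  let c : G → Fin 2 → F := fun x => if hx : x ∈ W then fun i => e (ψ (cl x hx) i) else 0
  have hcW : ∀ (x : G) (hx : x ∈ W), c x = fun i => e (ψ (cl x hx) i) := fun x hx => dif_pos hx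
  refine ⟨(Matrix.SpecialLinearGroup.map (n := Fin 2) (e : F₀ →+* F)).comp R, c, hR.map e,
    ⟨P.Wn, P.Cn, P.hCA.trans P.hAW, fun a ha b hb => ?_, fun a ha => ?_, fun v => ?_, fun x a ha => ?_⟩⟩
  · rw [hcW _ (mul_mem ha hb), hcW a ha, hcW b hb]
    funext i
    show e (ψ (cl (a * b) (mul_mem ha hb)) i) = e (ψ (cl a ha) i) + e (ψ (cl b hb) i)
    rw [show cl (a * b) (mul_mem ha hb) = cl a ha + cl b hb from
      Additive.toMul.injective (Subtype.ext (map_mul π a b)), map_add, Pi.add_apply, map_add]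
  · rw [hcW a ha, ← hcl0 a ha]
    constructor
    · intro e0
      refine ψ.injective (funext fun i => ?_)
      rw [map_zero]
      exact e.injective ((congrFun e0 i).trans (map_zero e).symm)
    · intro e0
      funext i
      rw [e0, map_zero]
      exact map_zero e
  · obtain ⟨a, ha, he⟩ := hsurj (ψ.symm fun i => e.symm (v i))
    refine ⟨a, ha, ?_⟩
    rw [hcW a ha, he]
    funext i
    rw [ψ.apply_symm_apply, e.apply_symm_apply]
  · rw [hcW _ (P.Wn.conj_mem a ha x), hcW a ha, ← hρ x a ha, hact]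
    funext i
    show e (((R x : Matrix (Fin 2) (Fin 2) F₀).mulVec (ψ (cl a ha))) i) = _
    simp only [MonoidHom.comp_apply, Matrix.SpecialLinearGroup.map_apply_coe]
    exact RingHom.map_mulVec (e : F₀ →+* F) _ _ i

end Cfsg.Agent.PushUp
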