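import Cfsg.Agent.Lib.PushUp.RankOneTwo
import Cfsg.Agent.Lib.PushUp.NatSection

/-!
# `Y` modulo its centre
-/

set_option autoImplicit false

open scoped commutatorElement

namespace Cfsg.Agent.PushUp

open Cfsg

universe u w

variable {G : Type u} [Group G] {S Q Y M : Subgroup G} {p q : ℕ}

theorem u_mulVec {F : Type w} [Field F] (a : F) (v : Fin 2 → F) :
    (NatSL2.u a : Matrix (Fin 2) (Fin 2) F).mulVec v 0 = v 0 + a * v 1 ∧
      (NatSL2.u a : Matrix (Fin 2) (Fin 2) F).mulVec v 1 = v 1 := by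
  constructor <;> simp [NatSL2.u, Matrix.mulVec, dotProduct, Fin.sum_univ_two]

namespace PUp0

variable [Finite G] (h : PUp0 S Q Y M p q) [hp : Fact p.Prime] (hS : IsPGroup p S)
include h hS

omit hS hp in
theorem exists_notQ : ∃ s ∈ S, s ∉ Q := by
  by_contra hcon
  simp only [not_exists, not_and, not_not] at hcon
  have := h.idxS
  rw [Subgroup.relIndex_eq_one.2 (show S ≤ Q from hcon)] at this
  have := h.two_le
  omega

theorem le_cen_idx : q ≤ (cenIn Y).relIndex (zS S) := by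
  haveI := h.Yn
  haveI hCn : (cenIn Y).Normal := ⟨fun x hx g => by
    rwa [Subgroup.mem_center_iff.1 hx.2 g, mul_inv_cancel_right]⟩
  -- a fixed point of `S` on `Y` modulo `Z(S)`
  obtain ⟨w, hwY, hwZ, hw⟩ : ∃ w ∈ Y, w ∉ zS S ∧ ∀ s ∈ S, ⁅w, s⁆ ∈ zS S := by
    haveI hZn : ((zS S).subgroupOf S).Normal := ⟨fun x hx s => by
      show (s : G) * x * (s : G)⁻¹ ∈ zS S
      have e : (s : G) * x = x * s := Subgroup.mem_centralizer_iff.1 hx.2 s s.2
      rw [e, mul_inv_cancel_right]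
      exact hx⟩
    set π := QuotientGroup.mk' ((zS S).subgroupOf S)
    have hYn : ((Y.subgroupOf S).map π).Normal :=
      (h.Yn.subgroupOf S).map π (QuotientGroup.mk'_surjective _)
    have hne : (Y.subgroupOf S).map π ≠ ⊥ := fun hb => by
      have hle : Y ≤ zS S := fun y hy => by
        have h1 : π ⟨y, h.Q_le (h.Y_le hy)⟩ = 1 := Subgroup.mem_bot.1 (hb ▸ ⟨_, hy, rfl⟩)
        have h3 := (QuotientGroup.eq_one_iff (⟨y, h.Q_le (h.Y_le hy)⟩ : ↥S)).1 h1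
        exact h3
      have := h.idxY
      rw [Subgroup.relIndex_eq_one.2 hle] at this
      have := h.two_le
      omega
    obtain ⟨_, ⟨w, hwY, rfl⟩, hwc, hw1⟩ :=
      @exists_center_mem p _ _ _ _ (hS.to_quotient _) _ hYn hne
    refine ⟨(w : G), hwY, fun hz => hw1 ((QuotientGroup.eq_one_iff w).2 hz), fun s hs => ?_⟩
    have h2 : π ⁅w, ⟨s, hs⟩⁆ = 1 := by
      rw [map_commutatorElement, commutatorElement_eq_one_iff_mul_comm]
      exact (Subgroup.mem_center_iff.1 hwc (π ⟨s, hs⟩)).symm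
    have h3 := (QuotientGroup.eq_one_iff (⁅w, ⟨s, hs⟩⁆ : ↥S)).1 h2
    exact h3
  set π := QuotientGroup.mk' (cenIn Y)
  let f : ↥S →* G ⧸ cenIn Y :=
    { toFun := fun s => π ⁅w, (s : G)⁆
      map_one' := by simp
      map_mul' := fun s t => by
        rw [← map_mul]
        congr 1
        have h1 := Subgroup.mem_centralizer_iff.1 (hw t t.2).2 s s.2
        calc ⁅w, ((s * t : ↥S) : G)⁆ = ⁅w, (s : G)⁆ * ((s : G) * ⁅w, (t : G)⁆) * (s : G)⁻¹ := by
              simp only [Subgroup.coe_mul, commutatorElement_def]; group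
          _ = ⁅w, (s : G)⁆ * ⁅w, (t : G)⁆ := by rw [h1]; group }
  have hker : f.ker ≤ Q.subgroupOf S := fun s hs => by
    by_contra hsQ
    exact hwZ (h.cent s s.2 hsQ w hwY ((QuotientGroup.eq_one_iff _).1 hs))
  have h1 : q ≤ f.ker.index := h.idxS ▸
    Nat.le_of_dvd (Nat.pos_of_ne_zero Subgroup.index_ne_zero_of_finite) (Subgroup.index_dvd_of_le hker)
  have h2 : Nat.card f.range ≤ Nat.card ((zS S).map π) :=
    Subgroup.card_le_of_le (by rintro _ ⟨s, rfl⟩; exact ⟨_, hw s s.2, rfl⟩)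
  have h3 := Subgroup.relIndex_ker (zS S) π
  rw [QuotientGroup.ker_mk'] at h3
  rw [h3]
  exact h1.trans ((Subgroup.index_ker f).le.trans h2)

theorem sect : SpreadSect S Q M Y (cenIn Y) (zS S) q where
  Wn := h.Yn
  Cn := ⟨fun x hx g => by rwa [Subgroup.mem_center_iff.1 hx.2 g, mul_inv_cancel_right]⟩
  hCA := h.cenIn_le
  hAW := h.Z_le
  comm a ha b hb := by
    rw [commutatorElement_eq_one_iff_mul_comm.2
      (Subgroup.mem_centralizer_iff.1 (h.Q_cent (h.Y_le ha)) b hb).symm]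
    exact one_mem _
  Q_triv x hx w hw := by
    rw [commutatorElement_eq_one_iff_mul_comm.2 (Subgroup.mem_centralizer_iff.1 (h.Q_cent hx) w hw)]
    exact one_mem _
  idxA := le_antisymm h.cen_idx (h.le_cen_idx hS)
  idxW := h.idxY
  fix s hs a ha := by
    rw [commutatorElement_eq_one_iff_mul_comm.2 (Subgroup.mem_centralizer_iff.1 ha.2 s hs).symm]
    exact one_mem _
  free := h.cent
  ti g hg a ha hga := h.mem_cenIn (g := g⁻¹) (fun h' => hg (by simpa using inv_mem h')) ha (by simpa using hga)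

end PUp0

/-- `S` centralizes `Y` modulo `Z(S)`. -/
theorem NatSect.center_of_coord [Finite G] {F : Type w} [Field F] [Fintype F] {g s₁ : G}
    {R : G →* Matrix.SpecialLinearGroup (Fin 2) F} {c : G → Fin 2 → F} (h : PUp0 S Q Y M p q)
    (hR : Coord S Q M g s₁ R) (hc : NatSect Y (cenIn Y) R c) (hs₁ : s₁ ∈ S) (hs₁Q : s₁ ∉ Q) :
    ∀ y ∈ Y, ∀ s ∈ S, ⁅y, s⁆ ∈ zS S := by
  intro y hy s hs
  have hm : ∀ x : G, ⁅y, x⁆ ∈ Y := fun x => by
    rw [commutatorElement_def, mul_assoc y, mul_assoc y]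
    exact mul_mem hy (h.Yn.conj_mem _ (inv_mem hy) x)
  obtain ⟨a, ha⟩ := hR.upper s hs
  have hinv : c y⁻¹ = -c y := by
    refine eq_neg_of_add_eq_zero_right ?_
    rw [← hc.mul y hy y⁻¹ (inv_mem hy), mul_inv_cancel, hc.zero 1 (one_mem _)]
    exact one_mem _
  have h1 : c ⁅y, s⁆ 1 = 0 := by
    have hconj : s * y⁻¹ * s⁻¹ ∈ Y := h.Yn.conj_mem _ (inv_mem hy) s
    rw [show ⁅y, s⁆ = y * (s * y⁻¹ * s⁻¹) by rw [commutatorElement_def]; group, hc.mul y hy _ hconj,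
      hc.conj s _ (inv_mem hy), Pi.add_apply, ha, (u_mulVec a _).2, hinv, Pi.neg_apply, add_neg_cancel]
  have h2 : c (s₁ * ⁅y, s⁆ * s₁⁻¹) = c ⁅y, s⁆ := by
    rw [hc.conj s₁ _ (hm s), hR.one]
    funext i
    fin_cases i
    · show (NatSL2.u (1 : F) : Matrix (Fin 2) (Fin 2) F).mulVec (c ⁅y, s⁆) 0 = c ⁅y, s⁆ 0
      rw [(u_mulVec 1 _).1, h1, mul_zero, add_zero]
    · exact (u_mulVec 1 _).2
  refine h.cent s₁ hs₁ hs₁Q _ (hm s) ?_
  have hconj : s₁ * ⁅y, s⁆ * s₁⁻¹ ∈ Y := h.Yn.conj_mem _ (hm s) s₁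
  have h3 : (s₁ * ⁅y, s⁆ * s₁⁻¹) ∈ Y ∧ c (s₁ * ⁅y, s⁆⁻¹ * s₁⁻¹) + c ⁅y, s⁆ = 0 := by
    refine ⟨hconj, ?_⟩
    rw [show s₁ * ⁅y, s⁆⁻¹ * s₁⁻¹ = (s₁ * ⁅y, s⁆ * s₁⁻¹)⁻¹ by group, ← h2,
      ← hc.mul _ (inv_mem hconj) _ hconj, inv_mul_cancel, hc.zero 1 (one_mem _)]
    exact one_mem _
  have hconj' : s₁ * ⁅y, s⁆⁻¹ * s₁⁻¹ ∈ Y := h.Yn.conj_mem _ (inv_mem (hm s)) s₁
  rw [← hc.mul _ hconj' _ (hm s), hc.zero _ (mul_mem hconj' (hm s))] at h3
  have h4 := (cenIn_normal (Y := Y)).conj_mem _ h3.2 ⁅y, s⁆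
  simpa [commutatorElement_def, mul_assoc] using h4

end Cfsg.Agent.PushUp
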