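import Cfsg.Agent.Lib.PushUp.BTwo
import Cfsg.Agent.Lib.PushUp.YSection
import Cfsg.Agent.Lib.PushUp.BorelTorus
import Cfsg.Agent.Lib.PushUp.ChiefFactors

/-!
# Pushing up over `L₂(pⁿ)`: the structure of the core
-/

set_option autoImplicit false

open scoped commutatorElement

namespace Cfsg.Agent.PushUp

open Cfsg Cfsg.Agent.Fusion

universe u

/-- A `p'`-element fixes what it moves by a `p`-element commuting with it. -/
theorem coprime_fix {G : Type*} [Group G] {p k : ℕ} {w x c : G} (hx : (orderOf x).Coprime p) (hc : ⁅w, x⁆ = c)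
    (hcx : Commute c x) (hck : c ^ p ^ k = 1) : c = 1 := by
  have h1 : w * x * w⁻¹ = c * x := by rw [← hc, commutatorElement_def]; group
  have h2 : c ^ orderOf x = 1 := by
    have h3 := congrArg (· ^ orderOf x) h1
    simp only [conj_pow, pow_orderOf_eq_one, mul_one, mul_inv_cancel, hcx.mul_pow] at h3
    exact h3.symm
  exact orderOf_eq_one_iff.1
    (Nat.eq_one_of_dvd_coprimes (hx.pow_right k) (orderOf_dvd_of_pow_eq_one h2) (orderOf_dvd_of_pow_eq_one hck))

variable {G : Type u} [Group G] [Finite G] {p n : ℕ} [hp : Fact p.Prime] {S : Sylow p G} {F : Type} [Field F]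
  [Fintype F] {φ : G →* Matrix.ProjectiveSpecialLinearGroup (Fin 2) F}

/-- Centralizing a `p`-subgroup modulo a centralized subgroup. -/
theorem lift_centralized {A B : Subgroup G} (hA : IsPGroup p A) {x : G} (hx : (orderOf x).Coprime p)
    (hBA : B ≤ A) (h : ∀ w ∈ A, ⁅w, x⁆ ∈ B) (hB : ∀ b ∈ B, Commute b x) : ∀ w ∈ A, Commute w x := by
  intro w hw
  obtain ⟨k, hk⟩ := hA ⟨_, hBA (h w hw)⟩
  exact commutatorElement_eq_one_iff_commute.1
    (coprime_fix hx rfl (hB _ (h w hw)) (congrArg Subtype.val hk : ⁅w, x⁆ ^ p ^ k = 1))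

/-- Coordinates on `Y` modulo its centre with kernel the core, and the chief factors below the core. -/
theorem Setting.rank_one_core (R : Setting p n S F φ)
    (hd : ∀ T : Subgroup ↥(S : Subgroup G), T ≠ ⊥ → T.Characteristic →
      ¬ (T.map (S : Subgroup G).subtype).Normal) :
    (∃ (g s₁ : G) (RY : G →* Matrix.SpecialLinearGroup (Fin 2) F) (cY : G → Fin 2 → F),
      g ∉ R.M ∧ s₁ ∈ (S : Subgroup G) ∧ s₁ ∉ pCore p G ∧
      Coord (S : Subgroup G) (pCore p G) R.M g s₁ RY ∧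
      NatSect (yS (S : Subgroup G)) (cenIn (yS (S : Subgroup G))) RY cY ∧ RY.ker = pCore p G) ∧
      ∀ (U W : Subgroup G) [W.Normal], U ≤ pCore p G → IsChiefFactor U W → ¬ ⁅U, (⊤ : Subgroup G)⁆ ≤ W →
        IsNaturalSL2Module F (U.map (QuotientGroup.mk' W)) (⊤ : Subgroup (G ⧸ W)) := by
  classical
  set Q := pCore p G with hQdef
  set Y := yS (S : Subgroup G)
  have h : PUp (S : Subgroup G) Q Y R.M p (p ^ n) := R.pUp hd
  haveI := h.Qn; haveI := h.Yn
  obtain ⟨g, hg⟩ := h.exists_not_mem_M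
  obtain ⟨s₁, hs₁, hs₁Q⟩ := h.exists_notQ
  have htor := R.torus hg
  obtain ⟨RY, cY, hRY, hcY⟩ :=
    (h.sect S.2).exists_nat h.toPUp0 hg hs₁ hs₁Q φ.normal_ker R.ker_le htor F R.hF
  have hHS := NatSect.center_of_coord h.toPUp0 hRY hcY hs₁ hs₁Q
  have hchar := R.char
  have hQp : IsPGroup p Q := isPGroup_pCore p G
  have hQker : ∀ {R' : G →* Matrix.SpecialLinearGroup (Fin 2) F}, Coord (S : Subgroup G) Q R.M g s₁ R' →
      Q ≤ R'.ker := fun hR' x hx => hR'.Q_one x hx
  -- the covering subgroup contains the `p'`-elements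
  have hcov : ∀ {N : Subgroup G}, N.Normal → N ⊔ Q = ⊤ → ∀ x : G, (orderOf x).Coprime p → x ∈ N := by
    intro N hN hNQ x hx
    haveI := hN
    refine pResidual_le_of_isPGroup_quotient (fun y => ?_) (Subgroup.subset_closure hx)
    obtain ⟨z, rfl⟩ := QuotientGroup.mk'_surjective N y
    obtain ⟨a, ha, b, hb, rfl⟩ := Subgroup.mem_sup_of_normal_left.1 (hNQ.ge (Subgroup.mem_top z))
    obtain ⟨k, hk⟩ := hQp ⟨b, hb⟩
    refine ⟨k, ?_⟩
    rw [map_mul, show QuotientGroup.mk' N a = 1 from (QuotientGroup.eq_one_iff a).2 ha, one_mul, ← map_pow,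
      show b ^ p ^ k = 1 from congrArg Subtype.val hk, map_one]
  -- `p'`-elements acting trivially on `Y` modulo the centre centralize `Y`
  have hYx : ∀ x : G, (orderOf x).Coprime p → RY x = 1 → ∀ y ∈ Y, Commute y x := fun x hx hRx =>
    lift_centralized (hQp.to_le h.Y_le) hx (inf_le_left : cenIn Y ≤ Y)
      (fun w hw => by rw [← commutatorElement_inv]; exact inv_mem ((hcY.ker_iff x).1 hRx w hw))
      fun b hb => (Subgroup.mem_center_iff.1 hb.2 x).symm
  -- a `p'`-element in the kernel is trivial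
  suffices key : (∀ x : G, (orderOf x).Coprime p → RY x = 1 → ∀ w ∈ Q, Commute w x) ∧
      ∀ (U W : Subgroup G) [W.Normal], U ≤ Q → IsChiefFactor U W → ¬ ⁅U, (⊤ : Subgroup G)⁆ ≤ W →
        IsNaturalSL2Module F (U.map (QuotientGroup.mk' W)) (⊤ : Subgroup (G ⧸ W)) by
    obtain ⟨hk, hchief⟩ := key
    refine ⟨⟨g, s₁, RY, cY, hg, hs₁, hs₁Q, hRY, hcY, ?_⟩, hchief⟩
    refine le_antisymm (le_pCore fun x => ?_) (hQker hRY)
    obtain ⟨k, m, hm, hkm⟩ := Nat.exists_eq_pow_mul_and_not_dvd (orderOf_pos (x : G)).ne' p hp.out.ne_one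
    refine ⟨k, Subtype.ext ?_⟩
    set y := (x : G) ^ p ^ k with hy
    have hyo : (orderOf y).Coprime p := by
      rw [hy, orderOf_pow_of_dvd (pow_ne_zero _ hp.out.ne_zero) (hkm ▸ dvd_mul_right _ _), hkm,
        Nat.mul_div_cancel_left _ (pow_pos hp.out.pos k)]
      exact ((Nat.Prime.coprime_iff_not_dvd hp.out).2 hm).symm
    have hyQ : y ∈ Q := hchar (Subgroup.mem_centralizer_iff.2 fun w hw =>
      (hk y hyo (by rw [hy, map_pow, show RY (x : G) = 1 from x.2, one_pow]) w hw).eq)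
    obtain ⟨j, hj⟩ := hQp ⟨y, hyQ⟩
    show (x : G) ^ p ^ k = 1
    exact orderOf_eq_one_iff.1 (Nat.eq_one_of_dvd_coprimes (hyo.pow_right j) dvd_rfl
      (orderOf_dvd_of_pow_eq_one (congrArg Subtype.val hj : y ^ p ^ j = 1)))
  rcases h.one_or_two hHS with ⟨σ, hσ⟩ | ⟨V, E, F1, N, T⟩
  · obtain ⟨-, N, hN, hNQ, hNY⟩ := h.mate_facts hσ
    refine ⟨fun x hx hRx => lift_centralized hQp hx h.Y_le (fun w hw => ?_) (hYx x hx hRx), ?_⟩
    · rw [← commutatorElement_inv]
      exact inv_mem (hNY x (hcov hN hNQ x hx) w hw)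
    · intro U W _ hUQ hch hnc
      have hUQW := chief_pgroup_central hQp h.Qn hch hUQ
      have hWQ : W ≤ RY.ker := (hch.1.le.trans hUQ).trans (hQker hRY)
      have h0 : U ⊓ cenIn Y ≤ W := chief_central_step hch hnc hUQW hNQ cenIn_normal Subgroup.normal_bot
        (fun x hx l _ => Subgroup.mem_bot.2 (commutatorElement_eq_one_iff_mul_comm.2
          (Subgroup.mem_center_iff.1 hx.2 l).symm)) (by simp)
      by_cases h1 : U ⊓ Y ≤ W
      · have h2 : U ⊓ Q ≤ W := chief_central_step hch hnc hUQW hNQ h.Qn h.Yn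
          (fun x hx l hl => by rw [← commutatorElement_inv]; exact inv_mem (hNY l hl x hx)) h1
        exact absurd (fun u hu => h2 ⟨hu, hUQ hu⟩) hch.1.not_ge
      · exact chief_natural_step hcY hRY.surj hch hWQ h0 h1
  · obtain ⟨RE, cE, hRE, hcE⟩ := T.sect.exists_nat h.toPUp0 hg hs₁ hs₁Q φ.normal_ker R.ker_le htor F R.hF
    obtain ⟨θ, hθ⟩ := hRY.rigid hRE hs₁ fun H hSH hcj =>
      h.top H hSH fun hle => h.conj_S_not_le hg (by
        rintro _ ⟨s, hs, rfl⟩
        exact hle (hcj s hs))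
    refine ⟨fun x hx hRx => lift_centralized hQp hx T.V_le (fun w hw => ?_) (lift_centralized (hQp.to_le T.V_le) hx
      (T.sect.hCA.trans T.sect.hAW) (fun w hw => ?_) (lift_centralized (hQp.to_le ((T.sect.hCA.trans T.sect.hAW).trans
        T.V_le)) hx T.Y_le (fun e he => T.E_cent e he x) (hYx x hx hRx))), ?_⟩
    · rw [← commutatorElement_inv]
      exact inv_mem (T.N_comm x (hcov T.Nn T.N_sup x hx) w hw)
    · rw [← commutatorElement_inv]
      refine inv_mem ((hcE.ker_iff x).1 ?_ w hw)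
      rw [hθ, MonoidHom.comp_apply, hRx, map_one]
    · intro U W _ hUQ hch hnc
      have hUQW := chief_pgroup_central hQp h.Qn hch hUQ
      have hWQ : ∀ {R' : G →* Matrix.SpecialLinearGroup (Fin 2) F}, Coord (S : Subgroup G) Q R.M g s₁ R' →
          W ≤ R'.ker := fun hR' => (hch.1.le.trans hUQ).trans (hQker hR')
      have h0 : U ⊓ cenIn Y ≤ W := chief_central_step hch hnc hUQW T.N_sup cenIn_normal Subgroup.normal_bot
        (fun x hx l _ => Subgroup.mem_bot.2 (commutatorElement_eq_one_iff_mul_comm.2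
          (Subgroup.mem_center_iff.1 hx.2 l).symm)) (by simp)
      by_cases h1 : U ⊓ Y ≤ W
      · have h2 : U ⊓ E ≤ W := chief_central_step hch hnc hUQW T.N_sup T.sect.Cn h.Yn
          (fun x hx l _ => T.E_cent x hx l) h1
        by_cases h3 : U ⊓ V ≤ W
        · have h4 : U ⊓ Q ≤ W := chief_central_step hch hnc hUQW T.N_sup h.Qn T.sect.Wn
            (fun x hx l hl => by rw [← commutatorElement_inv]; exact inv_mem (T.N_comm l hl x hx)) h3
          exact absurd (fun u hu => h4 ⟨hu, hUQ hu⟩) hch.1.not_ge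
        · exact chief_natural_step hcE hRE.surj hch (hWQ hRE) h2 h3
      · exact chief_natural_step hcY hRY.surj hch (hWQ hRY) h0 h1

/-- The statement: the image is `SL₂(q)` and the noncentral chief factors below the core are natural. -/
theorem Setting.rank_one_structure (R : Setting p n S F φ)
    (hd : ∀ T : Subgroup ↥(S : Subgroup G), T ≠ ⊥ → T.Characteristic →
      ¬ (T.map (S : Subgroup G).subtype).Normal) :
    Nonempty (G ⧸ pCore p G ≃* Matrix.SpecialLinearGroup (Fin 2) F) ∧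
      ∀ (U W : Subgroup G) [W.Normal], U ≤ pCore p G → IsChiefFactor U W → ¬ ⁅U, (⊤ : Subgroup G)⁆ ≤ W →
        IsNaturalSL2Module F (U.map (QuotientGroup.mk' W)) (⊤ : Subgroup (G ⧸ W)) := by
  obtain ⟨⟨g, s₁, RY, cY, -, -, -, hRY, -, hker⟩, hchief⟩ := R.rank_one_core hd
  exact ⟨⟨(QuotientGroup.quotientMulEquivOfEq hker.symm).trans
    (QuotientGroup.quotientKerEquivOfSurjective RY hRY.surj)⟩, hchief⟩

end Cfsg.Agent.PushUp
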