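import Cfsg.Agent.Lib.PushUp.SpreadCoord
import Cfsg.Agent.Lib.PushUp.Jordan.Field

/-!
# Slopes of a spread with elations always commute

The slopes form an additive group of size `q` of endomorphisms, invertible unless zero, containing `1` and closed
under `a b a`, so they commute.
-/

set_option autoImplicit false

namespace Cfsg.Agent.PushUp

universe u v

namespace SpreadAct

variable {G : Type u} [Group G] {V : Type v} [AddCommGroup V] {S Q M : Subgroup G}
  {ρ : G →* AddMonoid.End V} {A : AddSubgroup V} {q : ℕ} (D : SpreadAct S Q M ρ A q) [Finite G] [Finite V]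

namespace Frame

variable {g s₁ : G} (Φ : Frame (S := S) (M := M) (ρ := ρ) (A := A) g s₁)

include D in
/-- The slopes are closed under `b a b`. -/
theorem exists_tri {s t : G} (hs : s ∈ S) (hsQ : s ∉ Q) (ht : t ∈ S) :
    ∃ (r : G) (hr : r ∈ S), Φ.slope D hr = Φ.slope D hs * Φ.slope D ht * Φ.slope D hs := by
  haveI : Nontrivial A := Finite.one_lt_card_iff_nontrivial.1 (by rw [D.cardA]; exact D.two_le)
  obtain ⟨y₁, hy₁⟩ := exists_ne (0 : A)
  obtain ⟨d, -, -, hd⟩ := Φ.exists_diag D hs hsQ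
  set β := Φ.slope D hs
  set α := Φ.slope D ht
  have himg : ∀ y : A, ∃ a ∈ A, ρ (d * t * g) a = Φ.E (β (α (β y)), y) := fun y => by
    obtain ⟨a, ha, e⟩ := Φ.right_mem (β y)
    refine ⟨a, ha, ?_⟩
    rw [rho_mul, rho_mul, ← e, Φ.act D ht, zero_add]
    exact hd _ _
  obtain ⟨a₁, ha₁, e₁⟩ := himg y₁
  have hnA : ρ (d * t * g) a₁ ∉ A := fun hc => hy₁ (by
    have e2 := Φ.E_left ⟨_, hc⟩
    exact (Φ.fst_eq (e2.trans e₁)).2.symm)
  obtain ⟨r, hr, b₁, hb₁, e₂⟩ := D.part Φ.hg hnA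
  have hm : (r * g)⁻¹ * (d * t * g) ∈ M :=
    D.same hb₁ ha₁ (fun h0 => hnA (by rw [h0, map_zero]; exact zero_mem A)) e₂.symm
  refine ⟨r, hr, AddMonoidHom.ext fun y => ?_⟩
  obtain ⟨a, ha, e⟩ := himg y
  obtain ⟨z, hz⟩ := Φ.mem_right _ (D.mem_A hm ha)
  rw [← rho_mul, ← mul_assoc g] at hz
  have e3 : ρ (d * t * g) a = Φ.E (Φ.slope D hr z, z) := by
    rw [show d * t * g = r * (g * (r * g)⁻¹ * (d * t * g)) by group, rho_mul, hz, Φ.act D hr, zero_add]
  obtain ⟨i1, i2⟩ := Φ.fst_eq (e3.symm.trans e)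
  show Φ.slope D hr y = β (α (β y))
  rw [← i1, i2]

include D in
theorem slope_commute {s t : G} (hs : s ∈ S) (ht : t ∈ S) :
    Φ.slope D hs * Φ.slope D ht = Φ.slope D ht * Φ.slope D hs := by
  classical
  haveI : Finite (AddMonoid.End A) :=
    Finite.of_injective (fun f : AddMonoid.End A => (f : A → A)) DFunLike.coe_injective
  let J : AddSubgroup (AddMonoid.End A) :=
    { carrier := {f | ∃ (r : G) (hr : r ∈ S), Φ.slope D hr = f}
      zero_mem' := ⟨1, one_mem S, Φ.slope_Q D (one_mem S) (one_mem Q)⟩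
      add_mem' := by
        rintro _ _ ⟨r, hr, rfl⟩ ⟨r', hr', rfl⟩
        exact ⟨r * r', mul_mem hr hr', Φ.slope_mul D hr hr'⟩
      neg_mem' := by
        rintro _ ⟨r, hr, rfl⟩
        exact ⟨r⁻¹, inv_mem hr, Φ.slope_inv D hr⟩ }
  have hJ : JordanField.Closed J :=
    { one_mem := ⟨s₁, Φ.hs₁, Φ.slope_s₁ D⟩
      tri := by
        rintro _ ⟨r, hr, rfl⟩ _ ⟨r', hr', rfl⟩
        by_cases hrQ : r ∈ Q
        · refine ⟨1, one_mem S, ?_⟩
          rw [Φ.slope_Q D hr hrQ, zero_mul, zero_mul]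
          exact Φ.slope_Q D (one_mem S) (one_mem Q)
        · exact Φ.exists_tri D hr hrQ hr'
      unit := by
        rintro _ ⟨r, hr, rfl⟩ h0
        have hrQ : r ∉ Q := fun h => h0 (Φ.slope_Q D hr h)
        have hinj : Function.Injective (Φ.slope D hr : A → A) :=
          (injective_iff_map_eq_zero _).2 fun y hy => Φ.slope_inj D hr hrQ hy
        let e : A ≃+ A := AddEquiv.ofBijective (Φ.slope D hr) (Finite.injective_iff_bijective.1 hinj)
        exact ⟨⟨Φ.slope D hr, e.symm.toAddMonoidHom, AddMonoidHom.ext e.apply_symm_apply,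
          AddMonoidHom.ext e.symm_apply_apply⟩, rfl⟩ }
  exact hJ.mul_comm_mem ⟨s, hs, rfl⟩ ⟨t, ht, rfl⟩

end Frame

include D in
/-- A spread with elations gives the natural module. -/
theorem exists_coord' {g : G} (hg : g ∉ M) {s₁ : G} (hs₁ : s₁ ∈ S) (hs₁Q : s₁ ∉ Q) :
    ∃ (F : Type v) (_ : Field F) (_ : Fintype F) (R : G →* Matrix.SpecialLinearGroup (Fin 2) F)
      (ψ : V ≃+ (Fin 2 → F)), Fintype.card F = q ∧ Coord S Q M g s₁ R ∧
        ∀ (x : G) (v : V), ψ (ρ x v) = (R x : Matrix (Fin 2) (Fin 2) F).mulVec (ψ v) :=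
  D.exists_coord_of_comm hg hs₁ hs₁Q fun Φ _ _ hs ht => Φ.slope_commute D hs ht

end SpreadAct

end Cfsg.Agent.PushUp
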