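import Cfsg.Agent.Lib.PushUp.BaseFacts
import Mathlib.GroupTheory.PushoutI

/-!
# The amalgam of all the automorphic copies of a pushing up situation
-/

set_option autoImplicit false

open scoped commutatorElement

namespace Cfsg.Agent.PushUp

open Cfsg

universe u

variable {G : Type u} [Group G] {S : Subgroup G}

/-- The embedding of `S` twisted by an automorphism. -/
abbrev twist (S : Subgroup G) (α : MulAut ↥S) : ↥S →* G := S.subtype.comp α.toMonoidHom

/-- The amalgam over `S` of one copy of `G` for each automorphism of `S`. -/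
abbrev Amal (S : Subgroup G) : Type u := Monoid.PushoutI (twist S)

/-- The copy of `G` with index `α`. -/
def io (α : MulAut ↥S) : G →* Amal S := Monoid.PushoutI.of (G := fun _ => G) (φ := twist S) α

/-- The copy of `G` with index `α`, moved by `f`. -/
def emb (f : Amal S) (α : MulAut ↥S) : G →* Amal S :=
  (MulAut.conj f).toMonoidHom.comp (io α)

theorem twist_injective (α : MulAut ↥S) : Function.Injective (twist S α) :=
  Subtype.val_injective.comp α.injective

theorem emb_injective (f : Amal S) (α : MulAut ↥S) : Function.Injective (emb f α) :=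
  (MulAut.conj f).injective.comp (Monoid.PushoutI.of_injective twist_injective α : Function.Injective (io α))

theorem emb_apply (f : Amal S) (α : MulAut ↥S) (x : G) :
    emb f α x = f * io α x * f⁻¹ := rfl

theorem emb_mem_S (f : Amal S) (α β : MulAut ↥S) (x : ↥S) :
    emb f α x = emb f β (β (α⁻¹ x) : ↥S) := by
  have h1 := Monoid.PushoutI.of_apply_eq_base (twist S) α (α⁻¹ x)
  have h2 := Monoid.PushoutI.of_apply_eq_base (twist S) β (α⁻¹ x)
  simp only [MonoidHom.coe_comp, Function.comp_apply, MulEquiv.coe_toMonoidHom, Subgroup.coe_subtype,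
    MulAut.apply_inv_self] at h1 h2
  rw [emb_apply, emb_apply, io, io, h1, h2]

theorem emb_mul (f : Amal S) (α : MulAut ↥S) (g x : G) :
    emb (f * io α g) α x = emb f α (g * x * g⁻¹) := by
  rw [emb_apply, emb_apply, map_mul, map_mul, map_inv]
  group

/-- The Sylow subgroup at a star. -/
def sh (f : Amal S) : Subgroup (Amal S) := S.map (emb f 1)

theorem map_S (f : Amal S) (α : MulAut ↥S) : S.map (emb f α) = sh f := by
  ext x
  constructor
  · rintro ⟨s, hs, rfl⟩
    exact ⟨_, ((1 : MulAut ↥S) (α⁻¹ ⟨s, hs⟩)).2, (emb_mem_S f α 1 ⟨s, hs⟩).symm⟩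
  · rintro ⟨s, hs, rfl⟩
    exact ⟨_, (α ((1 : MulAut ↥S)⁻¹ ⟨s, hs⟩)).2, (emb_mem_S f 1 α ⟨s, hs⟩).symm⟩

/-- The centre of the Sylow subgroup at a star. -/
def zh (f : Amal S) : Subgroup (Amal S) := (zS S).map (emb f 1)

/-- An edge: a star with two of the vertices on it. -/
structure Dart (S : Subgroup G) where
  f : Amal S
  l : MulAut ↥S
  r : MulAut ↥S

namespace Dart

/-- The edge in the other direction. -/
def rev (d : Dart S) : Dart S := ⟨d.f, d.r, d.l⟩

/-- A subgroup of `G` seen at the first vertex. -/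
abbrev src (d : Dart S) (X : Subgroup G) : Subgroup (Amal S) := X.map (emb d.f d.l)

/-- A subgroup of `G` seen at the second vertex. -/
abbrev tgt (d : Dart S) (X : Subgroup G) : Subgroup (Amal S) := X.map (emb d.f d.r)

end Dart

/-- Two consecutive edges. -/
def Link (d d' : Dart S) : Prop :=
  d'.l = d.r ∧ ∃ g : G, d'.f = d.f * io d.r g

/-- Two consecutive edges with different Sylow subgroups. -/
def Turn (M : Subgroup G) (d d' : Dart S) : Prop :=
  d'.l = d.r ∧ ∃ g : G, g ∉ M ∧ d'.f = d.f * io d.r g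

theorem Turn.link {M : Subgroup G} {d d' : Dart S} (h : Turn M d d') : Link d d' := by
  obtain ⟨h1, g, -, h2⟩ := h
  exact ⟨h1, g, h2⟩

theorem Link.rev {d d' : Dart S} (h : Link d d') : Link d'.rev d.rev := by
  obtain ⟨h1, g, h2⟩ := h
  exact ⟨h1.symm, g⁻¹, by simp only [Dart.rev]; rw [h2, h1, map_inv]; group⟩

theorem Turn.rev {M : Subgroup G} {d d' : Dart S} (h : Turn M d d') : Turn M d'.rev d.rev := by
  obtain ⟨h1, g, hg, h2⟩ := h
  exact ⟨h1.symm, g⁻¹, fun hc => hg (by simpa using inv_mem hc),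
    by simp only [Dart.rev]; rw [h2, h1, map_inv]; group⟩

theorem map_emb_mul {X : Subgroup G} (hX : X.Normal) (f : Amal S) (α : MulAut ↥S) (g : G) :
    X.map (emb (f * io α g) α) = X.map (emb f α) := by
  ext y
  constructor
  · rintro ⟨x, hx, rfl⟩
    exact ⟨_, hX.conj_mem x hx g, (emb_mul f α g x).symm⟩
  · rintro ⟨x, hx, rfl⟩
    refine ⟨g⁻¹ * x * g, by simpa using hX.conj_mem x hx g⁻¹, ?_⟩
    rw [emb_mul]; congr 1; group

theorem range_emb_mul (f : Amal S) (α : MulAut ↥S) (g : G) :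
    (emb (f * io α g) α).range = (emb f α).range := by
  rw [MonoidHom.range_eq_map, MonoidHom.range_eq_map]
  exact map_emb_mul inferInstance f α g

theorem Link.src_eq {d d' : Dart S} (h : Link d d') {X : Subgroup G} (hX : X.Normal) : d'.src X = d.tgt X := by
  obtain ⟨h1, g, h2⟩ := h
  rw [Dart.src, Dart.tgt, h1, h2, map_emb_mul hX]

theorem map_le_comap_emb (f : Amal S) (α : MulAut ↥S) {X : Subgroup (Amal S)} (hX : X ≤ (emb f α).range) :
    (X.comap (emb f α)).map (emb f α) = X := Subgroup.map_comap_eq_self hX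

namespace PUp

variable {Q Y M : Subgroup G} {p q : ℕ} (h : PUp S Q Y M p q)
include h

theorem Y_S : Y ≤ S := h.Y_le.trans h.Q_le

theorem Z_map (f : Amal S) (α : MulAut ↥S) : (zS S).map (emb f α) = zh f := by
  ext x
  constructor
  · rintro ⟨s, hs, rfl⟩
    exact ⟨_, h.Z_char _ _ (h.Z_char _ ⟨s, hs.1⟩ hs), (emb_mem_S f α 1 ⟨s, hs.1⟩).symm⟩
  · rintro ⟨s, hs, rfl⟩
    exact ⟨_, h.Z_char _ _ (h.Z_char _ ⟨s, hs.1⟩ hs), (emb_mem_S f 1 α ⟨s, hs.1⟩).symm⟩

theorem Q_sh (f : Amal S) (α : MulAut ↥S) : Q.map (emb f α) ≤ sh f := map_S f α ▸ Subgroup.map_mono h.Q_le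

theorem Y_sh (f : Amal S) (α : MulAut ↥S) : Y.map (emb f α) ≤ sh f := map_S f α ▸ Subgroup.map_mono h.Y_S

theorem sh_range (f : Amal S) (α : MulAut ↥S) : sh f ≤ (emb f α).range :=
  map_S f α ▸ Subgroup.map_le_range _ _

theorem zh_le (f : Amal S) (α : MulAut ↥S) : zh f ≤ Y.map (emb f α) := h.Z_map f α ▸ Subgroup.map_mono h.Z_le

theorem C_le : cenIn Y ≤ zS S := fun _ hc =>
  ⟨h.Y_S hc.1, Subgroup.mem_centralizer_iff.2 fun x _ => Subgroup.mem_center_iff.1 hc.2 x⟩

theorem commute_Q {f : Amal S} {α : MulAut ↥S} {x y : Amal S} (hx : x ∈ Q.map (emb f α))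
    (hy : y ∈ Y.map (emb f α)) : Commute y x := by
  obtain ⟨a, ha, rfl⟩ := hx
  obtain ⟨b, hb, rfl⟩ := hy
  exact (show Commute b a from Subgroup.mem_centralizer_iff.1 (h.Q_cent ha) b hb).map _

omit h in
theorem commute_C {f : Amal S} {α : MulAut ↥S} {c x : Amal S} (hc : c ∈ (cenIn Y).map (emb f α))
    (hx : x ∈ (emb f α).range) : Commute c x := by
  obtain ⟨a, ha, rfl⟩ := hc
  obtain ⟨b, rfl⟩ := hx
  exact (show Commute a b from (Subgroup.mem_center_iff.1 ha.2 b).symm).map _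

theorem commute_Y {f : Amal S} {α : MulAut ↥S} {x y : Amal S} (hx : x ∈ Y.map (emb f α))
    (hy : y ∈ Y.map (emb f α)) : Commute y x :=
  h.commute_Q (Subgroup.map_mono h.Y_le hx) hy

theorem sep {f : Amal S} {α : MulAut ↥S} {z w : Amal S} (hz : z ∈ Y.map (emb f α)) (hw : w ∈ sh f)
    (hwQ : w ∉ Q.map (emb f α)) (hzw : ⁅z, w⁆ ∈ (cenIn Y).map (emb f α)) : z ∈ zh f := by
  rw [← h.Z_map f α]
  rw [← map_S f α] at hw
  obtain ⟨y, hy, rfl⟩ := hz
  obtain ⟨s, hs, rfl⟩ := hw
  rw [← map_commutatorElement] at hzw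
  refine ⟨y, h.cent s hs (fun hsQ => hwQ ⟨s, hsQ, rfl⟩) y hy ?_, rfl⟩
  exact (Subgroup.mem_map_iff_mem (emb_injective f α)).1 hzw

theorem sep' {f : Amal S} {α : MulAut ↥S} {z w : Amal S} (hz : z ∈ Y.map (emb f α)) (hw : w ∈ sh f)
    (hwQ : w ∉ Q.map (emb f α)) (hzw : Commute z w) : z ∈ zh f :=
  h.sep hz hw hwQ (by rw [commutatorElement_eq_one_iff_commute.2 hzw]; exact one_mem _)

theorem Y_not_le_zh (f : Amal S) (α : MulAut ↥S) : ¬ Y.map (emb f α) ≤ zh f := by
  rw [← h.Z_map f α, Subgroup.map_le_map_iff_of_injective (emb_injective f α)]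
  intro hc
  have := h.idxY
  rw [Subgroup.relIndex_eq_one.2 hc] at this
  have := h.two_le
  omega

theorem gen {f : Amal S} {α : MulAut ↥S} {g : G} (hg : g ∉ M) {w : Amal S}
    (hw : w ∈ sh (f * io α g)) (hwQ : w ∉ Q.map (emb f α)) {H : Subgroup (Amal S)}
    (hS : sh f ≤ H) (hwH : w ∈ H) : (emb f α).range ≤ H := by
  rw [← map_S _ α] at hw
  obtain ⟨s, hs, rfl⟩ := hw
  rw [emb_mul] at hwQ hwH
  have hnQ : g * s * g⁻¹ ∉ Q := fun hc => hwQ ⟨_, hc, rfl⟩
  have hnM : g * s * g⁻¹ ∉ M := fun hc => hnQ (h.ti g hg _ hc (by simpa [mul_assoc] using hs))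
  have htop : H.comap (emb f α) = ⊤ :=
    h.top _ (fun x hx => hS (map_S f α ▸ ⟨x, hx, rfl⟩)) fun hle => hnM (hle hwH)
  rintro _ ⟨x, rfl⟩
  exact (htop.ge (Subgroup.mem_top x) : x ∈ H.comap (emb f α))

theorem exists_mem_not_M [Finite G] {g : G} (hg : g ∉ M) : ∃ s ∈ S, g * s * g⁻¹ ∉ Q := by
  by_contra hc
  simp only [not_exists, not_and, not_not] at hc
  have hle : S ≤ Q := fun s hs => by simpa [mul_assoc] using h.Qn.conj_mem _ (hc s hs) g⁻¹
  have := h.idxS
  rw [Subgroup.relIndex_eq_one.2 hle] at this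
  have := h.two_le
  omega

theorem cap [Finite G] {f : Amal S} {α : MulAut ↥S} {g : G} (hg : g ∉ M) {c : Amal S}
    (hc : c ∈ zh f) (hc' : c ∈ zh (f * io α g)) : c ∈ (cenIn Y).map (emb f α) := by
  rw [← h.Z_map f α] at hc
  rw [← h.Z_map _ α] at hc'
  obtain ⟨z, hz, rfl⟩ := hc
  obtain ⟨z', hz', he⟩ := hc'
  rw [emb_mul] at he
  have he' : g * z' * g⁻¹ = z := emb_injective f α he
  refine ⟨z, ⟨h.Z_le hz, ?_⟩, rfl⟩
  obtain ⟨s, hs, hsQ⟩ := h.exists_mem_not_M hg
  have htop : Subgroup.centralizer ({z} : Set G) = ⊤ := by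
    refine h.top _ (fun x hx => Subgroup.mem_centralizer_iff.2 ?_) fun hle => ?_
    · rintro _ rfl
      exact (Subgroup.mem_centralizer_iff.1 hz.2 x hx).symm
    · refine hsQ (h.ti g hg _ (hle (Subgroup.mem_centralizer_iff.2 ?_)) (by simpa [mul_assoc] using hs))
      rintro _ rfl
      rw [← he']
      exact (((show Commute z' s from (Subgroup.mem_centralizer_iff.1 hz'.2 s hs).symm)).map
        (MulAut.conj g).toMonoidHom).eq
  refine Subgroup.mem_center_iff.2 fun x => ?_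
  exact (Subgroup.mem_centralizer_iff.1 (htop.ge (Subgroup.mem_top x)) z rfl).symm

end PUp

/-- A sequence of `k` consecutive edges. -/
def Chain (k : ℕ) (d : ℕ → Dart S) : Prop := ∀ i, i + 1 < k → Link (d i) (d (i + 1))

/-- All paths of fewer than `b` edges commute. -/
def ShortPaths (Q Y : Subgroup G) (b : ℕ) (S : Subgroup G) : Prop :=
  ∀ k, 1 ≤ k → k < b → ∀ d : ℕ → Dart S, Chain k d → (d 0).src Y ≤ (d (k - 1)).tgt Q

/-- A path of `b` edges whose ends do not commute. -/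
structure Crit (Q Y : Subgroup G) (b : ℕ) (d : ℕ → Dart S) : Prop where
  chain : Chain b d
  not_le : ¬ (d 0).src Y ≤ (d (b - 1)).tgt Q

/-- Putting an edge in front. -/
def consD (e : Dart S) (d : ℕ → Dart S) : ℕ → Dart S
  | 0 => e
  | i + 1 => d i

/-- The reversed path. -/
def revD (b : ℕ) (d : ℕ → Dart S) : ℕ → Dart S := fun i => (d (b - 1 - i)).rev

theorem Chain.mono {k k' : ℕ} {d : ℕ → Dart S} (hd : Chain k d) (hk : k' ≤ k) : Chain k' d :=
  fun i hi => hd i (by omega)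

theorem Chain.shift {k : ℕ} {d : ℕ → Dart S} (hd : Chain k d) (j : ℕ) : Chain (k - j) fun i => d (i + j) :=
  fun i hi => by
    show Link (d (i + j)) (d (i + 1 + j))
    rw [show i + 1 + j = i + j + 1 by omega]
    exact hd _ (by omega)

theorem Chain.cons {k : ℕ} {e : Dart S} {d : ℕ → Dart S} (hd : Chain k d) (he : Link e (d 0)) :
    Chain (k + 1) (consD e d) := fun i hi => by
  cases i with
  | zero => exact he
  | succ i => exact hd i (by omega)

theorem Chain.reverse {k : ℕ} {d : ℕ → Dart S} (hd : Chain k d) : Chain k (revD k d) := fun i hi => by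
  have h1 := (hd (k - 1 - (i + 1)) (by omega)).rev
  rwa [show k - 1 - (i + 1) + 1 = k - 1 - i by omega] at h1

end Cfsg.Agent.PushUp
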