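import Cfsg.Agent.Lib.PushUp.Critical

/-!
# The group theory of a critical path of two edges, in characteristic two
-/

set_option autoImplicit false

open scoped commutatorElement

namespace Cfsg.Agent.PushUp

open Cfsg

universe u

variable {G : Type u} [Group G]

/-- The elements commuting with `X` modulo `N`. -/
abbrev modCent (N X : Subgroup G) [N.Normal] : Subgroup G :=
  (Subgroup.centralizer ((X.map (QuotientGroup.mk' N) : Subgroup (G ⧸ N)) : Set (G ⧸ N))).comap (QuotientGroup.mk' N)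

theorem mem_modCent {N X : Subgroup G} [N.Normal] {g : G} :
    g ∈ modCent N X ↔ ∀ x ∈ X, ⁅g, x⁆ ∈ N := by
  simp only [Subgroup.mem_comap, Subgroup.mem_centralizer_iff, SetLike.mem_coe, Subgroup.mem_map,
    forall_exists_index, and_imp, forall_apply_eq_imp_iff₂]
  refine forall_congr' fun w => imp_congr_right fun _ => ?_
  rw [← QuotientGroup.eq_one_iff, ← QuotientGroup.mk'_apply (N := N), map_commutatorElement,
    commutatorElement_eq_one_iff_mul_comm]
  exact eq_comm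

theorem le_modCent_symm {N X X' : Subgroup G} [N.Normal] (h : X ≤ modCent N X') : X' ≤ modCent N X :=
  fun g hg => mem_modCent.2 fun x hx => by
    rw [← commutatorElement_inv]
    exact inv_mem (mem_modCent.1 (h hx) g hg)

theorem mem_modCent_zpowers {N : Subgroup G} [N.Normal] {g s : G} (hs : ⁅g, s⁆ ∈ N) :
    g ∈ modCent N (Subgroup.zpowers s) := by
  refine mem_modCent.2 ?_
  rintro _ ⟨i, rfl⟩
  rw [← QuotientGroup.eq_one_iff, ← QuotientGroup.mk'_apply (N := N), map_commutatorElement,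
    commutatorElement_eq_one_iff_commute, map_zpow]
  refine Commute.zpow_right ?_ i
  rwa [← commutatorElement_eq_one_iff_commute, ← map_commutatorElement, QuotientGroup.mk'_apply,
    QuotientGroup.eq_one_iff]

/-- An automorphic image of `Y`. -/
abbrev mate (S Y : Subgroup G) (σ : MulAut ↥S) : Subgroup G :=
  ((Y.subgroupOf S).map σ.toMonoidHom).map S.subtype

/-- All conjugates of the automorphic images of `Y`. -/
abbrev nbV (S Y : Subgroup G) : Subgroup G :=
  ⨆ i : MulAut ↥S × G, (mate S Y i.1).map (MulAut.conj i.2).toMonoidHom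

/-- The data of a critical path of two edges, at the middle vertex. -/
structure TwoData (S Q Y : Subgroup G) (q : ℕ) (Y1 Q1 C1 W Yd Qd W0 : Subgroup G) (g0 : G) : Prop where
  mate_le : ∀ σ : MulAut ↥S, mate S Y σ ≤ Q
  comm : ∀ i j : MulAut ↥S × G, ∀ x ∈ (mate S Y i.1).map (MulAut.conj i.2).toMonoidHom,
    ∀ y ∈ (mate S Y j.1).map (MulAut.conj j.2).toMonoidHom, ⁅x, y⁆ ∈ cenIn Y
  center : ∀ y ∈ Y, ∀ s ∈ S, ⁅y, s⁆ ∈ zS S
  Y1_nb : Y1 ≤ nbV S Y
  Yd_nb : Yd ≤ nbV S Y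
  Q1_le : Q1 ≤ S
  Q1_idx : Q1.relIndex S = q
  Q1_cent : ∀ x ∈ Q1, ∀ y ∈ Y1, x * y = y * x
  Y1_le : Y1 ≤ Q1
  Y1_idx : (zS S).relIndex Y1 = q
  Y1_exp : ∀ y ∈ Y1, y * y = 1
  Yd_exp : ∀ y ∈ Yd, y * y = 1
  W_le : W ≤ S
  W_sup : S ≤ Q ⊔ W
  W_exp : ∀ w ∈ W, w * w = 1
  W_comm : ∀ x ∈ Q1, ∀ w ∈ W, ⁅x, w⁆ ∈ Y ⊓ C1
  Qd_le : Qd ≤ S.map (MulAut.conj g0).toMonoidHom
  Qd_idx : Qd.relIndex (S.map (MulAut.conj g0).toMonoidHom) = q
  Qd_cent : ∀ x ∈ Qd, ∀ y ∈ Yd, x * y = y * x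
  W0_sup : S.map (MulAut.conj g0).toMonoidHom ≤ Q ⊔ W0
  Qd_comm : ∀ x ∈ Qd, ∀ u ∈ W0, ⁅x, u⁆ ∈ Y
  sep : ∀ u ∈ Y1, (∀ v ∈ Yd, u * v = v * u) → u ∈ zS S
  nontriv : ¬ ∀ v ∈ Yd, ∀ u ∈ Y1, ⁅v, u⁆ ∈ C1

variable [Finite G] {S Q Y M : Subgroup G} {q : ℕ} {Y1 Q1 C1 W Yd Qd W0 : Subgroup G} {g0 : G}

theorem nbV_normal : (nbV S Y).Normal := by
  refine Subgroup.normalizer_eq_top_iff.1 (eq_top_iff.2 fun g _ => mem_normalizer_iff_cj_le.2 ?_)
  rw [Subgroup.map_iSup]
  refine iSup_le fun i => le_trans (le_of_eq ?_) (le_iSup _ (i.1, g * i.2))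
  rw [Subgroup.map_map]
  congr 1
  ext x
  simp [mul_assoc]

theorem conj_idx {W D : Subgroup G} (hW : W.Normal) (g : G) :
    (D.map (MulAut.conj g).toMonoidHom).relIndex W = D.relIndex W := by
  have e : W.map (MulAut.conj g).toMonoidHom = W := by
    refine le_antisymm (by rintro _ ⟨x, hx, rfl⟩; exact hW.conj_mem x hx g) fun x hx => ?_
    exact ⟨g⁻¹ * x * g, by simpa using hW.conj_mem x hx g⁻¹, by simp [mul_assoc]⟩
  conv_lhs => rw [← e]
  exact Subgroup.relIndex_map_map_of_injective _ _ (MulAut.conj g).injective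

theorem disp_conj {p : ℕ} (h : PUp S Q Y M p q) {V C : Subgroup G} (hV : V.Normal) (hC : C.Normal) (hCV : C ≤ V)
    (hVQ : V ≤ Q) (hN : ∀ g : G, (∀ w ∈ V, ⁅w, g⁆ ∈ C) → g ∈ M) {g s : G}
    (hs : s ∈ S.map (MulAut.conj g).toMonoidHom) (hsQ : s ∉ Q) {D : Subgroup G} (hDV : D ≤ V)
    (hD : ∀ d ∈ D, ⁅d, s⁆ ∈ C) : q ≤ D.relIndex V := by
  obtain ⟨s₀, hs₀, rfl⟩ := hs
  rw [← conj_idx hV g⁻¹]
  refine h.disp V C hV hC hCV hVQ hN s₀ hs₀ (fun hc => hsQ (h.Qn.conj_mem _ hc g)) _ ?_ ?_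
  · rintro _ ⟨d, hd, rfl⟩
    exact hV.conj_mem _ (hDV hd) _
  · rintro _ ⟨d, hd, rfl⟩
    have := hC.conj_mem _ (hD d hd) g⁻¹
    simpa [commutatorElement_def, mul_assoc] using this

/-- A critical path of two edges is impossible in characteristic two. -/
theorem two_data_false (h : PUp S Q Y M 2 q) (hg0 : g0 ∉ M) (T : TwoData S Q Y q Y1 Q1 C1 W Yd Qd W0 g0) :
    False := by
  classical
  haveI := h.Qn
  haveI := h.Yn
  set V := nbV S Y with hV
  haveI hVn : V.Normal := nbV_normal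
  have hVQ : V ≤ Q := iSup_le fun i => by
    rintro _ ⟨x, hx, rfl⟩
    exact h.Qn.conj_mem x (T.mate_le i.1 hx) i.2
  have hmV : ∀ σ, mate S Y σ ≤ V := fun σ x hx => Subgroup.mem_iSup_of_mem (σ, 1) ⟨x, hx, by simp⟩
  have hYV : Y ≤ V := fun y hy => hmV 1 ⟨⟨y, h.Y_le.trans h.Q_le hy⟩, ⟨_, hy, rfl⟩, rfl⟩
  have hcen : ∀ i : MulAut ↥S × G, ∀ x ∈ (mate S Y i.1).map (MulAut.conj i.2).toMonoidHom,
      ∀ s ∈ S.map (MulAut.conj i.2).toMonoidHom, ⁅x, s⁆ ∈ Y := by
    rintro ⟨σ, g⟩ _ ⟨_, ⟨_, ⟨y, hy, rfl⟩, rfl⟩, rfl⟩ _ ⟨s, hs, rfl⟩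
    simp only [MulEquiv.coe_toMonoidHom, Subgroup.coe_subtype]
    rw [← map_commutatorElement]
    refine h.Yn.conj_mem _ ?_ g
    have h1 : (⁅y, σ.symm ⟨s, hs⟩⁆ : ↥S).1 ∈ zS S := T.center (y : G) hy _ (σ.symm ⟨s, hs⟩).2
    have h2 := h.Z_char σ _ h1
    rw [map_commutatorElement, MulEquiv.apply_symm_apply] at h2
    exact h.Z_le h2
  have hVQc : V ≤ modCent Y Q := iSup_le fun i x hx => mem_modCent.2 fun s hs => hcen i x hx s
    ⟨i.2⁻¹ * s * i.2, h.Q_le (by simpa using h.Qn.conj_mem s hs i.2⁻¹), by simp [mul_assoc]⟩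
  haveI hCn : (cenIn Y).Normal := ⟨fun x hx g => by
    rwa [Subgroup.mem_center_iff.1 hx.2 g, mul_inv_cancel_right]⟩
  have hVV : V ≤ modCent (cenIn Y) V := iSup_le fun i => le_modCent_symm <| iSup_le fun j x hx =>
    mem_modCent.2 fun y hy => T.comm j i x hx y hy
  have hsq : ∀ x ∈ V, x * x ∈ Y := by
    intro x hx
    refine (Subgroup.iSup_induction (C := fun x => x ∈ V ∧ x * x ∈ Y) _ (x := x) hx ?_ ?_ ?_).2
    · intro i y hy
      refine ⟨Subgroup.mem_iSup_of_mem i hy, ?_⟩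
      obtain ⟨_, ⟨_, ⟨z, hz, rfl⟩, rfl⟩, rfl⟩ := hy
      rw [← map_mul, ← map_mul, ← map_mul,
        show z * z = 1 from Subtype.ext (by rw [← pow_two]; exact h.Y_exp _ hz), map_one, map_one, map_one]
      exact one_mem _
    · exact ⟨one_mem _, by simp⟩
    · intro a b ha hb
      refine ⟨mul_mem ha.1 hb.1, ?_⟩
      have hc : ⁅b, a⁆ ∈ Y := (mem_modCent.1 (hVV hb.1) a ha.1).1
      have e : a * b * (a * b) = a * a * (a⁻¹ * ⁅b, a⁆ * a) * (b * b) := by
        simp only [commutatorElement_def]; group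
      rw [e]
      exact mul_mem (mul_mem ha.2 (by simpa using h.Yn.conj_mem _ hc a⁻¹)) hb.2
  -- only elements of `M` centralize `V` modulo `Y`
  set U := autClosure S Y with hUdef
  have hUV : U ≤ V := iSup_le hmV
  have hSU : S ≤ Subgroup.normalizer (U : Set G) := fun s hs => Subgroup.mem_normalizer_iff.2 fun x => by
    constructor
    · intro hx
      exact autClosure_char S Y (MulAut.conj ⟨s, hs⟩) ⟨x, autClosure_le S Y hx⟩ hx
    · intro hx
      have h2 := autClosure_char S Y (MulAut.conj ⟨s, hs⟩)⁻¹ ⟨_, autClosure_le S Y hx⟩ hx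
      simpa [mul_assoc] using h2
  have hYne : Y ≠ ⊥ := by
    intro h0
    have h1 := h.idxY
    rw [h0, Subgroup.relIndex_bot_right] at h1
    have := h.two_le
    omega
  have hYU : Y ≤ U := le_autClosure Y (h.Y_le.trans h.Q_le)
  have hN2 : ∀ g : G, (∀ w ∈ V, ⁅w, g⁆ ∈ Y) → g ∈ M := by
    intro g hg
    by_contra hgM
    have hgU : g ∈ Subgroup.normalizer (U : Set G) := mem_normalizer_iff_cj_le.2 fun _ ⟨x, hx, e⟩ => by
      subst e
      show g * x * g⁻¹ ∈ U
      rw [show g * x * g⁻¹ = ⁅x, g⁆⁻¹ * x by simp only [commutatorElement_def]; group]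
      exact mul_mem (inv_mem (hYU (hg x (hUV hx)))) hx
    have hn : U.Normal := Subgroup.normalizer_eq_top_iff.1 (h.top _ hSU fun hc => hgM (hc hgU))
    exact hYne (le_bot_iff.1 (hYU.trans (eq_bot_of_hd h.hd (autClosure_le S Y) hn (autClosure_char S Y)).le))
  have hSQ : ∀ g : G, ∃ s ∈ S.map (MulAut.conj g).toMonoidHom, s ∉ Q := by
    intro g
    by_contra hc
    simp only [not_exists, not_and, not_not] at hc
    have hle : S ≤ Q := fun s hs => by
      have := h.Qn.conj_mem _ (hc _ ⟨s, hs, rfl⟩) g⁻¹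
      simpa [mul_assoc] using this
    have := h.idxS
    rw [Subgroup.relIndex_eq_one.2 hle] at this
    have := h.two_le
    omega
  -- fixed points modulo `Y`
  have hfix : ∀ (g : G) (Q' W' : Subgroup G), Q' ≤ S.map (MulAut.conj g).toMonoidHom →
      Q'.relIndex (S.map (MulAut.conj g).toMonoidHom) = q → S.map (MulAut.conj g).toMonoidHom ≤ Q ⊔ W' →
      (∀ x ∈ Q', ∀ w ∈ W', ⁅x, w⁆ ∈ Y) →
      V ⊓ Q' = V ⊓ modCent Y (S.map (MulAut.conj g).toMonoidHom) ∧ (V ⊓ Q').relIndex V = q ∧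
        ∀ s ∈ S.map (MulAut.conj g).toMonoidHom, s ∉ Q → V ⊓ Q' = V ⊓ modCent Y (Subgroup.zpowers s) := by
    intro g Q' W' hQ'S hQ'i hsup hcomm
    have hVS : V ≤ S.map (MulAut.conj g).toMonoidHom := fun x hx => ⟨g⁻¹ * x * g,
      h.Q_le (by simpa using h.Qn.conj_mem _ (hVQ hx) g⁻¹), by simp [mul_assoc]⟩
    have h1 : (V ⊓ Q').relIndex V ≤ q := by
      rw [inf_comm, Subgroup.inf_relIndex_right, ← hQ'i]
      exact Subgroup.relIndex_le_of_le_right hVS (relIndex_ne_zero' _ _)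
    have hle : V ⊓ Q' ≤ V ⊓ modCent Y (S.map (MulAut.conj g).toMonoidHom) := fun x hx => ⟨hx.1, by
      have hxQW : Q ⊔ W' ≤ modCent Y (Subgroup.zpowers x) := sup_le
        (le_modCent_symm (fun y hy => hVQc ((Subgroup.zpowers_le.2 hx.1) hy)))
        (fun w hw => mem_modCent.2 (by
          rintro _ ⟨i, rfl⟩
          rw [← commutatorElement_inv]
          exact inv_mem (hcomm _ (Q'.zpow_mem hx.2 i) w hw)))
      refine mem_modCent.2 fun s hs => ?_
      rw [← commutatorElement_inv]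
      exact inv_mem (mem_modCent.1 (hxQW (hsup hs)) x (Subgroup.mem_zpowers x))⟩
    have hs' : ∀ s ∈ S.map (MulAut.conj g).toMonoidHom, s ∉ Q →
        V ⊓ Q' = V ⊓ modCent Y (Subgroup.zpowers s) ∧
          V ⊓ Q' = V ⊓ modCent Y (S.map (MulAut.conj g).toMonoidHom) ∧ (V ⊓ Q').relIndex V = q := by
      intro s hs hsQ
      have hd := disp_conj h hVn h.Yn hYV hVQ hN2 hs hsQ (D := V ⊓ modCent Y (Subgroup.zpowers s)) inf_le_left
        (fun d hd => mem_modCent.1 hd.2 s (Subgroup.mem_zpowers s))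
      have hle2 : V ⊓ modCent Y (S.map (MulAut.conj g).toMonoidHom) ≤ V ⊓ modCent Y (Subgroup.zpowers s) :=
        fun x hx => ⟨hx.1, mem_modCent.2 fun y hy => mem_modCent.1 hx.2 y (Subgroup.zpowers_le.2 hs hy)⟩
      have h2 := Subgroup.relIndex_mul_relIndex (V ⊓ Q') (V ⊓ modCent Y (Subgroup.zpowers s)) V (hle.trans hle2)
        inf_le_left
      have h3 : (V ⊓ Q').relIndex (V ⊓ modCent Y (Subgroup.zpowers s)) = 1 := by
        have hp1 := Nat.pos_of_ne_zero (relIndex_ne_zero' (V ⊓ Q') (V ⊓ modCent Y (Subgroup.zpowers s)))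
        by_contra hne
        have h5 : 2 * q ≤ (V ⊓ Q').relIndex (V ⊓ modCent Y (Subgroup.zpowers s)) *
            (V ⊓ modCent Y (Subgroup.zpowers s)).relIndex V := Nat.mul_le_mul (by omega) hd
        have := h.two_le
        omega
      have h4 := le_antisymm (hle.trans hle2) (Subgroup.relIndex_eq_one.1 h3)
      rw [h3, one_mul] at h2
      exact ⟨h4, le_antisymm hle (hle2.trans h4.ge), le_antisymm h1 (h2 ▸ hd)⟩
    obtain ⟨s, hs, hsQ⟩ := hSQ g
    exact ⟨(hs' s hs hsQ).2.1, (hs' s hs hsQ).2.2, fun s hs hsQ => (hs' s hs hsQ).1⟩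
  have e1 : S.map (MulAut.conj (1 : G)).toMonoidHom = S := by ext; simp
  obtain ⟨hF1, hF1i, hF1s⟩ := hfix 1 Q1 W (by rw [e1]; exact T.Q1_le) (by rw [e1]; exact T.Q1_idx)
    (by rw [e1]; exact T.W_sup) (fun x hx w hw => (T.W_comm x hx w hw).1)
  obtain ⟨hFd, hFdi, -⟩ := hfix g0 Qd W0 T.Qd_le T.Qd_idx T.W0_sup T.Qd_comm
  rw [e1] at hF1 hF1s
  set F1 := V ⊓ Q1 with hF1def
  -- the elements central modulo `Y`
  set E := V ⊓ modCent Y ⊤ with hEdef
  haveI hEn : E.Normal := by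
    haveI : (modCent Y (⊤ : Subgroup G)).Normal := by
      haveI : ((⊤ : Subgroup G).map (QuotientGroup.mk' Y)).Normal :=
        Subgroup.Normal.map inferInstance _ (QuotientGroup.mk'_surjective Y)
      infer_instance
    infer_instance
  have hE : F1 ⊓ (V ⊓ Qd) = E := by
    refine le_antisymm (fun x hx => ⟨hx.1.1, ?_⟩) (le_inf (hF1.symm ▸ inf_le_inf_left _ ?_)
      (hFd.symm ▸ inf_le_inf_left _ ?_))
    · rw [hF1, hFd] at hx
      have hS : S ≤ modCent Y (F1 ⊓ (V ⊓ Qd)) := fun s hs => mem_modCent.2 fun y hy => by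
        rw [hF1, hFd] at hy
        rw [← commutatorElement_inv]
        exact inv_mem (mem_modCent.1 hy.1.2 s hs)
      have hS' : S.map (MulAut.conj g0).toMonoidHom ≤ modCent Y (F1 ⊓ (V ⊓ Qd)) := fun s hs =>
        mem_modCent.2 fun y hy => by
          rw [hF1, hFd] at hy
          rw [← commutatorElement_inv]
          exact inv_mem (mem_modCent.1 hy.2.2 s hs)
      have htop := h.top _ hS fun hc => by
        obtain ⟨s, hs, hsQ⟩ := hSQ g0
        obtain ⟨s₀, hs₀, rfl⟩ := hs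
        exact hsQ (h.ti g0 hg0 _ (hc (hS' ⟨s₀, hs₀, rfl⟩)) (by simpa [mul_assoc] using hs₀))
      refine mem_modCent.2 fun g _ => ?_
      rw [← commutatorElement_inv]
      refine inv_mem (mem_modCent.1 (htop.ge (Subgroup.mem_top g)) x ?_)
      rw [hF1, hFd]
      exact hx
    · exact fun x hx => mem_modCent.2 fun y _ => mem_modCent.1 hx y (Subgroup.mem_top y)
    · exact fun x hx => mem_modCent.2 fun y _ => mem_modCent.1 hx y (Subgroup.mem_top y)
  have hEF : E ≤ F1 := hE ▸ inf_le_left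
  have hEd : E ≤ Qd := hE ▸ inf_le_right.trans inf_le_right
  have hYE : Y ≤ E := fun y hy => ⟨hYV hy, mem_modCent.2 fun g _ => by
    rw [commutatorElement_def, show y * g * y⁻¹ * g⁻¹ = y * (g * y⁻¹ * g⁻¹) by group]
    exact mul_mem hy (h.Yn.conj_mem _ (inv_mem hy) g)⟩
  have hY1F : Y1 ≤ F1 := le_inf T.Y1_nb T.Y1_le
  have hidxE : E.relIndex F1 ≤ q := by
    rw [← hE, inf_comm, Subgroup.inf_relIndex_right, ← hFdi]
    exact Subgroup.relIndex_le_of_le_right inf_le_left (relIndex_ne_zero' _ _)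
  have hY1E : q ≤ E.relIndex Y1 := by
    rw [← T.Y1_idx, ← Subgroup.inf_relIndex_right E]
    exact Subgroup.relIndex_le_of_le_left (fun u hu => T.sep u hu.2 fun v hv => T.Qd_cent u (hEd hu.1) v hv)
      (relIndex_ne_zero' _ _)
  have hsplit : F1 ≤ Y1 ⊔ E := by
    have h2 := Subgroup.relIndex_mul_relIndex E (Y1 ⊔ E) F1 le_sup_right (sup_le hY1F hEF)
    rw [Subgroup.relIndex_sup_right] at h2
    refine Subgroup.relIndex_eq_one.1 ?_
    have hp1 := Nat.pos_of_ne_zero (relIndex_ne_zero' (Y1 ⊔ E) F1)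
    by_contra hne
    have h5 : q * 2 ≤ E.relIndex Y1 * (Y1 ⊔ E).relIndex F1 := Nat.mul_le_mul hY1E (by omega)
    have := h.two_le
    omega
  have hN3 : ∀ g : G, (∀ w ∈ V, ⁅w, g⁆ ∈ E) → g ∈ M := by
    intro g hg
    by_contra hgM
    have hA : (Y1 ⊔ E) = F1 := le_antisymm (sup_le hY1F hEF) hsplit
    have hmem : ∀ x, x ∈ S ∨ x = g → F1.map (MulAut.conj x).toMonoidHom ≤ F1 := by
      rintro x hx _ ⟨y, hy, rfl⟩
      show x * y * x⁻¹ ∈ F1
      rw [show x * y * x⁻¹ = ⁅y, x⁆⁻¹ * y by simp only [commutatorElement_def]; group]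
      refine mul_mem (inv_mem ?_) hy
      rcases hx with hx | rfl
      · rw [hF1] at hy
        exact hEF (hYE (mem_modCent.1 hy.2 x hx))
      · exact hEF (hg y hy.1)
    have hn : F1.Normal := Subgroup.normalizer_eq_top_iff.1 (h.top _ (fun s hs =>
      mem_normalizer_iff_cj_le.2 (hmem s (Or.inl hs))) fun hc => hgM (hc (mem_normalizer_iff_cj_le.2
        (hmem g (Or.inr rfl)))))
    have hle : F1 ≤ E := fun x hx => by
      rw [← hE]
      refine ⟨hx, hFd.symm ▸ ⟨hx.1, mem_modCent.2 ?_⟩⟩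
      rintro _ ⟨s, hs, rfl⟩
      have h1 : g0⁻¹ * x * g0 ∈ F1 := by simpa using hn.conj_mem x hx g0⁻¹
      rw [hF1] at h1
      have h2 := h.Yn.conj_mem _ (mem_modCent.1 h1.2 s hs) g0
      simpa [commutatorElement_def, mul_assoc] using h2
    have := (Subgroup.relIndex_eq_one.2 (hY1F.trans hle)).symm.trans_ge hY1E
    have := h.two_le
    omega
  -- the commutators with `W`
  apply T.nontriv
  intro v hv u hu
  have hvV : v ∈ V := T.Yd_nb hv
  have hv2 := T.Yd_exp v hv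
  by_cases hvQ : v ∈ Q1
  · rw [commutatorElement_eq_one_iff_mul_comm.2 (T.Q1_cent v hvQ u hu)]
    exact one_mem _
  have hd : ∀ w ∈ W, ⁅v, w⁆ ∈ F1 := by
    intro w hw
    have hdV : ⁅v, w⁆ ∈ V := by
      rw [commutatorElement_def, show v * w * v⁻¹ * w⁻¹ = v * (w * v⁻¹ * w⁻¹) by group]
      exact mul_mem hvV (hVn.conj_mem _ (inv_mem hvV) w)
    by_cases hwQ : w ∈ Q
    · exact hEF (hYE (mem_modCent.1 (hVQc hvV) w hwQ))
    · rw [hF1s w (T.W_le hw) hwQ]
      refine ⟨hdV, mem_modCent.2 ?_⟩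
      have hw2 := T.W_exp w hw
      have key : ⁅⁅v, w⁆, w⁆ ∈ Y := by
        have hwi : w⁻¹ = w := inv_eq_of_mul_eq_one_right hw2
        have hvi : v⁻¹ = v := inv_eq_of_mul_eq_one_right hv2
        rw [show ⁅⁅v, w⁆, w⁆ = ⁅v, w⁆ * ⁅v, w⁆ by
          simp only [commutatorElement_def, mul_inv_rev, inv_inv, hwi, hvi, mul_assoc]
          rw [← mul_assoc w w, hw2, one_mul]]
        exact hsq _ hdV
      exact mem_modCent.1 (mem_modCent_zpowers key)
  set π := QuotientGroup.mk' E with hπ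
  have hπ1 : ∀ x, π x = 1 ↔ x ∈ E := fun x => QuotientGroup.eq_one_iff x
  let ρ : W →* G ⧸ E :=
    MonoidHom.mk' (fun w => π ⁅v, (w : G)⁆) fun a b => by
      show π ⁅v, (a : G) * b⁆ = π ⁅v, (a : G)⁆ * π ⁅v, (b : G)⁆
      rw [show ⁅v, (a : G) * b⁆ = ⁅v, (a : G)⁆ * (⁅(a : G), ⁅v, (b : G)⁆⁆ * ⁅v, (b : G)⁆) by
        simp only [commutatorElement_def]; group, map_mul, map_mul]
      have : π ⁅(a : G), ⁅v, (b : G)⁆⁆ = 1 := by
        rw [hπ1, ← commutatorElement_inv]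
        have h1 := hd b b.2
        rw [hF1] at h1
        exact inv_mem (hYE (mem_modCent.1 h1.2 a (T.W_le a.2)))
      rw [this, one_mul]
  have hker : ρ.ker ≤ Q.subgroupOf W := by
    intro w hw
    by_contra hwQ
    apply hvQ
    have hwE : ⁅v, (w : G)⁆ ∈ E := (hπ1 _).1 hw
    set D := V ⊓ modCent E (Subgroup.zpowers (w : G))
    have hdd := h.disp V E hVn hEn inf_le_left hVQ hN3 w (T.W_le w.2) hwQ D inf_le_left
      (fun d hd => mem_modCent.1 hd.2 _ (Subgroup.mem_zpowers _))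
    have hFD : F1 ≤ D := by
      rw [hF1]
      exact fun x hx => ⟨hx.1, mem_modCent.2 fun y hy =>
        hYE (mem_modCent.1 hx.2 y (Subgroup.zpowers_le.2 (T.W_le w.2) hy))⟩
    have h2 := Subgroup.relIndex_mul_relIndex F1 D V hFD inf_le_left
    rw [hF1i] at h2
    have h3 : F1.relIndex D = 1 := by
      have hp1 := Nat.pos_of_ne_zero (relIndex_ne_zero' F1 D)
      by_contra hne
      have h5 : 2 * q ≤ F1.relIndex D * D.relIndex V := Nat.mul_le_mul (by omega) hdd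
      have := h.two_le
      omega
    refine (Subgroup.relIndex_eq_one.1 h3 ⟨hvV, mem_modCent.2 ?_⟩).2
    rintro _ ⟨i, rfl⟩
    have h6 : π (w : G) * π v = π v * π w := by
      rw [eq_comm, ← commutatorElement_eq_one_iff_mul_comm, ← map_commutatorElement, hπ1]
      exact hwE
    rw [← hπ1, map_commutatorElement, commutatorElement_eq_one_iff_mul_comm, map_zpow]
    exact ((show Commute (π v) (π w) from h6.symm).zpow_right i).eq
  have hrange : ρ.range = F1.map π := by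
    refine Subgroup.eq_of_le_of_card_ge (by rintro _ ⟨w, rfl⟩; exact ⟨_, hd w w.2, rfl⟩) ?_
    have h1 : Nat.card (F1.map π) = E.relIndex F1 := by
      rw [← Subgroup.relIndex_ker F1 π, QuotientGroup.ker_mk']
    have h2 : ρ.ker.index = Nat.card ρ.range := Subgroup.index_ker ρ
    have h3 : q ≤ ρ.ker.index := by
      refine le_trans ?_ (Nat.le_of_dvd (Nat.pos_of_ne_zero Subgroup.index_ne_zero_of_finite) (Subgroup.index_dvd_of_le hker))
      show q ≤ Q.relIndex W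
      rw [← Subgroup.relIndex_sup_right W Q, ← h.idxS]
      exact le_of_eq (congrArg _ (le_antisymm (sup_le T.W_le h.Q_le) (sup_comm Q W ▸ T.W_sup)).symm)
    rw [h1, ← h2]
    exact hidxE.trans h3
  obtain ⟨⟨w, hw⟩, hwu⟩ := hrange.ge (show π u ∈ F1.map π from ⟨u, hY1F hu, rfl⟩)
  change π ⁅v, w⁆ = π u at hwu
  set d := ⁅v, w⁆ with hdd
  set e := u⁻¹ * d
  have heE : e ∈ E := by rw [← hπ1, map_mul, map_inv, hwu, inv_mul_cancel]
  have hev : Commute v e := (T.Qd_cent e (hEd heE) v hv).symm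
  have heu : Commute u e := (T.Q1_cent e (hEF heE).2 u hu).symm
  have hde : d = u * e := (mul_inv_cancel_left u d).symm
  have hvi : v⁻¹ = v := inv_eq_of_mul_eq_one_right hv2
  have hwi : w⁻¹ = w := inv_eq_of_mul_eq_one_right (T.W_exp w hw)
  have hui : u⁻¹ = u := inv_eq_of_mul_eq_one_right (T.Y1_exp u hu)
  have hvd : v * d * (v * d) = 1 := by
    have h1 : v * d = w * v * w := by
      rw [hdd, commutatorElement_def, hvi, hwi, ← mul_assoc, ← mul_assoc, ← mul_assoc, hv2, one_mul]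
    rw [h1]
    have hw2 := T.W_exp w hw
    rw [show w * v * w * (w * v * w) = w * v * (w * w) * v * w by group, hw2, mul_one,
      show w * v * v * w = w * (v * v) * w by group, hv2, mul_one, hw2]
  have he2 : e * e ∈ C1 := by
    have h1 := (T.W_comm d (hd w hw).2 w hw).2
    have h2 : ⁅d, w⁆ = d * d := by
      rw [hdd]
      simp only [commutatorElement_def, mul_inv_rev, inv_inv, hwi, hvi, mul_assoc]
      rw [← mul_assoc w w, T.W_exp w hw, one_mul]
    rw [h2, hde, show u * e * (u * e) = (u * u) * (e * e) by rw [mul_assoc, ← mul_assoc e u e, heu.symm.eq]; group,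
      T.Y1_exp u hu, one_mul] at h1
    exact h1
  have hfinal : ⁅v, u⁆ * (e * e) = 1 := by
    rw [← hvd, hde, commutatorElement_def, hvi, hui]
    have hevu : Commute e (v * u) := hev.symm.mul_right heu.symm
    calc v * u * v * u * (e * e) = v * u * (v * u * e) * e := by group
      _ = v * u * (e * (v * u)) * e := by rw [hevu.eq]
      _ = _ := by group
  rw [eq_inv_of_mul_eq_one_left hfinal]
  exact inv_mem he2

end Cfsg.Agent.PushUp
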