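import Cfsg.Agent.Lib.PushUp.LongPaths
import Cfsg.Agent.Lib.PushUp.TwoEdgeGroup

/-!
# An automorphic image of `Y` lies outside the core
-/

set_option autoImplicit false

open scoped commutatorElement

namespace Cfsg.Agent.PushUp

open Cfsg

universe u

variable {G : Type u} [Group G] {S : Subgroup G}

theorem map_emb_mate (f : Amal S) (α β : MulAut ↥S) {X : Subgroup G} (hX : X ≤ S) :
    X.map (emb f β) = (mate S X (α * β⁻¹)).map (emb f α) := by
  ext y
  constructor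
  · rintro ⟨x, hx, rfl⟩
    exact ⟨_, ⟨_, ⟨⟨x, hX hx⟩, hx, rfl⟩, rfl⟩, (emb_mem_S f β α ⟨x, hX hx⟩).symm⟩
  · rintro ⟨_, ⟨_, ⟨x, hx, rfl⟩, rfl⟩, rfl⟩
    exact ⟨x, hx, emb_mem_S f β α x⟩

theorem map_emb_conj_mate (f : Amal S) (α β : MulAut ↥S) (g : G) {X : Subgroup G} (hX : X ≤ S) :
    X.map (emb (f * io α g) β) =
      ((mate S X (α * β⁻¹)).map (MulAut.conj g).toMonoidHom).map (emb f α) := by
  rw [map_emb_mate _ α β hX]
  conv_rhs => rw [Subgroup.map_map]
  congr 1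
  ext x
  exact emb_mul f α g x

theorem mate_eq_of_char {X : Subgroup G} (h : ∀ σ : MulAut ↥S, ∀ x : ↥S, (x : G) ∈ X → (σ x : G) ∈ X)
    (hX : X ≤ S) (σ : MulAut ↥S) : mate S X σ = X := by
  refine le_antisymm ?_ fun x hx => ⟨⟨x, hX hx⟩, ⟨σ.symm ⟨x, hX hx⟩, h σ.symm ⟨x, hX hx⟩ hx, by simp⟩, rfl⟩
  rintro _ ⟨_, ⟨x, hx, rfl⟩, rfl⟩
  exact h σ x hx

theorem mate_relIndex {A B : Subgroup G} (hB : B ≤ S) (σ : MulAut ↥S) :
    (mate S A σ).relIndex (mate S B σ) = A.relIndex B := by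
  rw [Subgroup.relIndex_map_map_of_injective _ _ Subtype.val_injective,
    Subgroup.relIndex_map_map_of_injective (f := σ.toMonoidHom) _ _ σ.injective, Subgroup.relIndex_subgroupOf hB]

theorem mate_mono {A B : Subgroup G} (hAB : A ≤ B) (σ : MulAut ↥S) : mate S A σ ≤ mate S B σ :=
  Subgroup.map_mono (Subgroup.map_mono fun _ hx => hAB hx)

theorem mate_S (σ : MulAut ↥S) : mate S S σ = S :=
  mate_eq_of_char (fun τ x _ => (τ x).2) le_rfl σ

theorem emb_left (a f : Amal S) (α : MulAut ↥S) (x : G) : emb (a * f) α x = a * emb f α x * a⁻¹ := by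
  simp only [emb_apply]
  group

variable {Q Y M : Subgroup G} {p q b : ℕ}

namespace PUp

variable (h : PUp S Q Y M p q) [Finite G]
include h

/-- Some path has ends which do not commute. -/
theorem exists_path : ∃ (k : ℕ) (d : ℕ → Dart S), 1 ≤ k ∧ Chain k d ∧ ¬ (d 0).src Y ≤ (d (k - 1)).tgt Q := by
  by_contra hcon
  simp only [not_exists, not_and, not_not] at hcon
  let ι := {x : ℕ × (ℕ → Dart S) // 1 ≤ x.1 ∧ Chain x.1 x.2 ∧ (x.2 0).f = 1}
  set W : Subgroup (Amal S) := ⨆ i : ι, (i.1.2 (i.1.1 - 1)).tgt Y with hW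
  have hWle : ∀ α : MulAut ↥S, W ≤ Q.map (emb 1 α) := fun α => iSup_le fun ⟨⟨k, d⟩, hk, hd, hf⟩ => by
    change (d 0).f = 1 at hf
    let d' : ℕ → Dart S := fun i => if i = 0 then ⟨1, α, (d 0).r⟩ else d i
    have hd' : Chain k d' := fun i hi => by
      show Link (if i = 0 then _ else d i) (if i + 1 = 0 then _ else d (i + 1))
      rw [if_neg (show i + 1 ≠ 0 by omega)]
      by_cases hi0 : i = 0
      · subst hi0
        rw [if_pos rfl]
        obtain ⟨h1, g, h2⟩ := hd 0 hi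
        exact ⟨h1, g, by rw [h2, hf]⟩
      · rw [if_neg hi0]
        exact hd i hi
    have h1 := hcon k (revD k d') hk hd'.reverse
    change (d' (k - 1 - 0)).rev.src Y ≤ (d' (k - 1 - (k - 1))).rev.tgt Q at h1
    rw [Nat.sub_zero, Nat.sub_self] at h1
    change (d' (k - 1)).tgt Y ≤ Q.map (emb 1 α) at h1
    refine le_trans (le_of_eq ?_) h1
    show (d (k - 1)).tgt Y = (d' (k - 1)).tgt Y
    by_cases hk1 : k - 1 = 0
    · simp only [d', hk1, if_pos, Dart.tgt, hf]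
    · simp only [d', if_neg hk1]
  have hWinv : ∀ (α : MulAut ↥S) (g : G) (x : Amal S), x ∈ W →
      emb 1 α g * x * (emb 1 α g)⁻¹ ∈ W := by
    intro α g x hx
    have : W ≤ W.comap (MulAut.conj (emb (1 : Amal S) α g)).toMonoidHom := iSup_le fun ⟨⟨k, d⟩, hk, hd, hf⟩ => by
      rintro _ ⟨y, hy, rfl⟩
      change (d 0).f = 1 at hf
      set a := emb (1 : Amal S) α g with ha
      let dT : ℕ → Dart S := fun i => if i = 0 then ⟨a, α, (d 0).r⟩ else ⟨a * (d i).f, (d i).l, (d i).r⟩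
      have hdT : Chain k dT := fun i hi => by
        show Link (if i = 0 then _ else _) (if i + 1 = 0 then _ else _)
        rw [if_neg (show i + 1 ≠ 0 by omega)]
        obtain ⟨h1, g', h2⟩ := hd i hi
        by_cases hi0 : i = 0
        · subst hi0
          rw [if_pos rfl]
          exact ⟨h1, g', by show a * (d (0 + 1)).f = a * io (d 0).r g'; rw [h2, hf, one_mul]⟩
        · rw [if_neg hi0]
          exact ⟨h1, g', by show a * (d (i + 1)).f = a * (d i).f * io (d i).r g'; rw [h2, mul_assoc]⟩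
      have hl : Link (⟨1, α, α⟩ : Dart S) (dT 0) :=
        ⟨rfl, g, by show a = 1 * io α g; rw [ha, emb_apply]; simp⟩
      refine Subgroup.mem_iSup_of_mem
        (⟨(k + 1, consD ⟨1, α, α⟩ dT), by simp, hdT.cons hl, rfl⟩ : ι) ?_
      show a * emb (d (k - 1)).f (d (k - 1)).r y * a⁻¹ ∈ (consD ⟨1, α, α⟩ dT (k + 1 - 1)).tgt Y
      rw [show k + 1 - 1 = (k - 1) + 1 by change 1 ≤ k at hk; omega]
      show _ ∈ (dT (k - 1)).tgt Y
      rw [← emb_left]
      by_cases hk1 : k - 1 = 0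
      · simp only [dT, hk1, if_pos, Dart.tgt, hf, mul_one]
        exact ⟨y, hy, rfl⟩
      · simp only [dT, if_neg hk1]
        exact ⟨y, hy, rfl⟩
    exact this hx
  set W0 := W.comap (emb (1 : Amal S) 1) with hW0
  have hW0S : W0 ≤ S := fun x hx => by
    obtain ⟨y, hy, hyx⟩ := hWle 1 hx
    exact emb_injective _ _ hyx ▸ h.Q_le hy
  have hn : (autClosure S W0).Normal := by
    refine ⟨fun x hx g => ?_⟩
    have key : autClosure S W0 ≤ (autClosure S W0).comap (MulAut.conj g).toMonoidHom := iSup_le fun σ => by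
      rintro _ ⟨_, ⟨z, hz, rfl⟩, rfl⟩
      have hz' : emb (1 : Amal S) σ (σ z : ↥S) ∈ W := by
        have := emb_mem_S (1 : Amal S) σ 1 (σ z)
        simp only [MulAut.one_apply, MulAut.inv_apply_self] at this
        exact this ▸ hz
      have h1 := hWinv σ g _ hz'
      rw [← map_inv, ← map_mul, ← map_mul] at h1
      obtain ⟨y, hy, hyx⟩ := hWle σ h1
      have hyS : y = g * (σ z : ↥S) * g⁻¹ := emb_injective _ _ hyx
      show g * (σ z : ↥S) * g⁻¹ ∈ autClosure S W0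
      refine (le_iSup (fun σ : MulAut ↥S => mate S W0 σ) σ)
        ⟨⟨y, h.Q_le hy⟩, ⟨σ⁻¹ ⟨y, h.Q_le hy⟩, ?_, MulAut.apply_inv_self _ _ _⟩, hyS⟩
      show emb (1 : Amal S) 1 (σ⁻¹ ⟨y, h.Q_le hy⟩ : ↥S) ∈ W
      have := emb_mem_S (1 : Amal S) σ 1 ⟨y, h.Q_le hy⟩
      simp only [MulAut.one_apply] at this
      rw [← this, hyx]
      exact h1
    exact key hx
  have hbot := eq_bot_of_hd h.hd (autClosure_le S W0) hn (autClosure_char S W0)
  refine h.Y_not_le_zh (1 : Amal S) 1 ?_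
  have hY : Y ≤ W0 := fun y hy => Subgroup.mem_iSup_of_mem
    (⟨(1, fun _ => ⟨1, 1, 1⟩), le_rfl, fun i hi => absurd hi (by omega), rfl⟩ : ι) ⟨y, hy, rfl⟩
  rw [le_bot_iff.1 ((hY.trans (le_autClosure W0 hW0S)).trans hbot.le), Subgroup.map_bot]
  exact bot_le

variable (hmin : ShortPaths Q Y b S) (hb : 2 ≤ b)

include hmin hb in
theorem mate_le_Q (σ : MulAut ↥S) : mate S Y σ ≤ Q := by
  have h1 := hmin 1 le_rfl (by omega) (fun _ => (⟨1, σ⁻¹, 1⟩ : Dart S)) (fun i hi => absurd hi (by omega))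
  change Y.map (emb (1 : Amal S) σ⁻¹) ≤ Q.map (emb 1 1) at h1
  rw [map_emb_mate _ 1 σ⁻¹ h.Y_S, one_mul, inv_inv] at h1
  exact (Subgroup.map_le_map_iff_of_injective (emb_injective _ _)).1 h1

end PUp

namespace PUp

variable (h : PUp S Q Y M 2 q) (hmin : ShortPaths Q Y 2 S) [Finite G]
include h hmin

theorem side_facts {d : ℕ → Dart S} (hc : Crit Q Y 2 d) (ht : Turn M (d 0) (d 1)) :
    ∃ W : Subgroup G, W ≤ S ∧ S ≤ Q ⊔ W ∧ (∀ w ∈ W, w * w = 1) ∧
      ∀ x ∈ mate S Q ((d 0).l * (d 0).r⁻¹), ∀ w ∈ W,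
        ⁅x, w⁆ ∈ Y ⊓ mate S (cenIn Y) ((d 0).l * (d 0).r⁻¹) := by
  have hb : 2 ≤ 2 := le_rfl
  set E := emb (d 0).f (d 0).l
  have hsub : (d 1).tgt Y ≤ E.range := (h.tgt_sh_first hmin hb hc).trans (h.sh_range _ _)
  refine ⟨((d 1).tgt Y).comap E, fun w hw => ?_, fun s hs => ?_, fun w hw => ?_, fun x hx w hw => ?_⟩
  · obtain ⟨s, hs, hse⟩ := (map_S (d 0).f (d 0).l).ge (h.tgt_sh_first hmin hb hc hw)
    exact emb_injective _ _ hse ▸ hs
  · have h1 : E s ∈ sh (revD 2 d (2 - 1)).f := by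
      show E s ∈ sh (d 0).f
      exact (map_S (d 0).f (d 0).l).le ⟨s, hs, rfl⟩
    obtain ⟨z, hz, y, hy, he⟩ := h.exists_split hmin hb (h.crit_rev hmin hb hc) h1
    change z ∈ (d 1).tgt Y at hz
    change y ∈ Q.map E at hy
    obtain ⟨z', hz'⟩ := hsub hz
    obtain ⟨y', hy', rfl⟩ := hy
    rw [← hz', ← map_mul] at he
    rw [emb_injective _ _ he]
    exact mul_mem (Subgroup.mem_sup_right (show E z' ∈ (d 1).tgt Y by rw [hz']; exact hz))
      (Subgroup.mem_sup_left hy')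
  · obtain ⟨y, hy, hye⟩ := hw
    refine emb_injective (d 0).f (d 0).l ?_
    change emb (d 1).f (d 1).r y = E w at hye
    rw [map_mul, map_one, show emb (d 0).f (d 0).l w = emb (d 1).f (d 1).r y from hye.symm, ← map_mul,
      ← pow_two, h.Y_exp y hy, map_one]
  · have hx' : E x ∈ (d 0).tgt Q := by
      rw [Dart.tgt, map_emb_mate _ (d 0).l (d 0).r h.Q_le]
      exact ⟨x, hx, rfl⟩
    have hxsh : E x ∈ sh (d 1).f := by
      rw [← (hc.link hb).src_eq h.Qn] at hx'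
      exact h.Q_sh _ _ hx'
    obtain ⟨z, hz, y, hy, he⟩ := h.exists_split hmin hb hc (x := E x) hxsh
    have hyw : Commute y (E w) := (h.commute_Q hy hw).symm
    have e1 : ⁅E x, E w⁆ = ⁅z, E w⁆ := by
      rw [he, commutatorElement_def, commutatorElement_def, mul_inv_rev,
        show z * y * E w = z * (y * E w) by group, hyw.eq]
      group
    rw [← map_commutatorElement] at e1
    refine ⟨?_, ?_⟩
    · have h2 := (h.comm_mem hmin hb hc hz hw).1
      rw [← e1] at h2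
      exact (Subgroup.mem_map_iff_mem (emb_injective _ _)).1 h2
    · have h2 := h.mid_comm hmin hb hc ht hz hw
      rw [← e1, Dart.tgt, map_emb_mate _ (d 0).l (d 0).r (h.C_le.trans inf_le_left)] at h2
      exact (Subgroup.mem_map_iff_mem (emb_injective _ _)).1 h2

/-- In characteristic two there is no critical path of two edges. -/
theorem no_two (hMS : M ≤ Subgroup.normalizer (S : Set G)) {d : ℕ → Dart S} (hc : Crit Q Y 2 d) : False := by
  have hb : 2 ≤ 2 := le_rfl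
  obtain ⟨gx, hgx⟩ : ∃ g, g ∉ M := by
    by_contra hcon
    simp only [not_exists, not_not] at hcon
    exact h.M_ne (eq_top_iff.2 fun x _ => hcon x)
  obtain ⟨d, hc, htt⟩ := h.exists_turns hmin hb hc hgx
  have ht := htt 0 (by norm_num)
  obtain ⟨e, hef, hte, hce⟩ := h.exists_left hmin hb hc hgx
  obtain ⟨e2, -, hte2, hce2⟩ := h.exists_left hmin hb hce hgx
  obtain ⟨W, hWS, hWsup, hWexp, hWcomm⟩ := h.side_facts hmin hc ht
  obtain ⟨W', hW'S, hW'sup, -, hW'comm⟩ :=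
    h.side_facts hmin (h.crit_rev hmin hb hce2) (by exact hte2.rev)
  have her : e.r = (d 0).l := hte.1.symm
  change ∀ x ∈ mate S Q (e.r * e.l⁻¹), ∀ w ∈ W', ⁅x, w⁆ ∈ Y ⊓ mate S (cenIn Y) (e.r * e.l⁻¹) at hW'comm
  rw [her] at hW'comm
  set α := (d 0).l with hα
  set f0 := (d 0).f with hf0
  set σ1 := α * (d 0).r⁻¹ with hσ1
  set σ0 := α * e.l⁻¹ with hσ0
  have hcsub : cenIn Y ≤ S := h.C_le.trans inf_le_left
  have hml := h.mate_le_Q hmin hb
  have hQcent : ∀ σ x, x ∈ mate S Q σ → ∀ y ∈ mate S Y σ, x * y = y * x := by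
    rintro σ _ ⟨_, ⟨x, hx, rfl⟩, rfl⟩ _ ⟨_, ⟨y, hy, rfl⟩, rfl⟩
    have h1 : x * y = y * x := Subtype.ext (Subgroup.mem_centralizer_iff.1 (h.Q_cent hx) (y : G) hy).symm
    have h2 := congrArg σ h1
    rw [map_mul, map_mul] at h2
    exact congrArg Subtype.val h2
  have hZσ : ∀ σ, mate S (zS S) σ = zS S := fun σ => mate_eq_of_char h.Z_char inf_le_left σ
  have hYexp : ∀ σ, ∀ y ∈ mate S Y σ, y * y = 1 := by
    rintro σ _ ⟨_, ⟨y, hy, rfl⟩, rfl⟩
    rw [← map_mul, ← map_mul, show y * y = 1 from Subtype.ext (by rw [← pow_two]; exact h.Y_exp _ hy),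
      map_one, map_one]
  -- `[Y, S]` lies in `Z(S)`
  have hcenter : ∀ y ∈ Y, ∀ s ∈ S, ⁅y, s⁆ ∈ zS S := by
    intro y hy s hs
    have hx : emb f0 α s ∈ sh (revD 2 d (2 - 1)).f := (map_S f0 α).le ⟨s, hs, rfl⟩
    obtain ⟨z, hz, w, hw, he⟩ := h.exists_split hmin hb (h.crit_rev hmin hb hc) hx
    have hyz : ⁅emb f0 α y, z⁆ ∈ zh f0 := (h.comm_mem hmin hb hc ⟨y, hy, rfl⟩ hz).2.2
    have hcw : Commute (emb f0 α y) w := h.commute_Q (f := f0) (α := α) hw ⟨y, hy, rfl⟩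
    have e1 : ⁅emb f0 α y, emb f0 α s⁆ = ⁅emb f0 α y, z⁆ := by
      rw [he, commutatorElement_def, commutatorElement_def, mul_inv_rev,
        show emb f0 α y * (z * w) * (emb f0 α y)⁻¹ = emb f0 α y * z * (w * (emb f0 α y)⁻¹) by group,
        hcw.inv_left.eq.symm]
      group
    rw [← map_commutatorElement] at e1
    rw [← e1, ← h.Z_map f0 α] at hyz
    exact (Subgroup.mem_map_iff_mem (emb_injective _ _)).1 hyz
  -- commutators of two neighbours
  have hcomm : ∀ i j : MulAut ↥S × G, ∀ x ∈ (mate S Y i.1).map (MulAut.conj i.2).toMonoidHom,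
      ∀ y ∈ (mate S Y j.1).map (MulAut.conj j.2).toMonoidHom, ⁅x, y⁆ ∈ cenIn Y := by
    rintro ⟨σ, g⟩ ⟨σ', g'⟩ x hx y hy
    let a : Dart S := ⟨f0 * io α g, σ⁻¹ * α, α⟩
    let c : Dart S := ⟨f0 * io α g', α, σ'⁻¹ * α⟩
    have ha : a.src Y = ((mate S Y σ).map (MulAut.conj g).toMonoidHom).map (emb f0 α) := by
      rw [Dart.src, map_emb_conj_mate f0 α (σ⁻¹ * α) g h.Y_S, mul_inv_rev, inv_inv, mul_inv_cancel_left]
    have hc' : c.tgt Y = ((mate S Y σ').map (MulAut.conj g').toMonoidHom).map (emb f0 α) := by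
      rw [Dart.tgt, map_emb_conj_mate f0 α (σ'⁻¹ * α) g' h.Y_S, mul_inv_rev, inv_inv, mul_inv_cancel_left]
    have hxa : emb f0 α x ∈ a.src Y := ha ▸ ⟨x, hx, rfl⟩
    have hyc : emb f0 α y ∈ c.tgt Y := hc' ▸ ⟨y, hy, rfl⟩
    by_cases hM : g⁻¹ * g' ∈ M
    · -- the two stars have the same Sylow subgroup
      have hn := hMS hM
      obtain ⟨x₀, hx₀, rfl⟩ := hx
      obtain ⟨y₀, hy₀, rfl⟩ := hy
      obtain ⟨_, ⟨u, hu, rfl⟩, rfl⟩ := hx₀
      obtain ⟨_, ⟨v, hv, rfl⟩, rfl⟩ := hy₀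
      let τ : ↥S := ⟨g⁻¹ * g' * (σ' v : ↥S) * (g⁻¹ * g')⁻¹, (Subgroup.mem_normalizer_iff.1 hn _).1 (σ' v).2⟩
      have h1 : Commute (u : G) (σ⁻¹ τ : ↥S) := by
        let ρ : MulAut ↥S :=
          { toFun := fun s => ⟨g⁻¹ * g' * s * (g⁻¹ * g')⁻¹, (Subgroup.mem_normalizer_iff.1 hn _).1 s.2⟩
            invFun := fun s => ⟨(g⁻¹ * g')⁻¹ * s * (g⁻¹ * g'), by
              simpa using (Subgroup.mem_normalizer_iff.1 (inv_mem hn) (s : G)).1 s.2⟩
            left_inv := fun s => Subtype.ext (by simp [mul_assoc])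
            right_inv := fun s => Subtype.ext (by simp [mul_assoc])
            map_mul' := fun s t => Subtype.ext (by simp [mul_assoc]) }
        have h2 : ((σ⁻¹ τ : ↥S) : G) ∈ mate S Y (σ⁻¹ * ρ * σ') := ⟨_, ⟨v, hv, rfl⟩, rfl⟩
        exact (Subgroup.mem_centralizer_iff.1 (h.Q_cent (hml _ h2)) (u : G) hu)
      have h3 : Commute ((σ u : ↥S) : G) (τ : G) := by
        have h4 : u * σ⁻¹ τ = σ⁻¹ τ * u := Subtype.ext h1.eq
        have h5 := congrArg σ h4
        rw [map_mul, map_mul, MulAut.apply_inv_self] at h5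
        exact congrArg Subtype.val h5
      have h6 := h3.map (MulAut.conj g).toMonoidHom
      simp only [MulEquiv.coe_toMonoidHom, MulAut.conj_apply, Subgroup.coe_subtype] at h6 ⊢
      rw [show g * (τ : G) * g⁻¹ = g' * (σ' v : ↥S) * g'⁻¹ by simp only [τ]; group] at h6
      rw [commutatorElement_eq_one_iff_commute.2 h6]
      exact one_mem _
    · let dd : ℕ → Dart S := fun i => if i = 0 then a else c
      have hT : Turn M a c :=
        ⟨rfl, g⁻¹ * g', hM, by show f0 * io α g' = f0 * io α g * io α (g⁻¹ * g'); rw [map_mul, map_inv]; group⟩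
      by_cases hle : a.src Y ≤ c.tgt Q
      · have h1 : ⁅emb f0 α x, emb f0 α y⁆ = 1 :=
          commutatorElement_eq_one_iff_commute.2 (h.commute_Q (hle hxa) hyc).symm
        rw [← map_commutatorElement, ← map_one (emb f0 α)] at h1
        rw [emb_injective _ _ h1]
        exact one_mem _
      · have hcd : Crit Q Y 2 dd := ⟨fun i hi => by
          obtain rfl : i = 0 := by omega
          exact hT.link, hle⟩
        have h1 := h.mid_comm hmin hb hcd hT hxa hyc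
        change ⁅emb f0 α x, emb f0 α y⁆ ∈ (cenIn Y).map (emb (f0 * io α g) α) at h1
        rw [map_emb_mul cenIn_normal, ← map_commutatorElement] at h1
        exact (Subgroup.mem_map_iff_mem (emb_injective _ _)).1 h1
  have he0 : e.src Y = ((mate S Y σ0).map (MulAut.conj gx).toMonoidHom).map (emb f0 α) := by
    rw [Dart.src, hef, map_emb_conj_mate _ _ _ _ h.Y_S]
  have hd0 : (d 0).tgt Y = (mate S Y σ1).map (emb f0 α) := map_emb_mate _ _ _ h.Y_S
  refine two_data_false (Y1 := mate S Y σ1) (Q1 := mate S Q σ1) (C1 := mate S (cenIn Y) σ1) (W := W)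
    (Yd := (mate S Y σ0).map (MulAut.conj gx).toMonoidHom)
    (Qd := (mate S Q σ0).map (MulAut.conj gx).toMonoidHom)
    (W0 := W'.map (MulAut.conj gx).toMonoidHom) h hgx
    { mate_le := hml
      comm := hcomm
      center := hcenter
      Y1_nb := fun y hy => Subgroup.mem_iSup_of_mem (σ1, 1) ⟨y, hy, by simp⟩
      Yd_nb := le_iSup (fun i : MulAut ↥S × G => (mate S Y i.1).map (MulAut.conj i.2).toMonoidHom) (σ0, gx)
      Q1_le := Subgroup.map_subtype_le _
      Q1_idx := (congrArg _ (mate_S σ1).symm).trans ((mate_relIndex le_rfl σ1).trans h.idxS)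
      Q1_cent := hQcent σ1
      Y1_le := mate_mono h.Y_le σ1
      Y1_idx := (congrArg (fun X : Subgroup G => X.relIndex _) (hZσ σ1).symm).trans
        ((mate_relIndex h.Y_S σ1).trans h.idxY)
      Y1_exp := hYexp σ1
      Yd_exp := ?_
      W_le := hWS
      W_sup := hWsup
      W_exp := hWexp
      W_comm := hWcomm
      Qd_le := Subgroup.map_mono (Subgroup.map_subtype_le _)
      Qd_idx := ?_
      Qd_cent := ?_
      W0_sup := ?_
      Qd_comm := ?_
      sep := ?_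
      nontriv := ?_ }
  · rintro _ ⟨y, hy, rfl⟩
    rw [← map_mul, hYexp σ0 y hy, map_one]
  · rw [Subgroup.relIndex_map_map_of_injective (f := (MulAut.conj gx).toMonoidHom) _ _ (MulAut.conj gx).injective]
    exact (congrArg _ (mate_S σ0).symm).trans ((mate_relIndex le_rfl σ0).trans h.idxS)
  · rintro _ ⟨x, hx, rfl⟩ _ ⟨y, hy, rfl⟩
    rw [← map_mul, ← map_mul, hQcent σ0 x hx y hy]
  · haveI := h.Qn
    refine le_trans (Subgroup.map_mono hW'sup) ?_
    rw [Subgroup.map_sup]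
    exact sup_le_sup_right (by rintro _ ⟨x, hx, rfl⟩; exact h.Qn.conj_mem x hx gx) _
  · rintro _ ⟨x, hx, rfl⟩ _ ⟨w, hw, rfl⟩
    rw [← map_commutatorElement]
    exact h.Yn.conj_mem _ (hW'comm x hx w hw).1 gx
  · intro u hu hcu
    have hcr := h.crit_rev hmin hb hce
    have hzu : emb f0 α u ∈ (d 0).tgt Y := hd0 ▸ ⟨u, hu, rfl⟩
    obtain ⟨v, hv, hvS, hvQ⟩ := h.exists_w hmin hb hcr
    change v ∈ e.src Y at hv
    change v ∈ sh f0 at hvS
    change v ∉ (d 0).tgt Q at hvQ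
    rw [he0] at hv
    obtain ⟨v', hv', rfl⟩ := hv
    have hcc : Commute (emb f0 α u) (emb f0 α v') := (show Commute u v' from hcu v' hv').map _
    have := h.sep' (f := f0) (α := (d 0).r) hzu hvS hvQ hcc
    rw [← h.Z_map f0 α] at this
    exact (Subgroup.mem_map_iff_mem (emb_injective _ _)).1 this
  · intro hall
    obtain ⟨z, hz, v, hv, hzv⟩ := h.exists_nontriv hmin hb (h.crit_rev hmin hb hce)
    change z ∈ (d 0).tgt Y at hz
    change v ∈ e.src Y at hv
    change ⁅z, v⁆ ∉ (d 0).tgt (cenIn Y) at hzv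
    rw [he0] at hv
    rw [hd0] at hz
    obtain ⟨v', hv', rfl⟩ := hv
    obtain ⟨u, hu, rfl⟩ := hz
    refine hzv ?_
    rw [Dart.tgt, map_emb_mate _ α (d 0).r hcsub, ← map_commutatorElement, ← commutatorElement_inv]
    exact ⟨_, inv_mem (hall v' hv' u hu), rfl⟩

omit hmin in
/-- Some automorphic image of `Y` lies outside `Q`. -/
theorem exists_mate_not_le (hMS : M ≤ Subgroup.normalizer (S : Set G)) : ∃ σ, ¬ mate S Y σ ≤ Q := by
  classical
  obtain ⟨k₀, d₀, hk₀, hd₀⟩ := h.exists_path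
  have hex : ∃ k, ∃ d : ℕ → Dart S, 1 ≤ k ∧ Chain k d ∧ ¬ (d 0).src Y ≤ (d (k - 1)).tgt Q := ⟨k₀, d₀, hk₀, hd₀⟩
  set b := Nat.find hex with hb
  obtain ⟨d, hk, hd, hnle⟩ := Nat.find_spec hex
  have hmin' : ShortPaths Q Y b S := fun k hk1 hkb d' hd' =>
    by_contra fun hc => Nat.find_min hex hkb ⟨d', hk1, hd', hc⟩
  rcases (show b = 1 ∨ b = 2 ∨ 3 ≤ b by change 1 ≤ b at hk; omega) with hb1 | hb2 | hb3
  · rw [← hb, hb1] at hnle
    refine ⟨(d 0).r * (d 0).l⁻¹, fun hle => hnle ?_⟩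
    rw [Dart.src, map_emb_mate _ (d 0).r (d 0).l h.Y_S]
    exact Subgroup.map_mono hle
  · have hmin2 : ShortPaths Q Y 2 S := hb2 ▸ hmin'
    rw [← hb, hb2] at hd hnle
    exact (h.no_two hmin2 hMS ⟨hd, hnle⟩).elim
  · exact (h.no_long hmin' (by omega) hb3 ⟨hd, hnle⟩).elim

end PUp

end Cfsg.Agent.PushUp
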