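import Cfsg.Agent.Lib.PushUp.ChiefFactors
import Cfsg.Prelude.Def_PLocal

/-!
# General facts for the class and the exponent of the Sylow subgroup
-/

set_option autoImplicit false

open scoped commutatorElement

namespace Cfsg.Agent.PushUp

open Cfsg Cfsg.Agent.Small
open Cfsg.Agent.Fusion.Dickson (mul_entry inv_entries ext' det_eq)

universe u w

variable {G : Type u} [Group G]

theorem comm_sup_le {A B T L : Subgroup G} (hA : A ≤ Subgroup.normalizer (L : Set G))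
    (hB : B ≤ Subgroup.normalizer (L : Set G)) (h1 : ⁅A, T⁆ ≤ L) (h2 : ⁅B, T⁆ ≤ L) : ⁅A ⊔ B, T⁆ ≤ L := by
  let H : Subgroup G :=
  { carrier := {g | g ∈ Subgroup.normalizer (L : Set G) ∧ ∀ x ∈ T, ⁅g, x⁆ ∈ L}
    one_mem' := ⟨one_mem _, fun x _ => by rw [commutatorElement_one_left]; exact one_mem L⟩
    mul_mem' := fun {a b} ha hb => ⟨mul_mem ha.1 hb.1, fun x hx => by
      rw [show ⁅a * b, x⁆ = a * ⁅b, x⁆ * a⁻¹ * ⁅a, x⁆ by simp only [commutatorElement_def]; group]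
      exact mul_mem ((Subgroup.mem_normalizer_iff.1 ha.1 _).1 (hb.2 x hx)) (ha.2 x hx)⟩
    inv_mem' := fun {a} ha => ⟨inv_mem ha.1, fun x hx => by
      rw [show ⁅a⁻¹, x⁆ = a⁻¹ * ⁅a, x⁆⁻¹ * a⁻¹⁻¹ by simp only [commutatorElement_def]; group]
      exact (Subgroup.mem_normalizer_iff.1 (inv_mem ha.1) _).1 (inv_mem (ha.2 x hx))⟩ }
  have hAB : A ⊔ B ≤ H :=
    sup_le (fun a ha => ⟨hA ha, fun x hx => h1 (Subgroup.commutator_mem_commutator ha hx)⟩)
      fun b hb => ⟨hB hb, fun x hx => h2 (Subgroup.commutator_mem_commutator hb hx)⟩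
  exact Subgroup.commutator_le.2 fun g hg x hx => (hAB hg).2 x hx

theorem lcs_char (S : Subgroup G) (k : ℕ) (σ : MulAut ↥S) (x : ↥S) (hx : (x : G) ∈ S.lowerCentralSeries k) :
    (σ x : G) ∈ S.lowerCentralSeries k := by
  rw [← Subgroup.top_subtype_lowerCentralSeries] at hx ⊢
  obtain ⟨y, hy, hyx⟩ := hx
  obtain rfl : y = x := Subtype.ext hyx
  refine ⟨σ y, ?_, rfl⟩
  have h := Subgroup.map_lowerCentralSeries (S := (⊤ : Subgroup ↥S)) σ.toMonoidHom k
  rw [Subgroup.map_top_of_surjective σ.toMonoidHom σ.surjective] at h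
  exact h.le ⟨y, hy, rfl⟩

/-- A member of the lower central series of `S` which comes from the core is trivial. -/
theorem lcs_eq_bot [Finite G] {S Q : Subgroup G}
    (hd : ∀ T : Subgroup ↥S, T ≠ ⊥ → T.Characteristic → ¬ (T.map S.subtype).Normal) (hQS : Q ≤ S)
    (hQn : Q.Normal) {k : ℕ} (hle : S.lowerCentralSeries k ≤ Q.lowerCentralSeries k) :
    S.lowerCentralSeries k = ⊥ := by
  haveI := hQn
  have he : S.lowerCentralSeries k = Q.lowerCentralSeries k :=
    le_antisymm hle (Subgroup.lowerCentralSeries_mono k hQS)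
  exact eq_bot_of_hd hd (S.lowerCentralSeries_le_self k) (by rw [he]; infer_instance) (lcs_char S k)

/-- Powers of `S` which come from the core are trivial. -/
theorem pow_eq_one_of_hd [Finite G] {S Q : Subgroup G}
    (hd : ∀ T : Subgroup ↥S, T ≠ ⊥ → T.Characteristic → ¬ (T.map S.subtype).Normal) (hQS : Q ≤ S)
    (hQn : Q.Normal) {m : ℕ} (hle : ∀ s ∈ S, ∃ x ∈ Q, s ^ m = x ^ m) : ∀ s ∈ S, s ^ m = 1 := by
  set P := Subgroup.closure {y : G | ∃ x ∈ Q, y = x ^ m}
  have hPS : P ≤ S := (Subgroup.closure_le _).2 (by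
    rintro _ ⟨x, hx, rfl⟩
    exact pow_mem (hQS hx) m)
  have hPn : P.Normal := by
    refine ⟨fun y hy g => ?_⟩
    have key : P ≤ P.comap (MulAut.conj g).toMonoidHom := (Subgroup.closure_le _).2 (by
      rintro _ ⟨x, hx, rfl⟩
      exact Subgroup.subset_closure ⟨g * x * g⁻¹, hQn.conj_mem x hx g, by simp [conj_pow]⟩)
    exact key hy
  have hPc : ∀ σ : MulAut ↥S, ∀ x : ↥S, (x : G) ∈ P → (σ x : G) ∈ P := by
    intro σ x hx
    have key : P ≤ ((P.subgroupOf S).comap σ.toMonoidHom).map S.subtype := (Subgroup.closure_le _).2 (by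
      rintro _ ⟨y, hy, rfl⟩
      refine ⟨⟨y, hQS hy⟩ ^ m, ?_, rfl⟩
      rw [SetLike.mem_coe, Subgroup.mem_comap, map_pow]
      obtain ⟨w, hw, hwe⟩ := hle _ (σ ⟨y, hQS hy⟩).2
      exact Subgroup.subset_closure ⟨w, hw, hwe⟩)
    obtain ⟨w, hw, hwx⟩ := key hx
    obtain rfl : w = x := Subtype.ext hwx
    exact hw
  have h0 := eq_bot_of_hd hd hPS hPn hPc
  intro s hs
  obtain ⟨x, hx, e⟩ := hle s hs
  rw [e, ← Subgroup.mem_bot, ← h0]
  exact Subgroup.subset_closure ⟨x, hx, rfl⟩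

/-- Hypercentrality from a covering subgroup. -/
theorem iterCommutator_le {Q Y N : Subgroup G} [hYn : Y.Normal] [hQn : Q.Normal] (hsup : N ⊔ Q = ⊤)
    (hN : ∀ l ∈ N, ∀ w ∈ Q, ⁅l, w⁆ ∈ Y) (k : ℕ) :
    iterCommutator Q ⊤ k ≤ Y ⊔ Q.lowerCentralSeries k := by
  induction k with
  | zero => exact le_sup_right
  | succ k ih =>
    show ⁅iterCommutator Q ⊤ k, (⊤ : Subgroup G)⁆ ≤ _
    refine (Subgroup.commutator_mono ih le_rfl).trans ?_
    refine comm_sup_le (le_of_le_of_eq le_top (Subgroup.normalizer_eq_top _).symm)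
      (le_of_le_of_eq le_top (Subgroup.normalizer_eq_top _).symm) ((Subgroup.commutator_le_left _ _).trans le_sup_left) ?_
    rw [← hsup, Subgroup.commutator_comm]
    refine comm_sup_le (le_of_le_of_eq le_top (Subgroup.normalizer_eq_top _).symm)
      (le_of_le_of_eq le_top (Subgroup.normalizer_eq_top _).symm) ?_ ?_
    · exact Subgroup.commutator_le.2 fun l hl w hw =>
        Subgroup.mem_sup_left (hN l hl w (Q.lowerCentralSeries_le_self k hw))
    · rw [Subgroup.commutator_comm, ← Subgroup.lowerCentralSeries_succ]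
      exact le_sup_right

theorem NatSect.isChiefFactor {F : Type w} [Field F] {W C : Subgroup G}
    {R : G →* Matrix.SpecialLinearGroup (Fin 2) F} {c : G → Fin 2 → F} (hc : NatSect W C R c)
    (hR : Function.Surjective R) : IsChiefFactor W C := by
  refine ⟨lt_of_le_of_ne hc.le fun e => ?_, hc.Wn, hc.Cn, fun N hN hCN hNW => ?_⟩
  · obtain ⟨a, ha, hca⟩ := hc.onto ![1, 0]
    have h0 := (hc.zero a ha).2 (e ▸ ha)
    rw [hca] at h0
    exact one_ne_zero (congrFun h0 0)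
  · by_cases hle : N ≤ C
    · exact Or.inl (le_antisymm hle hCN)
    · refine Or.inr (le_antisymm hNW fun a ha => ?_)
      obtain ⟨x, hx, hax⟩ := hc.le_sup hR hN hNW hle a ha
      simpa using mul_mem (hCN hax) hx

variable {S Q M : Subgroup G} {g s₁ : G} {F : Type w} [Field F] [Fintype F]
  {R : G →* Matrix.SpecialLinearGroup (Fin 2) F}

theorem Coord.conj_upper (hR : Coord S Q M g s₁ R) {x : G} (hx : x ∈ M) {s : G} {a : F}
    (ha : R s = NatSL2.u a) : R (x * s * x⁻¹) = NatSL2.u ((R x).1 0 0 * (R x).1 0 0 * a) := by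
  obtain ⟨i1, i2, i3, i4⟩ := inv_entries (R x)
  have h10 := (hR.mem_M x).1 hx
  have hd := det_eq (R x)
  rw [map_mul, map_mul, map_inv, ha]
  apply ext' <;> simp only [mul_entry, i1, i2, i3, i4, u_entries, h10] <;> grind

theorem Coord.le_normalizer [Finite G] (hR : Coord S Q M g s₁ R) (hker : R.ker = Q) (hQS : Q ≤ S) :
    M ≤ Subgroup.normalizer (S : Set G) := by
  intro x hx
  refine mem_normalizer_iff_cj_le.2 ?_
  rintro _ ⟨s, hs, rfl⟩
  show x * s * x⁻¹ ∈ S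
  obtain ⟨a, ha⟩ := hR.upper s hs
  obtain ⟨t, ht, hta⟩ := hR.exists_upper ((R x).1 0 0 * (R x).1 0 0 * a)
  have h1 : t⁻¹ * (x * s * x⁻¹) ∈ Q := hker.le (by
    rw [MonoidHom.mem_ker, map_mul, map_inv, hta, hR.conj_upper hx ha, inv_mul_cancel])
  rw [show x * s * x⁻¹ = t * (t⁻¹ * (x * s * x⁻¹)) by group]
  exact mul_mem ht (hQS h1)

theorem Coord.comm_mem (hR : Coord S Q M g s₁ R) (hker : R.ker = Q) {s t : G} (hs : s ∈ S) (ht : t ∈ S) :
    ⁅s, t⁆ ∈ Q := by
  obtain ⟨a, ha⟩ := hR.upper s hs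
  obtain ⟨b, hb⟩ := hR.upper t ht
  refine hker.le ?_
  rw [MonoidHom.mem_ker, map_commutatorElement, commutatorElement_eq_one_iff_mul_comm, ha, hb, NatSL2.u_mul,
    NatSL2.u_mul, add_comm]

end Cfsg.Agent.PushUp
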