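import Cfsg.Agent.Lib.PushUp.RankOneTwo
import Cfsg.Agent.Lib.PushUp.ClassGen
import Cfsg.Agent.Lib.Fusion.AlperinOmega

/-!
# Class two when an automorphic image of `Y` leaves the core
-/

set_option autoImplicit false

open scoped commutatorElement

namespace Cfsg.Agent.PushUp

open Cfsg

universe u

variable {G : Type u} [Group G] {S Q Y M : Subgroup G} {p q : ℕ}

theorem mem_mate {A : Subgroup G} {σ : MulAut ↥S} {x : G} :
    x ∈ mate S A σ ↔ ∃ a : ↥S, (a : G) ∈ A ∧ (σ a : G) = x := by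
  constructor
  · rintro ⟨_, ⟨a, ha, rfl⟩, rfl⟩
    exact ⟨a, ha, rfl⟩
  · rintro ⟨a, ha, rfl⟩
    exact ⟨_, ⟨a, ha, rfl⟩, rfl⟩

theorem apply_mem_mate_iff {A : Subgroup G} {σ : MulAut ↥S} {a : ↥S} :
    (σ a : G) ∈ mate S A σ ↔ (a : G) ∈ A := by
  refine ⟨fun h => ?_, fun h => mem_mate.2 ⟨a, h, rfl⟩⟩
  obtain ⟨b, hb, e⟩ := mem_mate.1 h
  rwa [← σ.injective (Subtype.ext e)]

theorem mate_le_S (A : Subgroup G) (σ : MulAut ↥S) : mate S A σ ≤ S := Subgroup.map_subtype_le _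

theorem mate_apply_inv {A : Subgroup G} {σ : MulAut ↥S} {x : ↥S} :
    (x : G) ∈ mate S A σ ↔ (σ⁻¹ x : G) ∈ A := by
  conv_lhs => rw [← MulAut.apply_inv_self _ σ x]
  exact apply_mem_mate_iff

theorem commute_aut {σ : MulAut ↥S} {a b : ↥S} (h : Commute (a : G) (b : G)) :
    Commute (σ a : G) (σ b : G) :=
  congrArg Subtype.val (((show Commute a b from Subtype.ext h.eq).map σ.toMonoidHom).eq)

theorem le_norm_of_comm {A B : Subgroup G} (h : ∀ x ∈ A, ∀ y ∈ B, Commute x y) :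
    A ≤ Subgroup.normalizer (B : Set G) := fun x hx => Subgroup.mem_normalizer_iff.2 fun y => by
  constructor
  · intro hy
    rwa [(h x hx y hy).eq, mul_inv_cancel_right]
  · intro hy
    have h1 := h x hx _ hy
    have h2 : x⁻¹ * (x * y * x⁻¹) * x = x * y * x⁻¹ := by rw [mul_assoc, ← h1.eq, inv_mul_cancel_left]
    rw [show y = x⁻¹ * (x * y * x⁻¹) * x by group, h2]
    exact hy

theorem comm_bot_of {A B : Subgroup G} (h : ∀ x ∈ A, ∀ y ∈ B, Commute x y) (L : Subgroup G) : ⁅A, B⁆ ≤ L :=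
  Subgroup.commutator_le.2 fun x hx y hy => by
    rw [commutatorElement_eq_one_iff_commute.2 (h x hx y hy)]
    exact one_mem L

theorem norm_sup {A B X : Subgroup G} (hA : X ≤ Subgroup.normalizer (A : Set G))
    (hB : X ≤ Subgroup.normalizer (B : Set G)) : X ≤ Subgroup.normalizer ((A ⊔ B : Subgroup G) : Set G) := by
  have key : ∀ x ∈ X, ∀ y ∈ A ⊔ B, x * y * x⁻¹ ∈ A ⊔ B := by
    intro x hx y hy
    have h : A ⊔ B ≤ (A ⊔ B).comap (MulAut.conj x).toMonoidHom := sup_le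
      (fun a ha => Subgroup.mem_sup_left ((Subgroup.mem_normalizer_iff.1 (hA hx) a).1 ha))
      fun b hb => Subgroup.mem_sup_right ((Subgroup.mem_normalizer_iff.1 (hB hx) b).1 hb)
    exact h hy
  exact fun x hx => Subgroup.mem_normalizer_iff.2 fun y => ⟨key x hx y, fun hy => by
    simpa [mul_assoc] using key x⁻¹ (inv_mem hx) _ hy⟩

namespace PUp

variable [Finite G] (h : PUp S Q Y M p q)
include h

theorem zS_commute {z s : G} (hz : z ∈ zS S) (hs : s ∈ S) : Commute z s :=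
  (Subgroup.mem_centralizer_iff.1 hz.2 s hs).symm

theorem mate_inv_not_le {σ : MulAut ↥S} (hσ : ¬ mate S Y σ ≤ Q) : ¬ mate S Y σ⁻¹ ≤ Q := by
  intro hle
  obtain ⟨x0, hx0, hx0Q⟩ := SetLike.not_le_iff_exists.1 hσ
  obtain ⟨u, hu, rfl⟩ := mem_mate.1 hx0
  have hYz : Y ≤ zS S := fun y hy => by
    refine h.cent _ (σ u).2 hx0Q y hy ?_
    have h1 : ((σ⁻¹ ⟨y, h.Q_le (h.Y_le hy)⟩ : ↥S) : G) ∈ Q := hle (apply_mem_mate_iff.2 hy)
    have h2 : Commute (u : G) ((σ⁻¹ ⟨y, h.Q_le (h.Y_le hy)⟩ : ↥S) : G) :=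
      Subgroup.mem_centralizer_iff.1 (h.Q_cent h1) _ hu
    have h3 := commute_aut (σ := σ) h2
    rw [MulAut.apply_inv_self] at h3
    rw [commutatorElement_eq_one_iff_commute.2 h3.symm]
    exact one_mem _
  have := h.idxY
  rw [Subgroup.relIndex_eq_one.2 hYz] at this
  have := h.two_le
  omega

theorem mate_sup_eq {σ : MulAut ↥S} (hσ : ¬ mate S Y σ ≤ Q) : mate S Y σ ⊔ Q = S := by
  haveI := h.Qn
  set X := mate S Y σ
  obtain ⟨x1, hx1, hx1Q⟩ := SetLike.not_le_iff_exists.1 (h.mate_inv_not_le hσ)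
  obtain ⟨v, hv, rfl⟩ := mem_mate.1 hx1
  have hXQ : X ⊓ Q ≤ zS S := by
    rintro _ ⟨hx, hxQ⟩
    obtain ⟨u, hu, rfl⟩ := mem_mate.1 hx
    refine h.Z_char σ u (h.cent _ (σ⁻¹ v).2 hx1Q (u : G) hu ?_)
    have h1 : Commute (v : G) (σ u : G) := Subgroup.mem_centralizer_iff.1 (h.Q_cent hxQ) _ hv
    have h2 := commute_aut (σ := σ⁻¹) h1
    rw [MulAut.inv_apply_self] at h2
    rw [commutatorElement_eq_one_iff_commute.2 h2.symm]
    exact one_mem _
  have hZX : zS S ≤ X := (mate_eq_of_char h.Z_char inf_le_left σ).ge.trans (mate_mono h.Z_le σ)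
  have hi : Q.relIndex X = q := by
    rw [← Subgroup.inf_relIndex_right Q X,
      le_antisymm (inf_comm Q X ▸ hXQ) (le_inf (h.Z_le.trans h.Y_le) hZX)]
    exact (congrArg (fun Z : Subgroup G => Z.relIndex X) (mate_eq_of_char h.Z_char inf_le_left σ).symm).trans
      ((mate_relIndex (h.Y_le.trans h.Q_le) σ).trans h.idxY)
  refine le_antisymm (sup_le (mate_le_S Y σ) h.Q_le) ?_
  have h1 := Subgroup.relIndex_mul_relIndex Q (X ⊔ Q) S le_sup_right (sup_le (mate_le_S Y σ) h.Q_le)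
  rw [Subgroup.relIndex_sup_right, hi, h.idxS] at h1
  refine Subgroup.relIndex_eq_one.1 ?_
  have := h.two_le
  exact (mul_eq_left₀ (by omega)).1 h1

/-- The case of class two. -/
theorem one_class [hp : Fact p.Prime] {σ : MulAut ↥S} (hσ : ¬ mate S Y σ ≤ Q) :
    S.lowerCentralSeries 2 = ⊥ ∧ S.lowerCentralSeries 1 ≠ ⊥ ∧ (p = 2 → ∀ s ∈ S, s ^ 4 = 1) ∧
      (p ≠ 2 → ∀ s ∈ S, s ^ p = 1) := by
  haveI := h.Qn; haveI := h.Yn
  obtain ⟨hHS, -⟩ := h.mate_facts hσ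
  set X := mate S Y σ
  set R := Q ⊓ mate S Q σ
  have hXS : X ≤ S := mate_le_S Y σ
  have hRS : R ≤ S := inf_le_left.trans h.Q_le
  have hXR : ∀ x ∈ X, ∀ r ∈ R, Commute x r := by
    intro x hx r hr
    obtain ⟨u, hu, rfl⟩ := mem_mate.1 hx
    obtain ⟨w, hw, rfl⟩ := mem_mate.1 hr.2
    exact commute_aut (Subgroup.mem_centralizer_iff.1 (h.Q_cent hw) _ hu)
  have hYR : ∀ y ∈ Y, ∀ r ∈ R, Commute y r := fun y hy r hr =>
    Subgroup.mem_centralizer_iff.1 (h.Q_cent hr.1) y hy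
  have hXX : ∀ a ∈ X, ∀ b ∈ X, Commute a b := by
    intro a ha b hb
    obtain ⟨u, hu, rfl⟩ := mem_mate.1 ha
    obtain ⟨w, hw, rfl⟩ := mem_mate.1 hb
    exact commute_aut (Subgroup.mem_centralizer_iff.1 (h.Q_cent (h.Y_le hw)) _ hu)
  have hYY : ∀ a ∈ Y, ∀ b ∈ Y, Commute a b := fun a ha b hb =>
    Subgroup.mem_centralizer_iff.1 (h.Q_cent (h.Y_le hb)) a ha
  -- `S = X Y R`
  have hsplit : ∀ s ∈ S, ∃ x ∈ X, ∃ y ∈ Y, ∃ r ∈ R, s = x * y * r := by
    intro s hs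
    obtain ⟨x, hx, w, hw, rfl⟩ := Subgroup.mem_sup_of_normal_right.1 ((h.mate_sup_eq hσ).ge hs)
    obtain ⟨a, ha, b, hb, e⟩ := Subgroup.mem_sup_of_normal_right.1
      ((h.mate_sup_eq (h.mate_inv_not_le hσ)).ge (σ⁻¹ ⟨w, h.Q_le hw⟩).2)
    obtain ⟨c, hc, rfl⟩ := mem_mate.1 ha
    have e' : σ⁻¹ c * ⟨b, h.Q_le hb⟩ = σ⁻¹ ⟨w, h.Q_le hw⟩ := Subtype.ext e
    have e2 := congrArg σ e'
    rw [map_mul, MulAut.apply_inv_self, MulAut.apply_inv_self] at e2
    have e3 : (c : G) * (σ ⟨b, h.Q_le hb⟩ : ↥S) = w := congrArg Subtype.val e2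
    refine ⟨x, hx, c, hc, (σ ⟨b, h.Q_le hb⟩ : ↥S), ⟨?_, apply_mem_mate_iff.2 hb⟩, by rw [mul_assoc, e3]⟩
    exact (Subgroup.mul_mem_cancel_left _ (h.Y_le hc)).1 (e3.symm ▸ hw)
  have hS3 : S = X ⊔ Y ⊔ R := by
    refine le_antisymm (fun s hs => ?_) (sup_le (sup_le hXS h.Y_S) hRS)
    obtain ⟨x, hx, y, hy, r, hr, rfl⟩ := hsplit s hs
    exact Subgroup.mul_mem_sup (Subgroup.mul_mem_sup hx hy) hr
  have hzR : zS S ≤ R := le_inf (h.Z_le.trans h.Y_le)
    ((mate_eq_of_char h.Z_char inf_le_left σ).ge.trans (mate_mono (h.Z_le.trans h.Y_le) σ))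
  set L := zS S ⊔ ⁅R, R⁆
  have hLR : L ≤ R := sup_le hzR (Subgroup.commutator_le.2 fun a ha b hb => by
    rw [commutatorElement_def]
    exact mul_mem (mul_mem (mul_mem ha hb) (inv_mem ha)) (inv_mem hb))
  have hXL : X ≤ Subgroup.normalizer (L : Set G) := le_norm_of_comm fun x hx y hy => hXR x hx y (hLR hy)
  have hYL : Y ≤ Subgroup.normalizer (L : Set G) := le_norm_of_comm fun x hx y hy => hYR x hx y (hLR hy)
  have hRz : ∀ {A : Subgroup G}, A ≤ S → A ≤ Subgroup.normalizer (zS S : Set G) := fun {A} hA =>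
    le_norm_of_comm fun x hx y hy => (h.zS_commute hy (hA hx)).symm
  have hRL : R ≤ Subgroup.normalizer (L : Set G) :=
    norm_sup (hRz hRS) (R.self_le_normalizer_lowerCentralSeries 1)
  have hXYL : X ⊔ Y ≤ Subgroup.normalizer (L : Set G) := sup_le hXL hYL
  -- commutators
  have hS1 : S.lowerCentralSeries 1 ≤ L := by
    show ⁅S, S⁆ ≤ L
    have hsym : ∀ {A : Subgroup G}, ⁅X, A⁆ ≤ L → ⁅Y, A⁆ ≤ L → ⁅R, A⁆ ≤ L → ⁅S, A⁆ ≤ L := fun {A} h1 h2 h3 => by
      rw [hS3]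
      exact comm_sup_le hXYL hRL (comm_sup_le hXL hYL h1 h2) h3
    have hYX : ⁅Y, X⁆ ≤ L := Subgroup.commutator_le.2 fun y hy x hx =>
      Subgroup.mem_sup_left (hHS y hy x (hXS hx))
    refine hsym ?_ ?_ ?_
    · rw [Subgroup.commutator_comm]
      exact hsym (comm_bot_of hXX L) hYX (comm_bot_of (fun a ha b hb => (hXR b hb a ha).symm) L)
    · rw [Subgroup.commutator_comm]
      exact hsym (Subgroup.commutator_comm Y X ▸ hYX) (comm_bot_of hYY L)
        (comm_bot_of (fun a ha b hb => (hYR b hb a ha).symm) L)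
    · rw [Subgroup.commutator_comm]
      exact hsym (comm_bot_of hXR L) (comm_bot_of hYR L) le_sup_right
  have hS2 : S.lowerCentralSeries 2 ≤ Q.lowerCentralSeries 2 := by
    refine le_trans ?_ (Subgroup.lowerCentralSeries_mono 2 (inf_le_left : R ≤ Q))
    show ⁅S.lowerCentralSeries 1, S⁆ ≤ R.lowerCentralSeries 2
    refine (Subgroup.commutator_mono hS1 le_rfl).trans ?_
    rw [Subgroup.commutator_comm]
    have hN2 : ∀ {A : Subgroup G}, (∀ a ∈ A, ∀ r ∈ R, Commute a r) →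
        A ≤ Subgroup.normalizer (R.lowerCentralSeries 2 : Set G) := fun {A} hA =>
      le_norm_of_comm fun x hx y hy => hA x hx y (R.lowerCentralSeries_le_self 2 hy)
    conv_lhs => rw [hS3]
    refine comm_sup_le (sup_le (hN2 hXR) (hN2 hYR)) (R.self_le_normalizer_lowerCentralSeries 2) ?_ ?_
    · exact comm_sup_le (hN2 hXR) (hN2 hYR) (comm_bot_of (fun x hx l hl => hXR x hx l (hLR hl)) _)
        (comm_bot_of (fun x hx l hl => hYR x hx l (hLR hl)) _)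
    · rw [Subgroup.commutator_comm]
      refine comm_sup_le (hN2 fun z hz r hr => h.zS_commute hz (hRS hr))
        ((Subgroup.lowerCentralSeries_le_self R 1).trans (R.self_le_normalizer_lowerCentralSeries 2))
        (comm_bot_of (fun z hz r hr => h.zS_commute hz (hRS hr)) _) (le_refl (R.lowerCentralSeries 2))
  refine ⟨lcs_eq_bot h.hd h.Q_le h.Qn hS2, fun h1 => ?_, fun hp2 => ?_, fun hp2 => ?_⟩
  · have hle : Y ≤ zS S := fun y hy => ⟨h.Y_S hy, Subgroup.mem_centralizer_iff.2 fun s hs => by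
      have h2 : ⁅y, s⁆ ∈ S.lowerCentralSeries 1 := Subgroup.commutator_mem_commutator (h.Y_S hy) hs
      rw [h1, Subgroup.mem_bot] at h2
      exact (commutatorElement_eq_one_iff_mul_comm.1 h2).symm⟩
    have := h.idxY
    rw [Subgroup.relIndex_eq_one.2 hle] at this
    have := h.two_le
    omega
  all_goals
    refine pow_eq_one_of_hd h.hd h.Q_le h.Qn fun s hs => ?_
    obtain ⟨x, hx, y, hy, r, hr, rfl⟩ := hsplit s hs
    refine ⟨r, hr.1, ?_⟩
    have hxp : x ^ p = 1 := by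
      obtain ⟨u, hu, rfl⟩ := mem_mate.1 hx
      rw [← SubmonoidClass.coe_pow, ← map_pow,
        show u ^ p = 1 from Subtype.ext (h.Y_exp _ hu), map_one, OneMemClass.coe_one]
    have hyp : y ^ p = 1 := h.Y_exp y hy
    have hz : ⁅y, x⁆ ∈ zS S := hHS y hy x (hXS hx)
    have hzp : ⁅y, x⁆ ^ p = 1 := h.Y_exp _ (h.Z_le hz)
    rw [((hXR x hx r hr).mul_left (hYR y hy r hr)).mul_pow,
      Fusion.mul_pow_of_central (h.zS_commute hz (hXS hx)) (h.zS_commute hz (h.Y_S hy))]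
  · subst hp2
    rw [show (4 : ℕ) = 2 * 2 by rfl, pow_mul x, pow_mul y, show Nat.choose (2 * 2) 2 = 2 * 3 by rfl, pow_mul, hxp,
      hyp, hzp, one_pow, one_pow, one_mul, one_mul, one_mul]
  · obtain ⟨j, hj⟩ := hp.out.dvd_choose_self (by norm_num : (2 : ℕ) ≠ 0)
      (lt_of_le_of_ne hp.out.two_le (Ne.symm hp2))
    rw [hj, pow_mul, hxp, hyp, hzp, one_pow, one_mul, one_mul, one_mul]

end PUp

end Cfsg.Agent.PushUp
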