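import Cfsg.Agent.Lib.PushUp.TwoEdgeSection

/-!
# Critical paths of two edges in any characteristic
-/

set_option autoImplicit false

open scoped commutatorElement

namespace Cfsg.Agent.PushUp

open Cfsg

universe u

variable {G : Type u} [Group G] {S Q Y M : Subgroup G} {p q : ℕ}

namespace PUp

section
variable (h : PUp S Q Y M p q) (hmin : ShortPaths Q Y 2 S) [Finite G]
include h hmin

theorem side_base {d : ℕ → Dart S} (hc : Crit Q Y 2 d) :
    ∃ W : Subgroup G, W ≤ S ∧ S ≤ Q ⊔ W ∧ ∀ x ∈ mate S Q ((d 0).l * (d 0).r⁻¹), ∀ w ∈ W, ⁅x, w⁆ ∈ Y := by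
  have hb : 2 ≤ 2 := le_rfl
  set E := emb (d 0).f (d 0).l
  have hsub : (d 1).tgt Y ≤ E.range := (h.tgt_sh_first hmin hb hc).trans (h.sh_range _ _)
  refine ⟨((d 1).tgt Y).comap E, fun w hw => ?_, fun s hs => ?_, fun x hx w hw => ?_⟩
  · obtain ⟨s, hs, hse⟩ := (map_S (d 0).f (d 0).l).ge (h.tgt_sh_first hmin hb hc hw)
    exact emb_injective _ _ hse ▸ hs
  · have h1 : E s ∈ sh (revD 2 d (2 - 1)).f := by
      show E s ∈ sh (d 0).f
      exact (map_S (d 0).f (d 0).l).le ⟨s, hs, rfl⟩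
    obtain ⟨z, hz, y, hy, he⟩ := h.exists_split hmin hb (h.crit_rev hmin hb hc) h1
    change z ∈ (d 1).tgt Y at hz
    change y ∈ Q.map E at hy
    obtain ⟨z', hz'⟩ := hsub hz
    obtain ⟨y', hy', rfl⟩ := hy
    rw [← hz', ← map_mul] at he
    rw [emb_injective _ _ he]
    exact mul_mem (Subgroup.mem_sup_right (show E z' ∈ (d 1).tgt Y by rw [hz']; exact hz))
      (Subgroup.mem_sup_left hy')
  · have hx' : E x ∈ (d 0).tgt Q := by
      rw [Dart.tgt, map_emb_mate _ (d 0).l (d 0).r h.Q_le]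
      exact ⟨x, hx, rfl⟩
    have hxsh : E x ∈ sh (d 1).f := by
      rw [← (hc.link hb).src_eq h.Qn] at hx'
      exact h.Q_sh _ _ hx'
    obtain ⟨z, hz, y, hy, he⟩ := h.exists_split hmin hb hc (x := E x) hxsh
    have hyw : Commute y (E w) := (h.commute_Q hy hw).symm
    have e1 : ⁅E x, E w⁆ = ⁅z, E w⁆ := by
      rw [he, commutatorElement_def, commutatorElement_def, mul_inv_rev,
        show z * y * E w = z * (y * E w) by group, hyw.eq]
      group
    rw [← map_commutatorElement] at e1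
    have h2 := (h.comm_mem hmin hb hc hz hw).1
    rw [← e1] at h2
    exact (Subgroup.mem_map_iff_mem (emb_injective _ _)).1 h2

/-- A critical path of two edges gives a second natural section. -/
theorem exists_two_level {d : ℕ → Dart S} (hc : Crit Q Y 2 d)
    (hHS : ∀ y ∈ Y, ∀ s ∈ S, ⁅y, s⁆ ∈ zS S) :
    ∃ V E F1 N : Subgroup G, TwoLevel S Q Y M q V E F1 N := by
  have hb : 2 ≤ 2 := le_rfl
  obtain ⟨gx, hgx⟩ := h.exists_not_mem_M
  obtain ⟨e, hef, hte, hce⟩ := h.exists_left hmin hb hc hgx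
  obtain ⟨e2, -, hte2, hce2⟩ := h.exists_left hmin hb hce hgx
  obtain ⟨W, hWS, hWsup, hWcomm⟩ := h.side_base hmin hc
  obtain ⟨W', hW'S, hW'sup, hW'comm⟩ := h.side_base hmin (h.crit_rev hmin hb hce2)
  have her : e.r = (d 0).l := hte.1.symm
  change ∀ x ∈ mate S Q (e.r * e.l⁻¹), ∀ w ∈ W', ⁅x, w⁆ ∈ Y at hW'comm
  rw [her] at hW'comm
  set α := (d 0).l with hα
  set f0 := (d 0).f with hf0
  set σ1 := α * (d 0).r⁻¹ with hσ1
  set σ0 := α * e.l⁻¹ with hσ0
  have hml := h.mate_le_Q hmin hb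
  have hQcent : ∀ σ x, x ∈ mate S Q σ → ∀ y ∈ mate S Y σ, x * y = y * x := by
    rintro σ _ ⟨_, ⟨x, hx, rfl⟩, rfl⟩ _ ⟨_, ⟨y, hy, rfl⟩, rfl⟩
    have h1 : x * y = y * x := Subtype.ext (Subgroup.mem_centralizer_iff.1 (h.Q_cent hx) (y : G) hy).symm
    have h2 := congrArg σ h1
    rw [map_mul, map_mul] at h2
    exact congrArg Subtype.val h2
  have hZσ : ∀ σ, mate S (zS S) σ = zS S := fun σ => mate_eq_of_char h.Z_char inf_le_left σ
  have he0 : e.src Y = ((mate S Y σ0).map (MulAut.conj gx).toMonoidHom).map (emb f0 α) := by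
    rw [Dart.src, hef, map_emb_conj_mate _ _ _ _ h.Y_S]
  have hd0 : (d 0).tgt Y = (mate S Y σ1).map (emb f0 α) := map_emb_mate _ _ _ h.Y_S
  refine two_section (Y1 := mate S Y σ1) (Q1 := mate S Q σ1) (W := W)
    (Yd := (mate S Y σ0).map (MulAut.conj gx).toMonoidHom)
    (Qd := (mate S Q σ0).map (MulAut.conj gx).toMonoidHom)
    (W0 := W'.map (MulAut.conj gx).toMonoidHom) h hgx
    { mate_le := hml
      center := hHS
      Y1_nb := fun y hy => Subgroup.mem_iSup_of_mem (σ1, 1) ⟨y, hy, by simp⟩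
      Q1_le := Subgroup.map_subtype_le _
      Q1_idx := (congrArg _ (mate_S σ1).symm).trans ((mate_relIndex le_rfl σ1).trans h.idxS)
      Y1_le := mate_mono h.Y_le σ1
      Y1_idx := (congrArg (fun X : Subgroup G => X.relIndex _) (hZσ σ1).symm).trans
        ((mate_relIndex h.Y_S σ1).trans h.idxY)
      W_le := hWS
      W_sup := hWsup
      W_comm := hWcomm
      Qd_le := Subgroup.map_mono (Subgroup.map_subtype_le _)
      Qd_idx := ?_
      Qd_cent := ?_
      W0_sup := ?_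
      Qd_comm := ?_
      sep := ?_ }
  · rw [Subgroup.relIndex_map_map_of_injective (f := (MulAut.conj gx).toMonoidHom) _ _ (MulAut.conj gx).injective]
    exact (congrArg _ (mate_S σ0).symm).trans ((mate_relIndex le_rfl σ0).trans h.idxS)
  · rintro _ ⟨x, hx, rfl⟩ _ ⟨y, hy, rfl⟩
    rw [← map_mul, ← map_mul, hQcent σ0 x hx y hy]
  · haveI := h.Qn
    refine le_trans (Subgroup.map_mono hW'sup) ?_
    rw [Subgroup.map_sup]
    exact sup_le_sup_right (by rintro _ ⟨x, hx, rfl⟩; exact h.Qn.conj_mem x hx gx) _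
  · rintro _ ⟨x, hx, rfl⟩ _ ⟨w, hw, rfl⟩
    rw [← map_commutatorElement]
    exact h.Yn.conj_mem _ (hW'comm x hx w hw) gx
  · intro u hu hcu
    have hcr := h.crit_rev hmin hb hce
    have hzu : emb f0 α u ∈ (d 0).tgt Y := hd0 ▸ ⟨u, hu, rfl⟩
    obtain ⟨v, hv, hvS, hvQ⟩ := h.exists_w hmin hb hcr
    change v ∈ e.src Y at hv
    change v ∈ sh f0 at hvS
    change v ∉ (d 0).tgt Q at hvQ
    rw [he0] at hv
    obtain ⟨v', hv', rfl⟩ := hv
    have hcc : Commute (emb f0 α u) (emb f0 α v') := (show Commute u v' from hcu v' hv').map _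
    have := h.sep' (f := f0) (α := (d 0).r) hzu hvS hvQ hcc
    rw [← h.Z_map f0 α] at this
    exact (Subgroup.mem_map_iff_mem (emb_injective _ _)).1 this

end

/-- Either an automorphic image of `Y` lies outside the core, or there is a second natural section. -/
theorem one_or_two [Finite G] (h : PUp S Q Y M p q) (hHS : ∀ y ∈ Y, ∀ s ∈ S, ⁅y, s⁆ ∈ zS S) :
    (∃ σ, ¬ mate S Y σ ≤ Q) ∨ ∃ V E F1 N : Subgroup G, TwoLevel S Q Y M q V E F1 N := by
  classical
  obtain ⟨k₀, d₀, hk₀, hd₀⟩ := h.exists_path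
  have hex : ∃ k, ∃ d : ℕ → Dart S, 1 ≤ k ∧ Chain k d ∧ ¬ (d 0).src Y ≤ (d (k - 1)).tgt Q := ⟨k₀, d₀, hk₀, hd₀⟩
  set b := Nat.find hex with hb
  obtain ⟨d, hk, hd, hnle⟩ := Nat.find_spec hex
  have hmin' : ShortPaths Q Y b S := fun k hk1 hkb d' hd' =>
    by_contra fun hc => Nat.find_min hex hkb ⟨d', hk1, hd', hc⟩
  rcases (show b = 1 ∨ b = 2 ∨ 3 ≤ b by change 1 ≤ b at hk; omega) with hb1 | hb2 | hb3
  · left
    rw [← hb, hb1] at hnle
    refine ⟨(d 0).r * (d 0).l⁻¹, fun hle => hnle ?_⟩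
    rw [Dart.src, map_emb_mate _ (d 0).r (d 0).l h.Y_S]
    exact Subgroup.map_mono hle
  · right
    have hmin2 : ShortPaths Q Y 2 S := hb2 ▸ hmin'
    rw [← hb, hb2] at hd hnle
    exact h.exists_two_level hmin2 ⟨hd, hnle⟩ hHS
  · exact (h.no_long hmin' (by omega) hb3 ⟨hd, hnle⟩).elim

end PUp

end Cfsg.Agent.PushUp
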