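import Cfsg.Agent.Lib.PushUp.BTwoDelta

/-!
# Class three and exponent nine at a critical path of two edges
-/

set_option autoImplicit false

open scoped commutatorElement

namespace Cfsg.Agent.PushUp

open Cfsg Cfsg.Agent.Small

universe u w

variable {G : Type u} [Group G]

namespace TwoFrame

variable [Finite G] {S Q Y M : Subgroup G} {p q : ℕ} {g s₁ z : G} {σ : MulAut ↥S} {E : Subgroup G}
  {F : Type w} [Field F] [Fintype F] {RY RE : G →* Matrix.SpecialLinearGroup (Fin 2) F}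
  {cY cE : G → Fin 2 → F} (T : TwoFrame S Q Y M p q g s₁ σ E RY RE cY cE z)
include T

theorem second_zero {x : G} (hx : x ∈ zS S) : cY x 1 = 0 := by
  have h1 := T.comm_Y (T.h.Z_le hx) T.hs₁
  rw [commutatorElement_eq_one_iff_commute.2 (T.h.zS_commute hx T.hs₁),
    (T.hcY.zero 1 (one_mem _)).2 (one_mem _), T.slope_s₁] at h1
  have h2 := congrFun h1 0
  simpa using h2

theorem exists_nonzero : ∃ v ∈ nbV S Y, cY ⁅⁅v, s₁⁆, s₁⁆ 0 ≠ 0 := by
  by_contra hcon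
  simp only [not_exists, not_and, not_not] at hcon
  have hall : ∀ v ∈ nbV S Y, ∀ s ∈ S, ∀ s' ∈ S, ⁅⁅v, s⁆, s'⁆ ∈ cenIn Y := fun v hv s hs s' hs' => by
    have hz := T.triple_zS hv hs hs'
    refine (T.hcY.zero _ (T.h.Z_le hz)).1 ?_
    rw [T.triple hv hs hs']
    funext i
    fin_cases i
    · simp [hcon v hv]
    · simp [T.second_zero (T.triple_zS hv T.hs₁ T.hs₁)]
  obtain ⟨y, hy, hyz⟩ := SetLike.not_le_iff_exists.1 T.h.Y_not_le_zS
  set y' : ↥S := σ⁻¹ ⟨y, T.h.Y_S hy⟩ with hy'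
  have hy'F : (y' : G) ∈ nbV S Y ⊓ mate S Q σ :=
    T.mem_mate_Y T.F1_inv (apply_mem_mate_iff.2 (show ((⟨y, T.h.Y_S hy⟩ : ↥S) : G) ∈ Y from hy))
  obtain ⟨v, hv, hcv⟩ := T.hcE.onto ![0, 1]
  obtain ⟨sa, hsa, hsaR⟩ := T.coordE.exists_upper (-(cE (y' : G) 0))
  obtain ⟨w, hw, x, hx, rfl⟩ :=
    (@Subgroup.mem_sup_of_normal_right _ _ _ Q T.h.Qn sa).1 ((T.h.moves_sup T.hml T.moves').ge hsa)
  rw [map_mul, T.coordE.Q_one x hx, mul_one] at hsaR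
  obtain ⟨w0, hw0, rfl⟩ := mem_mate.1 hw
  set wS : G := ((σ⁻¹ w0 : ↥S) : G)
  have hconj : wS * v⁻¹ * wS⁻¹ ∈ nbV S Y := T.conj_V (inv_mem hv) _
  have hE : (y' : G) * ⁅v, wS⁆⁻¹ ∈ E := by
    refine (T.hcE.eq_iff hy'F.1 (T.comm_V hv _)).1 ?_
    rw [show ⁅v, wS⁆ = v * (wS * v⁻¹ * wS⁻¹) by simp only [commutatorElement_def]; group,
      T.hcE.mul v hv _ hconj, T.hcE.conj wS _ (inv_mem hv), hsaR, T.hcE.map_inv hv, hcv]
    funext i
    fin_cases i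
    · show cE (y' : G) 0 = (![0, 1] : Fin 2 → F) 0 + (NatSL2.u (-(cE (y' : G) 0)) : Matrix (Fin 2) (Fin 2) F).mulVec
        (-![0, 1]) 0
      rw [(u_mulVec _ _).1]
      simp
    · show cE (y' : G) 1 = (![0, 1] : Fin 2 → F) 1 + (NatSL2.u (-(cE (y' : G) 0)) : Matrix (Fin 2) (Fin 2) F).mulVec
        (-![0, 1]) 1
      rw [(u_mulVec _ _).2, T.F1_second hy'F]
      simp
  obtain ⟨y2, hy2, e0, he0, hze, he⟩ := T.exists_fixed hE
  obtain ⟨ν, hν, hcν⟩ := T.hcE.onto ![0, 1]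
  have hkV : ⁅z, ν⁆ ∈ nbV S Y := by rw [← commutatorElement_inv]; exact inv_mem (T.comm_V hν z)
  set k : ↥S := ⟨⁅z, ν⁆, T.VleS hkV⟩
  have hkQ : ((σ k : ↥S) : G) ∉ Q := by
    intro hc
    have h1 : (k : G) ∈ mate S Q σ⁻¹ := by
      rw [← MulAut.inv_apply_self _ σ k]
      exact apply_mem_mate_iff.2 hc
    have h2 := T.F1_second (T.F1_inv.le (show (k : G) ∈ nbV S Y ⊓ mate S Q σ⁻¹ from ⟨hkV, h1⟩))
    change cE ⁅z, ν⁆ 1 = 0 at h2
    rw [commutatorElement_def, T.hcE.mul _ (T.conj_V hν z) _ (inv_mem hν), T.RE_z_conj hν, T.hcE.map_inv hν,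
      hcν] at h2
    refine T.two_ne ?_
    have h3 : -(1 : F) + -1 = 0 := by simpa using h2
    linear_combination -h3
  have heS : y2 * e0 ∈ S := mul_mem (T.h.Y_S hy2) (T.VleS ((T.sect.hCA.trans inf_le_left) he0))
  have hdec : y' = ⟨y2 * e0, heS⟩ * ⁅(⟨v, T.VleS hv⟩ : ↥S), σ⁻¹ w0⁆ := by
    refine Subtype.ext ?_
    show (y' : G) = y2 * e0 * ⁅v, wS⁆
    rw [← he, inv_mul_cancel_right]
  have hσ := congrArg σ hdec
  rw [hy', MulAut.apply_inv_self, map_mul, map_commutatorElement, MulAut.apply_inv_self] at hσ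
  set A : ↥S := σ ⟨y2 * e0, heS⟩
  have hAk : Commute A (σ k) := by
    refine Commute.map (show Commute (⟨y2 * e0, heS⟩ : ↥S) k from Subtype.ext ?_) σ.toMonoidHom
    exact ((T.h.commute_Y' hy2 (T.VleQ hkV)).mul_left (T.fixed_z_comm he0 hze hν)).eq
  have ht : ⁅⁅(w0 : G), ((σ ⟨v, T.VleS hv⟩ : ↥S) : G)⁆, ((σ k : ↥S) : G)⁆ ∈ cenIn Y :=
    hall _ hw0 _ (σ ⟨v, T.VleS hv⟩).2 _ (σ k).2
  refine hyz (T.h.cent _ (σ k).2 hkQ y hy ?_)
  set t := ⁅w0, σ (⟨v, T.VleS hv⟩ : ↥S)⁆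
  rw [← commutatorElement_inv w0] at hσ
  have hyk : ⁅(⟨y, T.h.Y_S hy⟩ : ↥S), σ k⁆ = A * t⁻¹ * ⁅t, σ k⁆⁻¹ * (A * t⁻¹)⁻¹ := by
    rw [hσ, show ⁅A * t⁻¹, σ k⁆ = A * ⁅t⁻¹, σ k⁆ * A⁻¹ * ⁅A, σ k⁆ by simp only [commutatorElement_def]; group,
      commutatorElement_eq_one_iff_commute.2 hAk, mul_one]
    simp only [commutatorElement_def]; group
  have hyk' := congrArg Subtype.val hyk
  change ⁅y, ((σ k : ↥S) : G)⁆ = _ at hyk'
  rw [hyk']
  exact cenIn_normal.conj_mem _ (inv_mem ht) _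

theorem p_eq_three [hp : Fact p.Prime] : p = 3 := by
  obtain ⟨v, hv, hδ⟩ := T.exists_nonzero
  obtain ⟨θ, hθ⟩ := T.hθ
  have h2 := T.two_ne
  obtain ⟨d, hd⟩ := T.coord.surj ⟨!![(2 : F)⁻¹, 0; 0, 2], by simp [Matrix.det_fin_two, h2]⟩
  have hdM : d ∈ M := (T.coord.mem_M d).2 (by rw [hd]; simp)
  have hds : d * s₁ * d⁻¹ ∈ S :=
    (Subgroup.mem_normalizer_iff.1 (T.coord.le_normalizer T.hker T.h.Q_le hdM) _).1 T.hs₁
  have ha : (RY (d * s₁ * d⁻¹)).1 0 1 = (2 : F)⁻¹ * 2⁻¹ := by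
    rw [T.coord.conj_upper hdM T.coord.one, hd, (u_entries _).2.1]
    simp
  have hdv : d * v * d⁻¹ ∈ nbV S Y := T.conj_V hv d
  have hvv : v * v ∈ nbV S Y := mul_mem hv hv
  have hf : d * v * d⁻¹ * (v * v)⁻¹ ∈ nbV S Y ⊓ mate S Q σ := by
    refine T.mem_F1 (mul_mem hdv (inv_mem hvv)) ?_
    rw [T.hcE.mul _ hdv _ (inv_mem hvv), T.hcE.map_inv hvv, T.hcE.mul v hv v hv, T.hcE.conj d v hv, hθ,
      MonoidHom.comp_apply, hd]
    simp [Matrix.mulVec, dotProduct, Fin.sum_univ_two]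
    show θ 0 * cE v 0 + θ 2 * cE v 1 + (-cE v 1 + -cE v 1) = 0
    rw [map_zero, map_ofNat]
    ring
  have hX : cY ⁅⁅d * v * d⁻¹, d * s₁ * d⁻¹⁆, d * s₁ * d⁻¹⁆ =
      ((2 : F)⁻¹ * 2⁻¹ * ((2 : F)⁻¹ * 2⁻¹)) • (cY ⁅⁅v, s₁⁆, s₁⁆ + cY ⁅⁅v, s₁⁆, s₁⁆) := by
    rw [T.triple hdv hds hds, ha]
    congr 1
    rw [show d * v * d⁻¹ = d * v * d⁻¹ * (v * v)⁻¹ * (v * v) by group,
      T.triple_mul hf.1 hvv T.hs₁ T.hs₁, T.triple_F1 hf T.hs₁ T.hs₁, zero_add,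
      T.triple_mul hv hv T.hs₁ T.hs₁]
  have hzv := T.h.Z_le (T.triple_zS hv T.hs₁ T.hs₁)
  have e : ⁅⁅d * v * d⁻¹, d * s₁ * d⁻¹⁆, d * s₁ * d⁻¹⁆ = d * ⁅⁅v, s₁⁆, s₁⁆ * d⁻¹ := by
    simp only [commutatorElement_def]; group
  rw [e, T.hcY.conj d _ hzv, hd] at hX
  have h0 := congrFun hX 0
  simp [Matrix.mulVec, dotProduct, Fin.sum_univ_two] at h0
  have h3 : (3 : F) = 0 := by
    field_simp at h0
    have h4 : (2 : F) * 3 = 0 := by linear_combination h0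
    exact (mul_eq_zero.1 h4).resolve_left h2
  have hr : ringChar F = p := ((Nat.dvd_prime hp.out).1 ((CharP.cast_eq_zero_iff F (ringChar F) p).1 T.char)).resolve_left
    CharP.ringChar_ne_one
  have h5 : ringChar F ∣ 3 := (CharP.cast_eq_zero_iff F (ringChar F) 3).1 (by exact_mod_cast h3)
  rw [hr] at h5
  exact (Nat.prime_dvd_prime_iff_eq hp.out Nat.prime_three).1 h5

theorem mate_comm_zS {A B : Subgroup G} {τ : MulAut ↥S} (h : ∀ a ∈ A, ∀ b ∈ B, ⁅a, b⁆ ∈ zS S) :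
    ∀ a ∈ mate S A τ, ∀ b ∈ mate S B τ, ⁅a, b⁆ ∈ zS S := by
  intro a ha b hb
  obtain ⟨a0, ha0, rfl⟩ := mem_mate.1 ha
  obtain ⟨b0, hb0, rfl⟩ := mem_mate.1 hb
  have h1 := T.h.Z_char τ ⁅a0, b0⁆ (h _ ha0 _ hb0)
  rwa [map_commutatorElement] at h1

theorem comm_R_A : ∀ r ∈ Q ⊓ mate S Q σ, ∀ a ∈ mate S (nbV S Y) σ, ⁅r, a⁆ ∈ zS S := fun r hr a ha =>
  T.mate_comm_zS (fun x hx v hv => by
    rw [← commutatorElement_inv]; exact inv_mem (T.C_le_zS (T.comm_VQ v hv x hx))) r hr.2 a ha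

theorem comm_R_V : ∀ r ∈ Q ⊓ mate S Q σ, ∀ v ∈ nbV S Y, ⁅r, v⁆ ∈ zS S := fun r hr v hv => by
  rw [← commutatorElement_inv]; exact inv_mem (T.C_le_zS (T.comm_VQ v hv r hr.1))

theorem mate_conj {A : Subgroup G} (hA : A.Normal) {τ : MulAut ↥S} {s a : G} (hs : s ∈ S)
    (ha : a ∈ mate S A τ) : s * a * s⁻¹ ∈ mate S A τ := by
  obtain ⟨b, hb, rfl⟩ := mem_mate.1 ha
  refine mem_mate.2 ⟨τ⁻¹ ⟨s, hs⟩ * b * (τ⁻¹ ⟨s, hs⟩)⁻¹, hA.conj_mem _ hb _, ?_⟩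
  simp

theorem split_S : ∀ s ∈ S, ∃ a ∈ mate S (nbV S Y) σ, ∃ v ∈ nbV S Y, ∃ r ∈ Q ⊓ mate S Q σ, s = a * v * r := by
  intro s hs
  obtain ⟨a, ha, x, hx, rfl⟩ :=
    (@Subgroup.mem_sup_of_normal_right _ _ _ Q T.h.Qn s).1 ((T.h.moves_sup T.hml T.moves).ge hs)
  obtain ⟨v, hv, r, hr, rfl⟩ := T.h.moves_core T.VleQ T.sect.idxW x hx
  exact ⟨a, ha, v, hv, r, hr, (mul_assoc a v r).symm⟩

theorem class_three : S.lowerCentralSeries 3 = ⊥ ∧ S.lowerCentralSeries 2 ≠ ⊥ := by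
  haveI := T.h.Qn
  set V := nbV S Y
  set A := mate S V σ
  set R := Q ⊓ mate S Q σ
  have hVn : V.Normal := nbV_normal
  have hAS : A ≤ S := mate_le_S _ σ
  have hRS : R ≤ S := inf_le_left.trans T.h.Q_le
  have hS3 : S = A ⊔ V ⊔ R := by
    refine le_antisymm (fun s hs => ?_) (sup_le (sup_le hAS T.VleS) hRS)
    obtain ⟨a, ha, v, hv, r, hr, rfl⟩ := T.split_S s hs
    exact Subgroup.mul_mem_sup (Subgroup.mul_mem_sup ha hv) hr
  have hgen : ∀ {B : Subgroup G}, A ≤ Subgroup.normalizer (B : Set G) → V ≤ Subgroup.normalizer (B : Set G) →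
      R ≤ Subgroup.normalizer (B : Set G) → S ≤ Subgroup.normalizer (B : Set G) := fun h1 h2 h3 =>
    hS3.le.trans (sup_le (sup_le h1 h2) h3)
  have hcomm : ∀ {B L : Subgroup G}, S ≤ Subgroup.normalizer (L : Set G) → ⁅A, B⁆ ≤ L → ⁅V, B⁆ ≤ L →
      ⁅R, B⁆ ≤ L → ⁅S, B⁆ ≤ L := fun {B L} hN h1 h2 h3 => by
    have hA := hAS.trans hN
    have hV := T.VleS.trans hN
    have hR := hRS.trans hN
    conv_lhs => rw [hS3]
    exact comm_sup_le (sup_le hA hV) hR (comm_sup_le hA hV h1 h2) h3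
  have hzc : ∀ {B : Subgroup G}, B ≤ S → ∀ L : Subgroup G, ⁅zS S, B⁆ ≤ L := fun {B} hB L =>
    comm_bot_of (fun x hx y hy => T.h.zS_commute hx (hB hy)) L
  -- the derived group of `R` is centralized by `V` and `σ V`
  have hR1 : ∀ {B : Subgroup G}, (∀ r ∈ R, ∀ b ∈ B, ⁅r, b⁆ ∈ zS S) → ⁅⁅R, R⁆, B⁆ = ⊥ := fun {B} hB => by
    have h1 : ⁅⁅R, B⁆, R⁆ = ⊥ := le_bot_iff.1
      ((Subgroup.commutator_mono (Subgroup.commutator_le.2 hB) le_rfl).trans (hzc hRS ⊥))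
    exact Subgroup.commutator_commutator_eq_bot_of_rotate h1 (by rwa [Subgroup.commutator_comm B R])
  have hRc : ∀ k, ∀ a ∈ A ⊔ V, ∀ x ∈ R.lowerCentralSeries (k + 1), Commute a x := by
    intro k a ha x hx
    have hx1 : x ∈ ⁅R, R⁆ := R.lowerCentralSeries_antitone (show 1 ≤ k + 1 by omega) hx
    have h1 : A ⊔ V ≤ Subgroup.centralizer ({x} : Set G) := by
      refine sup_le (fun b hb => ?_) fun b hb => ?_
      · have := (hR1 T.comm_R_A).le (Subgroup.commutator_mem_commutator hx1 hb)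
        rw [Subgroup.mem_bot, commutatorElement_eq_one_iff_commute] at this
        exact Subgroup.mem_centralizer_singleton_iff.2 this.symm.eq
      · have := (hR1 T.comm_R_V).le (Subgroup.commutator_mem_commutator hx1 hb)
        rw [Subgroup.mem_bot, commutatorElement_eq_one_iff_commute] at this
        exact Subgroup.mem_centralizer_singleton_iff.2 this.symm.eq
    exact Subgroup.mem_centralizer_singleton_iff.1 (h1 ha)
  have hNR : ∀ k, S ≤ Subgroup.normalizer (R.lowerCentralSeries (k + 1) : Set G) := fun k =>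
    hgen (le_norm_of_comm fun a ha => hRc k a (Subgroup.mem_sup_left ha))
      (le_norm_of_comm fun a ha => hRc k a (Subgroup.mem_sup_right ha))
      (R.self_le_normalizer_lowerCentralSeries (k + 1))
  have hNz : S ≤ Subgroup.normalizer (zS S : Set G) :=
    le_norm_of_comm fun x hx y hy => (T.h.zS_commute hy hx).symm
  set D := V ⊓ A
  have hND : S ≤ Subgroup.normalizer (D : Set G) := fun s hs => mem_normalizer_iff_cj_le.2 (by
    rintro _ ⟨x, hx, rfl⟩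
    exact ⟨hVn.conj_mem x hx.1 s, T.mate_conj hVn hs hx.2⟩)
  set L₁ := zS S ⊔ D ⊔ R.lowerCentralSeries 1
  set L₂ := zS S ⊔ R.lowerCentralSeries 2
  have hN1 : S ≤ Subgroup.normalizer (L₁ : Set G) := norm_sup (norm_sup hNz hND) (hNR 0)
  have hN2 : S ≤ Subgroup.normalizer (L₂ : Set G) := norm_sup hNz (hNR 1)
  have hz1 : zS S ≤ L₁ := le_sup_of_le_left le_sup_left
  have hS1 : S.lowerCentralSeries 1 ≤ L₁ := by
    show ⁅S, S⁆ ≤ L₁
    have hAV : ⁅A, V⁆ ≤ L₁ := Subgroup.commutator_le.2 fun a ha v hv =>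
      Subgroup.mem_sup_left (Subgroup.mem_sup_right ⟨by
        rw [← commutatorElement_inv]; exact V.inv_mem (T.comm_V hv a), show ⁅a, v⁆ ∈ A by
        rw [commutatorElement_def, mul_assoc a, mul_assoc a]
        exact mul_mem ha (T.mate_conj hVn (T.VleS hv) (inv_mem ha))⟩)
    have hAA : ⁅A, A⁆ ≤ L₁ := Subgroup.commutator_le.2 fun a ha b hb => hz1
      (T.mate_comm_zS (fun x hx y hy => T.C_le_zS (T.hVV x hx y hy)) a ha b hb)
    have hVV : ⁅V, V⁆ ≤ L₁ := Subgroup.commutator_le.2 fun a ha b hb => hz1 (T.C_le_zS (T.hVV a ha b hb))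
    have hRA : ⁅R, A⁆ ≤ L₁ := Subgroup.commutator_le.2 fun r hr a ha => hz1 (T.comm_R_A r hr a ha)
    have hRV : ⁅R, V⁆ ≤ L₁ := Subgroup.commutator_le.2 fun r hr a ha => hz1 (T.comm_R_V r hr a ha)
    refine hcomm hN1 ?_ ?_ ?_
    · rw [Subgroup.commutator_comm]
      exact hcomm hN1 hAA (Subgroup.commutator_comm A V ▸ hAV) hRA
    · rw [Subgroup.commutator_comm]
      exact hcomm hN1 hAV hVV hRV
    · rw [Subgroup.commutator_comm]
      exact hcomm hN1 (Subgroup.commutator_comm R A ▸ hRA) (Subgroup.commutator_comm R V ▸ hRV) le_sup_right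
  have hS2 : S.lowerCentralSeries 2 ≤ L₂ := by
    show ⁅S.lowerCentralSeries 1, S⁆ ≤ L₂
    refine (Subgroup.commutator_mono hS1 le_rfl).trans ?_
    have hDN : zS S ⊔ D ≤ Subgroup.normalizer (L₂ : Set G) :=
      (sup_le inf_le_left (inf_le_left.trans T.VleS)).trans hN2
    refine comm_sup_le hDN ((R.lowerCentralSeries_le_self 1).trans (hRS.trans hN2))
      (comm_sup_le (inf_le_left.trans hN2) ((inf_le_left.trans T.VleS).trans hN2) (hzc le_rfl L₂) ?_) ?_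
    · refine Subgroup.commutator_le.2 fun x hx s hs => Subgroup.mem_sup_left (T.F1_comm ⟨hx.1, ?_⟩ hs).1
      exact mate_mono T.VleQ σ hx.2
    · rw [Subgroup.commutator_comm]
      refine hcomm hN2 ?_ ?_ ?_
      · exact comm_bot_of (fun a ha x hx => hRc 0 a (Subgroup.mem_sup_left ha) x hx) _
      · exact comm_bot_of (fun a ha x hx => hRc 0 a (Subgroup.mem_sup_right ha) x hx) _
      · rw [Subgroup.commutator_comm]
        exact le_sup_right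
  have hS3' : S.lowerCentralSeries 3 ≤ Q.lowerCentralSeries 3 := by
    refine le_trans ?_ (Subgroup.lowerCentralSeries_mono 3 (inf_le_left : R ≤ Q))
    show ⁅S.lowerCentralSeries 2, S⁆ ≤ R.lowerCentralSeries 3
    refine (Subgroup.commutator_mono hS2 le_rfl).trans ?_
    refine comm_sup_le (inf_le_left.trans (hNR 2)) ((R.lowerCentralSeries_le_self 2).trans (hRS.trans (hNR 2)))
      (hzc le_rfl _) ?_
    rw [Subgroup.commutator_comm]
    refine hcomm (hNR 2) ?_ ?_ ?_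
    · exact comm_bot_of (fun a ha x hx => hRc 1 a (Subgroup.mem_sup_left ha) x hx) _
    · exact comm_bot_of (fun a ha x hx => hRc 1 a (Subgroup.mem_sup_right ha) x hx) _
    · rw [Subgroup.commutator_comm]
      exact le_refl (R.lowerCentralSeries 3)
  refine ⟨lcs_eq_bot T.h.hd T.h.Q_le T.h.Qn hS3', fun h2 => ?_⟩
  obtain ⟨v, hv, hδ⟩ := T.exists_nonzero
  have h3 : ⁅⁅v, s₁⁆, s₁⁆ ∈ S.lowerCentralSeries 2 :=
    Subgroup.commutator_mem_commutator (Subgroup.commutator_mem_commutator (T.VleS hv) T.hs₁) T.hs₁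
  rw [h2, Subgroup.mem_bot] at h3
  rw [h3, (T.hcY.zero 1 (one_mem _)).2 (one_mem _)] at hδ
  exact hδ rfl

theorem pow_V : ∀ v ∈ nbV S Y, Nat.Prime p → v ^ p = 1 := by
  intro v hv hpp
  have hp2 : p ≠ 2 := fun h2 => by
    have := T.odd
    rw [h2] at this
    exact absurd this (by decide)
  obtain ⟨j, hj⟩ := hpp.dvd_choose_self (by norm_num : (2 : ℕ) ≠ 0) (lt_of_le_of_ne hpp.two_le (Ne.symm hp2))
  refine (Subgroup.iSup_induction (C := fun x => x ∈ nbV S Y ∧ x ^ p = 1) _ (x := v) hv ?_ ?_ ?_).2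
  · intro i x hx
    refine ⟨Subgroup.mem_iSup_of_mem i hx, ?_⟩
    obtain ⟨_, hy, rfl⟩ := hx
    obtain ⟨u, hu, rfl⟩ := mem_mate.1 hy
    rw [← map_pow, ← SubmonoidClass.coe_pow, ← map_pow, show u ^ p = 1 from Subtype.ext (T.h.Y_exp _ hu),
      map_one, OneMemClass.coe_one, map_one]
  · exact ⟨one_mem _, one_pow p⟩
  · intro a b ha hb
    refine ⟨mul_mem ha.1 hb.1, ?_⟩
    have hc : ⁅b, a⁆ ∈ cenIn Y := T.hVV b hb.1 a ha.1
    have hcc : ∀ x, Commute ⁅b, a⁆ x := fun x => (Subgroup.mem_center_iff.1 hc.2 x).symm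
    rw [Fusion.mul_pow_of_central (hcc a) (hcc b), ha.2, hb.2, one_mul, one_mul, hj, pow_mul,
      T.h.Y_exp _ hc.1, one_pow]

/-- The cube of a product, modulo the centre. -/
theorem cube (hp3 : p = 3) {a v : G} (ha : a ∈ mate S (nbV S Y) σ) (hv : v ∈ nbV S Y) :
    (a * v) ^ 3 ∈ zS S ∧ cY ((a * v) ^ 3) = cY ⁅⁅v⁻¹, a⁻¹⁆⁻¹, a⁻¹⁆ := by
  haveI : (cenIn Y).Normal := cenIn_normal
  have haS : a ∈ S := mate_le_S _ σ ha
  have hpp : Nat.Prime p := hp3 ▸ Nat.prime_three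
  set τ := ⁅v⁻¹, a⁻¹⁆ with hτ
  have hτV : τ ∈ nbV S Y := T.comm_V (inv_mem hv) _
  set ζ := ⁅τ⁻¹, a⁻¹⁆ with hζ
  have hτF : τ⁻¹ ∈ nbV S Y ⊓ mate S Q σ := inv_mem (T.comm_F1 (inv_mem hv) (inv_mem haS))
  have hζz : ζ ∈ zS S := (T.F1_comm hτF (inv_mem haS)).1
  have ha3 : a ^ 3 = 1 := by
    obtain ⟨b, hb, rfl⟩ := mem_mate.1 ha
    rw [← SubmonoidClass.coe_pow, ← map_pow, show b ^ 3 = 1 from Subtype.ext (hp3 ▸ T.pow_V _ hb hpp), map_one,
      OneMemClass.coe_one]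
  have e1 : a⁻¹ * v * a = v * τ := by rw [hτ, commutatorElement_def]; group
  have e2 : a⁻¹ * τ * a = τ * ζ := by rw [hζ, commutatorElement_def]; group
  have e3 : (a * v) ^ 3 = a ^ 3 * (a⁻¹ * (a⁻¹ * v * a) * a) * (a⁻¹ * v * a) * v := by
    rw [pow_succ, pow_succ, pow_one]; group
  have e4 : a⁻¹ * (v * τ) * a = v * τ * τ * ζ := by
    rw [show a⁻¹ * (v * τ) * a = (a⁻¹ * v * a) * (a⁻¹ * τ * a) by group, e1, e2, ← mul_assoc]
  set K := v * τ * τ * (v * τ) * v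
  have hc : Commute ζ (v * τ * v) := T.h.zS_commute hζz (mul_mem (mul_mem (T.VleS hv) (T.VleS hτV)) (T.VleS hv))
  have e5 : (a * v) ^ 3 = K * ζ := by
    rw [e3, ha3, e1, e4, one_mul, show v * τ * τ * ζ * (v * τ) * v = v * τ * τ * (ζ * (v * τ * v)) by group,
      hc.eq]
    simp only [K]; group
  have hK : K ∈ cenIn Y := by
    set π := QuotientGroup.mk' (cenIn Y)
    rw [← QuotientGroup.eq_one_iff, ← QuotientGroup.mk'_apply (N := cenIn Y)]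
    have hcm : Commute (π v) (π τ) := by
      rw [← commutatorElement_eq_one_iff_commute, ← map_commutatorElement, QuotientGroup.mk'_apply,
        QuotientGroup.eq_one_iff]
      exact T.hVV v hv τ hτV
    have h1 : π v ^ 3 = 1 := by rw [← map_pow, show v ^ 3 = 1 from hp3 ▸ T.pow_V v hv hpp, map_one]
    have h2 : π τ ^ 3 = 1 := by rw [← map_pow, show τ ^ 3 = 1 from hp3 ▸ T.pow_V τ hτV hpp, map_one]
    calc π K = π v * (π τ * π τ) * π v * (π τ * π v) := by simp only [K, map_mul, mul_assoc]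
      _ = π v * π v * (π τ * π τ) * (π v * π τ) := by
        rw [mul_assoc (π v) (π τ * π τ) (π v), (hcm.symm.mul_left hcm.symm).eq, ← mul_assoc (π v) (π v), hcm.eq]
      _ = π v * π v * (π τ * π τ * π v) * π τ := by group
      _ = π v * π v * (π v * (π τ * π τ)) * π τ := by rw [(hcm.symm.mul_left hcm.symm).eq]
      _ = π v ^ 3 * π τ ^ 3 := by simp only [pow_succ, pow_zero, one_mul, mul_assoc]
      _ = 1 := by rw [h1, h2, one_mul]
  refine ⟨e5 ▸ mul_mem (T.C_le_zS hK) hζz, ?_⟩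
  rw [e5, T.hcY.mul _ hK.1 _ (T.h.Z_le hζz), (T.hcY.zero _ hK.1).2 hK, zero_add]

theorem exponent_nine (hp3 : p = 3) : (∀ s ∈ S, s ^ 9 = 1) ∧ ∃ s ∈ S, s ^ 3 ≠ 1 := by
  have hz3 : ∀ x ∈ zS S, x ^ 3 = 1 := fun x hx => hp3 ▸ T.h.Y_exp x (T.h.Z_le hx)
  refine ⟨pow_eq_one_of_hd T.h.hd T.h.Q_le T.h.Qn fun s hs => ?_, ?_⟩
  · obtain ⟨a, ha, v, hv, r, hr, rfl⟩ := T.split_S s hs
    refine ⟨r, hr.1, ?_⟩
    have haS : a ∈ S := mate_le_S _ σ ha
    have hrS : r ∈ S := T.h.Q_le hr.1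
    have hlS : a * v ∈ S := mul_mem haS (T.VleS hv)
    have hz : ⁅r, a * v⁆ ∈ zS S := by
      have h1 := T.comm_R_A r hr a ha
      have h2 := T.comm_R_V r hr v hv
      rw [show ⁅r, a * v⁆ = ⁅r, a⁆ * (a * ⁅r, v⁆ * a⁻¹) by simp only [commutatorElement_def]; group,
        ← (T.h.zS_commute h2 haS).eq, mul_inv_cancel_right]
      exact mul_mem h1 h2
    rw [Fusion.mul_pow_of_central (T.h.zS_commute hz hlS) (T.h.zS_commute hz hrS),
      show Nat.choose 9 2 = 3 * 12 by rfl, pow_mul, hz3 _ hz, one_pow, mul_one, show (9 : ℕ) = 3 * 3 by rfl,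
      pow_mul (a * v), hz3 _ (T.cube hp3 ha hv).1, one_mul]
  · obtain ⟨v, hv, hδ⟩ := T.exists_nonzero
    obtain ⟨a, ha, x, hx, hax⟩ :=
      (@Subgroup.mem_sup_of_normal_right _ _ _ Q T.h.Qn s₁).1 ((T.h.moves_sup T.hml T.moves).ge T.hs₁)
    have haS : a ∈ S := mate_le_S _ σ ha
    have hRa : (RY a).1 0 1 = 1 := by
      rw [show RY a = RY s₁ by rw [← hax, map_mul, T.coord.Q_one x hx, mul_one], T.slope_s₁]
    refine ⟨a * v, mul_mem haS (T.VleS hv), fun h3 => hδ ?_⟩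
    have h1 := (T.cube hp3 ha hv).2
    rw [h3, (T.hcY.zero 1 (one_mem _)).2 (one_mem _)] at h1
    set t := ⁅v⁻¹, a⁻¹⁆
    have ht : t ∈ nbV S Y := T.comm_V (inv_mem hv) _
    have htF : t ∈ nbV S Y ⊓ mate S Q σ := T.comm_F1 (inv_mem hv) (inv_mem haS)
    have hs' : a⁻¹ ∈ S := inv_mem haS
    have h2 : cY ⁅t, a⁻¹⁆ = -cY ⁅t⁻¹, a⁻¹⁆ := by
      have hu := (T.F1_comm (inv_mem htF) hs').1
      have hw := (T.F1_comm htF hs').1
      have e : ⁅t, a⁻¹⁆ * ⁅t⁻¹, a⁻¹⁆ = 1 := by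
        rw [show ⁅t, a⁻¹⁆ = t * ⁅t⁻¹, a⁻¹⁆⁻¹ * t⁻¹ by simp only [commutatorElement_def]; group,
          ← (T.h.zS_commute (inv_mem hu) (T.VleS ht)).eq, mul_inv_cancel_right, inv_mul_cancel]
      refine eq_neg_of_add_eq_zero_left ?_
      rw [← T.hcY.mul _ (T.h.Z_le hw) _ (T.h.Z_le hu), e, (T.hcY.zero 1 (one_mem _)).2 (one_mem _)]
    have h4 : cY ⁅⁅v⁻¹, s₁⁆, s₁⁆ + cY ⁅⁅v, s₁⁆, s₁⁆ = 0 := by
      rw [← T.triple_mul (inv_mem hv) hv T.hs₁ T.hs₁, inv_mul_cancel,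
        T.triple_F1 (one_mem (nbV S Y ⊓ mate S Q σ)) T.hs₁ T.hs₁]
    rw [← h1, neg_zero, T.triple (inv_mem hv) hs' hs', T.slope_inv haS, hRa, neg_mul_neg, one_mul, one_smul] at h2
    rw [h2, zero_add] at h4
    exact congrFun h4 0

end TwoFrame

end Cfsg.Agent.PushUp
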