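import Cfsg.Agent.Lib.PushUp.BTwoFrame
import Cfsg.Agent.Lib.PushUp.ClassGen

/-!
# The cubic form at a critical path of two edges
-/

set_option autoImplicit false

open scoped commutatorElement

namespace Cfsg.Agent.PushUp

open Cfsg Cfsg.Agent.Small

universe u w

variable {G : Type u} [Group G]

theorem NatSect.map_pow {F : Type w} [Field F] {W C : Subgroup G}
    {R : G →* Matrix.SpecialLinearGroup (Fin 2) F} {c : G → Fin 2 → F} (hc : NatSect W C R c)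
    {a : G} (ha : a ∈ W) (k : ℕ) : c (a ^ k) = (k : F) • c a := by
  induction k with
  | zero =>
    rw [pow_zero, Nat.cast_zero, zero_smul]
    exact (hc.zero 1 (one_mem _)).2 (one_mem _)
  | succ k ih => rw [pow_succ, hc.mul _ (pow_mem ha k) a ha, ih, Nat.cast_succ, add_smul, one_smul]

theorem mate_le_mate_of_le {S A B : Subgroup G} (hAS : A ≤ S) (σ : MulAut ↥S)
    (h : mate S A σ ≤ B) (a : ↥S) (ha : (a : G) ∈ A) : (σ a : G) ∈ B := h (apply_mem_mate_iff.2 ha)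

/-- Two natural sections with the same action at a moving automorphism. -/
structure TwoFrame (S Q Y M : Subgroup G) (p q : ℕ) (g s₁ : G) (σ : MulAut ↥S) (E : Subgroup G)
    {F : Type w} [Field F] [Fintype F] (RY RE : G →* Matrix.SpecialLinearGroup (Fin 2) F)
    (cY cE : G → Fin 2 → F) (z : G) : Prop where
  h : PUp S Q Y M p q
  odd : Odd p
  char : (p : F) = 0
  hml : ∀ τ, mate S Y τ ≤ Q
  hHS : ∀ y ∈ Y, ∀ s ∈ S, ⁅y, s⁆ ∈ zS S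
  hVV : ∀ a ∈ nbV S Y, ∀ b ∈ nbV S Y, ⁅a, b⁆ ∈ cenIn Y
  hs₁ : s₁ ∈ S
  hs₁Q : s₁ ∉ Q
  coord : Coord S Q M g s₁ RY
  hker : RY.ker = Q
  hcY : NatSect Y (cenIn Y) RY cY
  coordE : Coord S Q M g s₁ RE
  hcE : NatSect (nbV S Y) E RE cE
  hθ : ∃ θ : F →+* F, RE = (Matrix.SpecialLinearGroup.map (n := Fin 2) θ).comp RY
  sect : SpreadSect S Q M (nbV S Y) E (nbV S Y ⊓ mate S Q σ) q
  Y_le : Y ≤ E
  E_cent : ∀ e ∈ E, ∀ x : G, ⁅e, x⁆ ∈ Y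
  moves : ¬ mate S (nbV S Y) σ ≤ Q
  moves' : ¬ mate S (nbV S Y) σ⁻¹ ≤ Q
  F1_inv : nbV S Y ⊓ mate S Q σ⁻¹ = nbV S Y ⊓ mate S Q σ
  hz : (RY z : Matrix (Fin 2) (Fin 2) F) = -1
  hzV : ∀ x ∈ Q, ⁅z, x⁆ ∈ nbV S Y

namespace PUp

variable [Finite G] {S Q Y M : Subgroup G} {p q : ℕ}

/-- Commutation across the cover `S = σV · Q`. -/
theorem moves_sup (h : PUp S Q Y M p q) (hml : ∀ τ, mate S Y τ ≤ Q) {σ : MulAut ↥S}
    (hσ : ¬ mate S (nbV S Y) σ ≤ Q) : mate S (nbV S Y) σ ⊔ Q = S := by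
  obtain ⟨τ, g, hW⟩ := h.exists_img hml hσ
  exact le_antisymm (sup_le (mate_le_S _ σ) h.Q_le)
    ((h.img_sup hml hW).ge.trans (sup_le_sup_right (mate_mono (piece_le_nbV τ g) σ) Q))

theorem moves_fix_le (h : PUp S Q Y M p q) (hml : ∀ τ, mate S Y τ ≤ Q)
    (hHS : ∀ y ∈ Y, ∀ s ∈ S, ⁅y, s⁆ ∈ zS S) {σ : MulAut ↥S}
    (hσ : ¬ mate S (nbV S Y) σ ≤ Q) : ∀ f ∈ nbV S Y ⊓ mate S Q σ, ∀ s ∈ S, ⁅f, s⁆ ∈ Y := by
  haveI := h.Yn
  intro f hf s hs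
  obtain ⟨τ, g, hW⟩ := h.exists_img hml hσ
  have hVQ : nbV S Y ≤ modCent Y Q := iSup_le fun i => by
    rintro _ ⟨x, hx, rfl⟩
    obtain ⟨u, hu, rfl⟩ := mem_mate.1 hx
    refine mem_modCent.2 fun w hw => ?_
    let t : ↥S := i.1⁻¹ ⟨i.2⁻¹ * w * i.2, h.Q_le (by simpa using h.Qn.conj_mem w hw i.2⁻¹)⟩
    have h2 := h.Z_char i.1 ⁅u, t⁆ (hHS _ hu _ t.2)
    simp only [t, map_commutatorElement, MulAut.apply_inv_self] at h2
    have h3 := h.Yn.conj_mem _ (h.Z_le h2) i.2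
    simpa [commutatorElement_def, mul_assoc] using h3
  have hle : S ≤ modCent Y (Subgroup.zpowers f) := by
    rw [← h.img_sup hml hW]
    refine sup_le (fun w hw => mem_modCent.2 ?_)
      (le_modCent_symm fun x hx => hVQ ((Subgroup.zpowers_le.2 hf.1) hx))
    rintro _ ⟨i, rfl⟩
    rw [← commutatorElement_inv]
    exact inv_mem (h.img_comm hml hW _ ((mate S Q σ).zpow_mem hf.2 i) w hw)
  rw [← commutatorElement_inv]
  exact inv_mem (mem_modCent.1 (hle hs) f (Subgroup.mem_zpowers f))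

theorem moves_fix_eq (h : PUp S Q Y M p q) (hml : ∀ τ, mate S Y τ ≤ Q)
    (hHS : ∀ y ∈ Y, ∀ s ∈ S, ⁅y, s⁆ ∈ zS S) {σ τ : MulAut ↥S} {E : Subgroup G}
    (P : SpreadSect S Q M (nbV S Y) E (nbV S Y ⊓ mate S Q σ) q) (hYE : Y ≤ E)
    (hτ : ¬ mate S (nbV S Y) τ ≤ Q) : nbV S Y ⊓ mate S Q τ = nbV S Y ⊓ mate S Q σ := by
  set V := nbV S Y
  obtain ⟨s, hs, hsQ⟩ := h.exists_notQ
  have hle : V ⊓ mate S Q τ ≤ V ⊓ mate S Q σ := fun f hf =>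
    P.free s hs hsQ f hf.1 (hYE (h.moves_fix_le hml hHS hτ f hf s hs))
  have h1 : (V ⊓ mate S Q τ).relIndex V ≤ q := by
    rw [inf_comm, Subgroup.inf_relIndex_right, ← h.idxS, ← mate_relIndex le_rfl τ, mate_S]
    exact Subgroup.relIndex_le_of_le_right ((h.nbV_le hml).trans h.Q_le) (relIndex_ne_zero' _ _)
  have h2 := Subgroup.relIndex_mul_relIndex (V ⊓ mate S Q τ) (V ⊓ mate S Q σ) V hle inf_le_left
  rw [P.idxW] at h2
  refine le_antisymm hle (Subgroup.relIndex_eq_one.1 ?_)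
  have := h.two_le
  have h3 := Nat.pos_of_ne_zero (relIndex_ne_zero' (V ⊓ mate S Q τ) (V ⊓ mate S Q σ))
  by_contra hne
  have h4 : 2 * q ≤ (V ⊓ mate S Q τ).relIndex (V ⊓ mate S Q σ) * q := Nat.mul_le_mul_right q (by omega)
  omega

/-- `Q = V (Q ∩ σ Q)`. -/
theorem moves_core (h : PUp S Q Y M p q) {σ : MulAut ↥S} (hVQ : nbV S Y ≤ Q)
    (hidx : (nbV S Y ⊓ mate S Q σ).relIndex (nbV S Y) = q) :
    ∀ x ∈ Q, ∃ v ∈ nbV S Y, ∃ r ∈ Q ⊓ mate S Q σ, x = v * r := by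
  haveI : (nbV S Y).Normal := nbV_normal
  refine fun x hx => exists_mul_of_relIndex hVQ ?_ hx
  rw [← Subgroup.inf_relIndex_right (mate S Q σ) (nbV S Y), inf_comm, hidx, ← h.idxS, ← mate_relIndex le_rfl σ,
    mate_S]
  exact Subgroup.relIndex_le_of_le_right h.Q_le (relIndex_ne_zero' _ _)

end PUp

namespace TwoFrame

variable [Finite G] {S Q Y M : Subgroup G} {p q : ℕ} {g s₁ z : G} {σ : MulAut ↥S} {E : Subgroup G}
  {F : Type w} [Field F] [Fintype F] {RY RE : G →* Matrix.SpecialLinearGroup (Fin 2) F}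
  {cY cE : G → Fin 2 → F} (T : TwoFrame S Q Y M p q g s₁ σ E RY RE cY cE z)
include T

theorem two_ne : (2 : F) ≠ 0 := fun h2 => by
  obtain ⟨m, hm⟩ := T.odd
  have h1 := T.char
  rw [hm, Nat.cast_add, Nat.cast_mul, Nat.cast_ofNat, h2, zero_mul, zero_add, Nat.cast_one] at h1
  exact one_ne_zero h1

theorem VleQ : nbV S Y ≤ Q := T.h.nbV_le T.hml

theorem VleS : nbV S Y ≤ S := T.VleQ.trans T.h.Q_le

theorem C_le_zS : cenIn Y ≤ zS S := T.h.C_le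

theorem conj_V {v : G} (hv : v ∈ nbV S Y) (x : G) : x * v * x⁻¹ ∈ nbV S Y := (nbV_normal (S := S) (Y := Y)).conj_mem v hv x

theorem comm_V {v : G} (hv : v ∈ nbV S Y) (x : G) : ⁅v, x⁆ ∈ nbV S Y := by
  rw [commutatorElement_def, mul_assoc v, mul_assoc v]
  exact mul_mem hv (T.conj_V (inv_mem hv) x)

theorem RY_z_conj {y : G} (hy : y ∈ Y) : cY (z * y * z⁻¹) = -cY y := by
  rw [T.hcY.conj z y hy, T.hz, Matrix.neg_mulVec, Matrix.one_mulVec]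

theorem RE_z_conj {v : G} (hv : v ∈ nbV S Y) : cE (z * v * z⁻¹) = -cE v := by
  obtain ⟨θ, hθ⟩ := T.hθ
  rw [T.hcE.conj z v hv, hθ]
  have e : ((Matrix.SpecialLinearGroup.map (n := Fin 2) θ).comp RY z : Matrix (Fin 2) (Fin 2) F) = -1 := by
    rw [MonoidHom.comp_apply, Matrix.SpecialLinearGroup.map_apply_coe, T.hz, map_neg, map_one]
  rw [e, Matrix.neg_mulVec, Matrix.one_mulVec]

theorem C_of_fix {y : G} (hy : y ∈ Y) (h : cY (z * y * z⁻¹) = cY y) : y ∈ cenIn Y := by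
  rw [T.RY_z_conj hy] at h
  refine (T.hcY.zero y hy).1 (funext fun i => ?_)
  have h1 := congrFun h i
  have h2 := T.two_ne
  simp only [Pi.neg_apply] at h1
  have h3 : (2 : F) * cY y i = 0 := by linear_combination -h1
  exact (mul_eq_zero.1 h3).resolve_left h2

/-- The part of `E` fixed by the involution modulo the centre. -/
theorem exists_fixed {e : G} (he : e ∈ E) :
    ∃ y ∈ Y, ∃ e0 ∈ E, ⁅z, e0⁆ ∈ cenIn Y ∧ e = y * e0 := by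
  haveI := T.h.Yn
  obtain ⟨m, hm⟩ : ∃ m, 2 * m = p + 1 := by
    obtain ⟨k, hk⟩ := T.odd
    exact ⟨k + 1, by omega⟩
  set y := ⁅z, e⁆ with hy
  have hyY : y ∈ Y := by rw [hy, ← commutatorElement_inv]; exact inv_mem (T.E_cent e he z)
  set y' := y ^ m
  have hy'Y : y' ∈ Y := pow_mem hyY m
  refine ⟨y'⁻¹, inv_mem hy'Y, y' * e, mul_mem (T.Y_le hy'Y) he, ?_, (inv_mul_cancel_left y' e).symm⟩
  have hev : e ∈ Q := T.VleQ ((T.sect.hCA.trans inf_le_left) he)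
  have hce : Commute y'⁻¹ e := (T.h.commute_Y' (inv_mem hy'Y) hev)
  have e1 : ⁅z, y' * e⁆ = z * y' * z⁻¹ * y * y'⁻¹ := by
    calc ⁅z, y' * e⁆ = z * y' * z⁻¹ * (z * e * z⁻¹) * (e⁻¹ * y'⁻¹) := by rw [commutatorElement_def]; group
      _ = z * y' * z⁻¹ * (z * e * z⁻¹) * (y'⁻¹ * e⁻¹) := by rw [(hce.inv_right).eq]
      _ = z * y' * z⁻¹ * (z * e * z⁻¹ * e⁻¹) * (e * (y'⁻¹ * e⁻¹)) := by group
      _ = z * y' * z⁻¹ * y * y'⁻¹ := by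
        rw [← mul_assoc e, ← hce.eq, mul_inv_cancel_right, hy, commutatorElement_def]
  have hc1 : z * y' * z⁻¹ ∈ Y := T.h.Yn.conj_mem _ hy'Y z
  rw [e1]
  refine (T.hcY.zero _ (mul_mem (mul_mem hc1 hyY) (inv_mem hy'Y))).1 ?_
  rw [T.hcY.mul _ (mul_mem hc1 hyY) _ (inv_mem hy'Y), T.hcY.mul _ hc1 _ hyY, T.RY_z_conj hy'Y,
    T.hcY.map_inv hy'Y, T.hcY.map_pow hyY m]
  funext i
  have h2 : (2 : F) * m = 1 := by
    have := congrArg (Nat.cast (R := F)) hm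
    rwa [Nat.cast_mul, Nat.cast_add, T.char, zero_add, Nat.cast_ofNat, Nat.cast_one] at this
  simp only [Pi.add_apply, Pi.neg_apply, Pi.smul_apply, Pi.zero_apply, smul_eq_mul]
  linear_combination (-(cY y i)) * h2

theorem conj_comm_fixed {e0 x : G} (hze : ⁅z, e0⁆ ∈ cenIn Y) :
    z * ⁅e0, x⁆ * z⁻¹ = ⁅e0, z * x * z⁻¹⁆ := by
  have e1 : z * e0 * z⁻¹ = ⁅z, e0⁆ * e0 := by simp only [commutatorElement_def]; group
  have hc : ∀ t, Commute ⁅z, e0⁆ t := fun t => (Subgroup.mem_center_iff.1 hze.2 t).symm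
  rw [show z * ⁅e0, x⁆ * z⁻¹ = ⁅z * e0 * z⁻¹, z * x * z⁻¹⁆ by simp only [commutatorElement_def]; group, e1]
  generalize z * x * z⁻¹ = t
  generalize hk : ⁅z, e0⁆ = k at hc
  calc ⁅k * e0, t⁆ = k * (e0 * t * e0⁻¹) * k⁻¹ * t⁻¹ := by simp only [commutatorElement_def]; group
    _ = e0 * t * e0⁻¹ * t⁻¹ := by rw [(hc (e0 * t * e0⁻¹)).eq, mul_inv_cancel_right]
    _ = ⁅e0, t⁆ := (commutatorElement_def e0 t).symm

theorem fixed_Q {e0 : G} (he : e0 ∈ E) (hze : ⁅z, e0⁆ ∈ cenIn Y) : ∀ x ∈ Q, ⁅e0, x⁆ ∈ cenIn Y := by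
  intro x hx
  haveI := T.h.Yn
  have he' : e0 ∈ nbV S Y := (T.sect.hCA.trans inf_le_left) he
  have hY : ⁅e0, x⁆ ∈ Y := T.E_cent e0 he x
  refine T.C_of_fix hY ?_
  rw [T.conj_comm_fixed hze]
  set ν := ⁅z, x⁆ with hν
  have e1 : z * x * z⁻¹ = ν * x := by rw [hν, commutatorElement_def]; group
  have hνV : ν ∈ nbV S Y := T.hzV x hx
  have hνY : ⁅e0, ν⁆ ∈ Y := T.E_cent e0 he ν
  rw [e1, show ⁅e0, ν * x⁆ = ⁅e0, ν⁆ * (ν * ⁅e0, x⁆ * ν⁻¹) by simp only [commutatorElement_def]; group,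
    ← (T.h.commute_Y' hY (T.VleQ hνV)).eq, mul_inv_cancel_right, T.hcY.mul _ hνY _ hY,
    (T.hcY.zero _ hνY).2 (T.hVV _ he' _ hνV), zero_add]

theorem fixed_S {e0 : G} (he : e0 ∈ E) (hze : ⁅z, e0⁆ ∈ cenIn Y) : ∀ s ∈ S, ⁅e0, s⁆ ∈ cenIn Y := by
  intro s hs
  haveI := T.h.Yn
  have hY : ⁅e0, s⁆ ∈ Y := T.E_cent e0 he s
  refine T.C_of_fix hY ?_
  rw [T.conj_comm_fixed hze]
  set x := z * s * z⁻¹ * s⁻¹ with hx
  have hxQ : x ∈ Q := T.hker.le (by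
    rw [MonoidHom.mem_ker, hx, map_mul, map_mul, map_mul, map_inv, map_inv]
    rw [mul_inv_eq_one, mul_inv_eq_iff_eq_mul]
    refine Subtype.ext ?_
    simp only [Matrix.SpecialLinearGroup.coe_mul, T.hz, neg_mul, one_mul, mul_neg, mul_one])
  have hxY : ⁅e0, x⁆ ∈ Y := T.E_cent e0 he x
  rw [show z * s * z⁻¹ = x * s by rw [hx]; group,
    show ⁅e0, x * s⁆ = ⁅e0, x⁆ * (x * ⁅e0, s⁆ * x⁻¹) by simp only [commutatorElement_def]; group,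
    ← (T.h.commute_Y' hY hxQ).eq, mul_inv_cancel_right, T.hcY.mul _ hxY _ hY,
    (T.hcY.zero _ hxY).2 (T.fixed_Q he hze x hxQ), zero_add]

theorem fixed_z_comm {e0 : G} (he : e0 ∈ E) (hze : ⁅z, e0⁆ ∈ cenIn Y) {v : G} (hv : v ∈ nbV S Y) :
    Commute e0 ⁅z, v⁆ := by
  haveI := T.h.Yn
  have he' : e0 ∈ nbV S Y := (T.sect.hCA.trans inf_le_left) he
  have h0 : ⁅e0, v⁆ ∈ cenIn Y := T.hVV _ he' _ hv
  have h1 : ⁅e0, z * v * z⁻¹⁆ = ⁅e0, v⁆ := by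
    rw [← T.conj_comm_fixed hze, Subgroup.mem_center_iff.1 h0.2 z, mul_inv_cancel_right]
  have hc : ∀ t, Commute ⁅e0, v⁆ t := fun t => (Subgroup.mem_center_iff.1 h0.2 t).symm
  rw [← commutatorElement_eq_one_iff_commute,
    show ⁅e0, ⁅z, v⁆⁆ = ⁅e0, z * v * z⁻¹⁆ * ((z * v * z⁻¹ * v⁻¹) * ⁅e0, v⁆⁻¹ * (z * v * z⁻¹ * v⁻¹)⁻¹) by
      simp only [commutatorElement_def]; group, h1]
  generalize z * v * z⁻¹ * v⁻¹ = t
  rw [← ((hc t).inv_left).eq, mul_inv_cancel_right, mul_inv_cancel]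

theorem comm_E_Q : ∀ e ∈ E, ∀ x ∈ Q, ⁅e, x⁆ ∈ cenIn Y := by
  intro e he x hx
  obtain ⟨y, hy, e0, he0, hze, rfl⟩ := T.exists_fixed he
  have h1 := T.fixed_Q he0 hze x hx
  rw [show ⁅y * e0, x⁆ = y * ⁅e0, x⁆ * y⁻¹ * ⁅y, x⁆ by simp only [commutatorElement_def]; group,
    commutatorElement_eq_one_iff_commute.2 (T.h.commute_Y' hy hx), mul_one]
  exact cenIn_normal.conj_mem _ h1 y

theorem mem_mate_Y {τ : MulAut ↥S} (hτ : nbV S Y ⊓ mate S Q τ = nbV S Y ⊓ mate S Q σ) :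
    mate S Y τ ≤ nbV S Y ⊓ mate S Q σ := hτ ▸ fun x hx =>
  ⟨Subgroup.mem_iSup_of_mem (τ, 1) ⟨x, hx, by simp⟩, mate_mono T.h.Y_le τ hx⟩

omit [Finite G] T in
theorem mate_Y_commute {h : PUp S Q Y M p q} {τ : MulAut ↥S} {x w : G} (hVQ : nbV S Y ≤ Q)
    (hx : x ∈ mate S Y τ) (hw : w ∈ mate S (nbV S Y) τ) : Commute x w := by
  obtain ⟨y, hy, rfl⟩ := mem_mate.1 hx
  obtain ⟨v, hv, rfl⟩ := mem_mate.1 hw
  exact commute_aut (Subgroup.mem_centralizer_iff.1 (h.Q_cent (hVQ hv)) _ hy)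

theorem exists_notE : ∃ x ∈ mate S Y σ, x ∉ E := by
  obtain ⟨τ, g', hd, hτ⟩ := T.h.moves_next T.hml T.moves
  obtain ⟨x0, hx0, hx0Q⟩ := SetLike.not_le_iff_exists.1 hd
  obtain ⟨u, v, hu, hv, rfl⟩ := mem_img.1 hx0
  obtain ⟨y, hy, hyz⟩ := SetLike.not_le_iff_exists.1 T.h.Y_not_le_zS
  refine ⟨_, (apply_mem_mate_iff (a := ⟨y, T.h.Y_S hy⟩)).2 hy, fun hE => hyz ?_⟩
  have hEτ : E ≤ mate S Q τ := T.sect.hCA.trans ((T.h.moves_fix_eq T.hml T.hHS T.sect T.Y_le hτ).ge.trans inf_le_right)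
  have h1 := hEτ (T.sect.Cn.conj_mem _ hE g'⁻¹)
  obtain ⟨x1, hx1, hx1e⟩ := mem_mate.1 h1
  have h2 : Commute ((τ x1 : ↥S) : G) (τ u : ↥S) := commute_aut (T.h.commute_Y' hu hx1).symm
  rw [hx1e] at h2
  have h3 := h2.map (MulAut.conj g').toMonoidHom
  simp only [MulEquiv.coe_toMonoidHom, MulAut.conj_apply, ← hv] at h3
  rw [show g' * (g'⁻¹ * ((σ ⟨y, T.h.Y_S hy⟩ : ↥S) : G) * g'⁻¹⁻¹) * g'⁻¹ =
    ((σ ⟨y, T.h.Y_S hy⟩ : ↥S) : G) by group] at h3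
  have h4 := commute_aut (σ := σ⁻¹) h3
  rw [MulAut.inv_apply_self] at h4
  exact T.h.mem_zS_of_commute hy (σ⁻¹ v).2 hx0Q h4

/-- `V` and `Q` commute modulo the centre. -/
theorem comm_VQ : ∀ v ∈ nbV S Y, ∀ x ∈ Q, ⁅v, x⁆ ∈ cenIn Y := by
  haveI := T.h.Qn
  haveI : (nbV S Y).Normal := nbV_normal
  haveI : (cenIn Y).Normal := cenIn_normal
  haveI : (Q.map (QuotientGroup.mk' (cenIn Y))).Normal := T.h.Qn.map _ (QuotientGroup.mk'_surjective _)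
  set K := nbV S Y ⊓ modCent (cenIn Y) Q
  obtain ⟨x0, hx0, hx0E⟩ := T.exists_notE
  have hK : x0 ∈ K := by
    refine ⟨(T.mem_mate_Y rfl hx0).1, mem_modCent.2 fun x hx => ?_⟩
    obtain ⟨v, hv, r, hr, rfl⟩ := T.h.moves_core T.VleQ T.sect.idxW x hx
    obtain ⟨y, hy, rfl⟩ := mem_mate.1 hx0
    obtain ⟨r0, hr0, rfl⟩ := mem_mate.1 hr.2
    have hc : Commute (σ y : G) (σ r0 : G) := commute_aut (T.h.commute_Y' hy hr0)
    rw [show ⁅(σ y : G), v * (σ r0 : G)⁆ = ⁅(σ y : G), v⁆ * (v * ⁅(σ y : G), (σ r0 : G)⁆ * v⁻¹) by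
      simp only [commutatorElement_def]; group, commutatorElement_eq_one_iff_commute.2 hc]
    simp only [mul_one, mul_inv_cancel]
    exact T.hVV _ (T.mem_mate_Y rfl (apply_mem_mate_iff.2 hy)).1 _ hv
  have hKV : ∀ a ∈ nbV S Y, a ∈ K := by
    intro a ha
    obtain ⟨k, hk, hak⟩ := T.hcE.le_sup T.coordE.surj
      (show (K ⊔ E).Normal from @Subgroup.sup_normal _ _ K E inferInstance T.sect.Cn)
      (sup_le inf_le_left (T.sect.hCA.trans inf_le_left)) (fun hle => hx0E (hle (Subgroup.mem_sup_left hK))) a ha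
    have hEK : E ≤ K := fun e he =>
      ⟨(T.sect.hCA.trans inf_le_left) he, mem_modCent.2 (T.comm_E_Q e he)⟩
    rw [show a = a * k⁻¹ * k by group]
    exact mul_mem (hEK hak) ((sup_le le_rfl hEK) hk)
  exact fun v hv x hx => mem_modCent.1 (hKV v hv).2 x hx

/-- Decomposition of the fixed points of the section. -/
theorem F1_split : ∀ f ∈ nbV S Y ⊓ mate S Q σ, ∃ x ∈ mate S Y σ, ∃ y ∈ Y, ∃ e0 ∈ E,
    ⁅z, e0⁆ ∈ cenIn Y ∧ f = x * y * e0 := by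
  set V := nbV S Y
  have hEn := T.sect.Cn
  have hY1 : mate S Y σ ≤ V ⊓ mate S Q σ := T.mem_mate_Y rfl
  have hinf : ∀ x ∈ mate S Y σ, x ∈ E → x ∈ zS S := by
    intro x hx hxE
    obtain ⟨y, hy, rfl⟩ := mem_mate.1 hx
    obtain ⟨τ, g', hd, hτ⟩ := T.h.moves_next T.hml T.moves
    obtain ⟨x0, hx0, hx0Q⟩ := SetLike.not_le_iff_exists.1 hd
    obtain ⟨u, v, hu, hv, rfl⟩ := mem_img.1 hx0
    have hEτ : E ≤ mate S Q τ :=
      T.sect.hCA.trans ((T.h.moves_fix_eq T.hml T.hHS T.sect T.Y_le hτ).ge.trans inf_le_right)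
    obtain ⟨x1, hx1, hx1e⟩ := mem_mate.1 (hEτ (hEn.conj_mem _ hxE g'⁻¹))
    have h2 : Commute ((τ x1 : ↥S) : G) (τ u : ↥S) := commute_aut (T.h.commute_Y' hu hx1).symm
    rw [hx1e] at h2
    have h3 := h2.map (MulAut.conj g').toMonoidHom
    simp only [MulEquiv.coe_toMonoidHom, MulAut.conj_apply, ← hv] at h3
    rw [show g' * (g'⁻¹ * ((σ y : ↥S) : G) * g'⁻¹⁻¹) * g'⁻¹ = ((σ y : ↥S) : G) by group] at h3
    have h4 := commute_aut (σ := σ⁻¹) h3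
    rw [MulAut.inv_apply_self] at h4
    exact T.h.Z_char σ y (T.h.mem_zS_of_commute hy (σ⁻¹ v).2 hx0Q h4)
  have h1 : q ≤ E.relIndex (mate S Y σ) := by
    rw [← Subgroup.inf_relIndex_right E]
    calc q = (zS S).relIndex (mate S Y σ) :=
          ((congrArg (fun X : Subgroup G => X.relIndex _) (mate_eq_of_char T.h.Z_char inf_le_left σ).symm).trans
            ((mate_relIndex T.h.Y_S σ).trans T.h.idxY)).symm
      _ ≤ _ := Subgroup.relIndex_le_of_le_left (fun x (hx : x ∈ E ⊓ mate S Y σ) => hinf x hx.2 hx.1) (relIndex_ne_zero' _ _)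
  have h2 := Subgroup.relIndex_mul_relIndex E (mate S Y σ ⊔ E) (V ⊓ mate S Q σ) le_sup_right
    (sup_le hY1 T.sect.hCA)
  haveI := hEn
  rw [Subgroup.relIndex_sup_right, T.sect.idxA] at h2
  have h3 : (mate S Y σ ⊔ E).relIndex (V ⊓ mate S Q σ) = 1 := by
    have hp1 := Nat.pos_of_ne_zero (relIndex_ne_zero' (mate S Y σ ⊔ E) (V ⊓ mate S Q σ))
    by_contra hne
    have h5 : q * 2 ≤ E.relIndex (mate S Y σ) * (mate S Y σ ⊔ E).relIndex (V ⊓ mate S Q σ) :=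
      Nat.mul_le_mul h1 (by omega)
    have := T.h.two_le
    omega
  intro f hf
  obtain ⟨x, hx, e, he, rfl⟩ := Subgroup.mem_sup_of_normal_right.1 (Subgroup.relIndex_eq_one.1 h3 hf)
  obtain ⟨y, hy, e0, he0, hze, rfl⟩ := T.exists_fixed he
  exact ⟨x, hx, y, hy, e0, he0, hze, (mul_assoc x y e0).symm⟩

/-- The slope of an element of `S`. -/
theorem comm_Y {y : G} (hy : y ∈ Y) {s : G} (hs : s ∈ S) :
    cY ⁅y, s⁆ = ![-((RY s).1 0 1 * cY y 1), 0] := by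
  obtain ⟨a, ha⟩ := T.coord.upper s hs
  have hconj : s * y⁻¹ * s⁻¹ ∈ Y := T.h.Yn.conj_mem _ (inv_mem hy) s
  have h01 : (RY s).1 0 1 = a := by rw [ha]; exact (u_entries a).2.1
  rw [h01, show ⁅y, s⁆ = y * (s * y⁻¹ * s⁻¹) by simp only [commutatorElement_def]; group,
    T.hcY.mul y hy _ hconj, T.hcY.conj s _ (inv_mem hy), ha, T.hcY.map_inv hy]
  funext i
  fin_cases i
  · show cY y 0 + (NatSL2.u a : Matrix (Fin 2) (Fin 2) F).mulVec (-cY y) 0 = _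
    rw [(u_mulVec a _).1]
    simp
  · show cY y 1 + (NatSL2.u a : Matrix (Fin 2) (Fin 2) F).mulVec (-cY y) 1 = _
    rw [(u_mulVec a _).2]
    simp

theorem slope_s₁ : (RY s₁).1 0 1 = 1 := by rw [T.coord.one]; exact (u_entries (1 : F)).2.1

theorem slope_inv {s : G} (hs : s ∈ S) : (RY s⁻¹).1 0 1 = -(RY s).1 0 1 := by
  rw [map_inv]
  exact (Fusion.Dickson.inv_entries (RY s)).2.1

/-- Commutators of the fixed points with `S`. -/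
theorem F1_comm {f : G} (hf : f ∈ nbV S Y ⊓ mate S Q σ) {s : G} (hs : s ∈ S) :
    ⁅f, s⁆ ∈ zS S ∧ cY ⁅f, s⁆ = (RY s).1 0 1 • cY ⁅f, s₁⁆ := by
  obtain ⟨x, hx, y, hy, e0, he0, hze, rfl⟩ := T.F1_split f hf
  have key : ∀ t ∈ S, ⁅x * y * e0, t⁆ ∈ zS S ∧ cY ⁅x * y * e0, t⁆ = cY ⁅y, t⁆ := by
    intro t ht
    have h0 : ⁅e0, t⁆ ∈ cenIn Y := T.fixed_S he0 hze t ht
    have h1 : ⁅y, t⁆ ∈ zS S := T.hHS y hy t ht
    have h2 : ⁅x, t⁆ ∈ cenIn Y := by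
      obtain ⟨w, hw, a, ha, rfl⟩ :=
        (@Subgroup.mem_sup_of_normal_right _ _ _ Q T.h.Qn t).1 ((T.h.moves_sup T.hml T.moves).ge ht)
      rw [show ⁅x, w * a⁆ = ⁅x, w⁆ * (w * ⁅x, a⁆ * w⁻¹) by simp only [commutatorElement_def]; group,
        commutatorElement_eq_one_iff_commute.2 (mate_Y_commute (h := T.h) T.VleQ hx hw), one_mul]
      exact cenIn_normal.conj_mem _ (T.comm_VQ x (T.mem_mate_Y rfl hx).1 a ha) w
    have e : ⁅x * y * e0, t⁆ = ⁅e0, t⁆ * (⁅y, t⁆ * ⁅x, t⁆) := by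
      rw [show ⁅x * y * e0, t⁆ = x * y * ⁅e0, t⁆ * (x * y)⁻¹ * (x * ⁅y, t⁆ * x⁻¹ * ⁅x, t⁆) by
        simp only [commutatorElement_def]; group, Subgroup.mem_center_iff.1 h0.2 (x * y), mul_inv_cancel_right,
        ← (T.h.zS_commute h1 (T.VleS (T.mem_mate_Y rfl hx).1)).eq, mul_inv_cancel_right]
    refine ⟨e ▸ mul_mem (T.C_le_zS h0) (mul_mem h1 (T.C_le_zS h2)), ?_⟩
    have h1Y : ⁅y, t⁆ ∈ Y := T.h.Z_le h1
    rw [e, T.hcY.mul _ h0.1 _ (mul_mem h1Y h2.1), T.hcY.mul _ h1Y _ h2.1, (T.hcY.zero _ h0.1).2 h0,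
      (T.hcY.zero _ h2.1).2 h2, zero_add, add_zero]
  refine ⟨(key s hs).1, ?_⟩
  rw [(key s hs).2, (key s₁ T.hs₁).2, T.comm_Y hy hs, T.comm_Y hy T.hs₁, T.slope_s₁]
  funext i
  fin_cases i <;> simp

theorem mem_F1 {v : G} (hv : v ∈ nbV S Y) (h : cE v 1 = 0) : v ∈ nbV S Y ⊓ mate S Q σ := by
  refine T.sect.free s₁ T.hs₁ T.hs₁Q v hv ?_
  haveI := T.sect.Cn
  have hconj : s₁ * v⁻¹ * s₁⁻¹ ∈ nbV S Y := T.conj_V (inv_mem hv) s₁
  rw [show ⁅v, s₁⁆ = v * (s₁ * v⁻¹ * s₁⁻¹) by simp only [commutatorElement_def]; group,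
    ← T.hcE.zero _ (mul_mem hv hconj), T.hcE.mul v hv _ hconj, T.hcE.conj s₁ _ (inv_mem hv), T.coordE.one,
    T.hcE.map_inv hv]
  funext i
  fin_cases i
  · show cE v 0 + (NatSL2.u (1 : F) : Matrix (Fin 2) (Fin 2) F).mulVec (-cE v) 0 = 0
    rw [(u_mulVec 1 _).1]
    simp [h]
  · show cE v 1 + (NatSL2.u (1 : F) : Matrix (Fin 2) (Fin 2) F).mulVec (-cE v) 1 = 0
    rw [(u_mulVec 1 _).2]
    simp

theorem F1_second {f : G} (hf : f ∈ nbV S Y ⊓ mate S Q σ) : cE f 1 = 0 := by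
  have h1 : ⁅f, s₁⁆ ∈ E := T.sect.fix s₁ T.hs₁ f hf
  have hconj : s₁ * f⁻¹ * s₁⁻¹ ∈ nbV S Y := T.conj_V (inv_mem hf.1) s₁
  rw [show ⁅f, s₁⁆ = f * (s₁ * f⁻¹ * s₁⁻¹) by simp only [commutatorElement_def]; group,
    ← T.hcE.zero _ (mul_mem hf.1 hconj), T.hcE.mul f hf.1 _ hconj, T.hcE.conj s₁ _ (inv_mem hf.1), T.coordE.one,
    T.hcE.map_inv hf.1] at h1
  have h2 := congrFun h1 0
  rw [Pi.add_apply, (u_mulVec 1 _).1] at h2
  simp only [Pi.neg_apply, Pi.zero_apply] at h2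
  linear_combination -h2

theorem comm_F1 {v : G} (hv : v ∈ nbV S Y) {s : G} (hs : s ∈ S) : ⁅v, s⁆ ∈ nbV S Y ⊓ mate S Q σ := by
  refine T.mem_F1 (T.comm_V hv s) ?_
  obtain ⟨a, ha⟩ := T.coordE.upper s hs
  have hconj : s * v⁻¹ * s⁻¹ ∈ nbV S Y := T.conj_V (inv_mem hv) s
  rw [show ⁅v, s⁆ = v * (s * v⁻¹ * s⁻¹) by simp only [commutatorElement_def]; group,
    T.hcE.mul v hv _ hconj, T.hcE.conj s _ (inv_mem hv), ha, Pi.add_apply, (u_mulVec a _).2,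
    T.hcE.map_inv hv, Pi.neg_apply, add_neg_cancel]

theorem triple_zS {v : G} (hv : v ∈ nbV S Y) {s s' : G} (hs : s ∈ S) (hs' : s' ∈ S) :
    ⁅⁅v, s⁆, s'⁆ ∈ zS S := (T.F1_comm (T.comm_F1 hv hs) hs').1

theorem triple_symm {v : G} (hv : v ∈ nbV S Y) {s s' : G} (hs : s ∈ S) (hs' : s' ∈ S) :
    cY ⁅⁅v, s⁆, s'⁆ = cY ⁅⁅v, s'⁆, s⁆ := by
  haveI : (cenIn Y).Normal := cenIn_normal
  set π := QuotientGroup.mk' (cenIn Y)
  have hπ : ∀ x, π x = 1 ↔ x ∈ cenIn Y := fun x => QuotientGroup.eq_one_iff x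
  set t := ⁅v, s⁆
  set t' := ⁅v, s'⁆
  set κ := ⁅s⁻¹, s'⁻¹⁆ with hκ
  have hκQ : κ ∈ Q := T.coord.comm_mem T.hker (inv_mem hs) (inv_mem hs')
  have e : s * s' = s' * s * κ := by rw [hκ, commutatorElement_def]; group
  have h1 : π ⁅v, s * s'⁆ = π ⁅v, s' * s⁆ := by
    rw [e, show ⁅v, s' * s * κ⁆ = ⁅v, s' * s⁆ * (s' * s * ⁅v, κ⁆ * (s' * s)⁻¹) by
      simp only [commutatorElement_def]; group, map_mul,
      (hπ _).2 (cenIn_normal.conj_mem _ (T.comm_VQ v hv κ hκQ) _), mul_one]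
  have e1 : ∀ a b : G, ⁅v, a * b⁆ = ⁅v, a⁆ * (⁅⁅v, b⁆, a⁆⁻¹ * ⁅v, b⁆) := fun a b => by
    simp only [commutatorElement_def]; group
  rw [e1, e1, map_mul, map_mul, map_mul, map_mul, map_inv, map_inv] at h1
  have hcz : ∀ u ∈ zS S, ∀ x ∈ S, Commute (π u)⁻¹ (π x) := fun u hu x hx =>
    ((T.h.zS_commute hu hx).map π).inv_left
  have htt : Commute (π t) (π t') := by
    rw [← commutatorElement_eq_one_iff_commute, ← map_commutatorElement, hπ]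
    exact T.hVV _ (T.comm_V hv s) _ (T.comm_V hv s')
  have hu := T.triple_zS hv hs' hs
  have hw := T.triple_zS hv hs hs'
  have htS : t ∈ S := T.VleS (T.comm_V hv s)
  have htS' : t' ∈ S := T.VleS (T.comm_V hv s')
  have h2 : (π ⁅t', s⁆)⁻¹ * (π t * π t') = (π ⁅t, s'⁆)⁻¹ * (π t * π t') := by
    calc (π ⁅t', s⁆)⁻¹ * (π t * π t') = π t * ((π ⁅t', s⁆)⁻¹ * π t') := by
          rw [← mul_assoc, (hcz _ hu t htS).eq, mul_assoc]
      _ = π t' * ((π ⁅t, s'⁆)⁻¹ * π t) := h1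
      _ = _ := by rw [← mul_assoc, ← (hcz _ hw t' htS').eq, mul_assoc, ← htt.eq]
  have h3 : π ⁅t', s⁆ = π ⁅t, s'⁆ := inv_injective (mul_right_cancel h2)
  rw [T.hcY.eq_iff (T.h.Z_le hw) (T.h.Z_le hu), ← hπ, map_mul, map_inv, h3, mul_inv_cancel]

/-- The cubic form. -/
theorem triple {v : G} (hv : v ∈ nbV S Y) {s s' : G} (hs : s ∈ S) (hs' : s' ∈ S) :
    cY ⁅⁅v, s⁆, s'⁆ = ((RY s).1 0 1 * (RY s').1 0 1) • cY ⁅⁅v, s₁⁆, s₁⁆ := by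
  rw [(T.F1_comm (T.comm_F1 hv hs) hs').2, T.triple_symm hv hs T.hs₁,
    (T.F1_comm (T.comm_F1 hv T.hs₁) hs).2, smul_smul, mul_comm]

theorem triple_mul {a b : G} (ha : a ∈ nbV S Y) (hb : b ∈ nbV S Y) {s s' : G} (hs : s ∈ S) (hs' : s' ∈ S) :
    cY ⁅⁅a * b, s⁆, s'⁆ = cY ⁅⁅a, s⁆, s'⁆ + cY ⁅⁅b, s⁆, s'⁆ := by
  set ta := ⁅a, s⁆
  set tb := ⁅b, s⁆
  have hc : ⁅a, tb⁆ ∈ cenIn Y := T.hVV _ ha _ (T.comm_V hb s)
  have e1 : ⁅a * b, s⁆ = ⁅a, tb⁆ * (tb * ta) := by simp only [ta, tb, commutatorElement_def]; group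
  have hk : ∀ x, Commute ⁅a, tb⁆ x := fun x => (Subgroup.mem_center_iff.1 hc.2 x).symm
  have hua := T.triple_zS ha hs hs'
  have hub := T.triple_zS hb hs hs'
  have htb : tb ∈ S := T.VleS (T.comm_V hb s)
  rw [e1]
  generalize ⁅a, tb⁆ = k at hk
  rw [show ⁅k * (tb * ta), s'⁆ = k * ((tb * ta) * s' * (tb * ta)⁻¹) * k⁻¹ * s'⁻¹ by
      simp only [commutatorElement_def]; group, (hk _).eq, mul_inv_cancel_right,
    show tb * ta * s' * (tb * ta)⁻¹ * s'⁻¹ = tb * ⁅ta, s'⁆ * tb⁻¹ * ⁅tb, s'⁆ by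
      simp only [commutatorElement_def]; group, ← (T.h.zS_commute hua htb).eq, mul_inv_cancel_right,
    T.hcY.mul _ (T.h.Z_le hua) _ (T.h.Z_le hub)]

theorem triple_F1 {f : G} (hf : f ∈ nbV S Y ⊓ mate S Q σ) {s s' : G} (hs : s ∈ S) (hs' : s' ∈ S) :
    cY ⁅⁅f, s⁆, s'⁆ = 0 := by
  rw [commutatorElement_eq_one_iff_commute.2 (T.h.zS_commute (T.F1_comm hf hs).1 hs'),
    T.hcY.zero 1 (one_mem _)]
  exact one_mem _

end TwoFrame

end Cfsg.Agent.PushUp
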