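import Cfsg.Agent.Lib.PushUp.BTwoMoves
import Cfsg.Agent.Lib.PushUp.YSection

/-!
# The frame of a moving automorphism at a critical path of two edges
-/

set_option autoImplicit false

open scoped commutatorElement

namespace Cfsg.Agent.PushUp

open Cfsg Cfsg.Agent.Small

universe u w

variable {G : Type u} [Group G] {S Q Y M : Subgroup G} {p q : ℕ}

/-- The second section at a moving automorphism. -/
theorem PUp.moves_level [Finite G] (h : PUp S Q Y M p q) (hml : ∀ σ, mate S Y σ ≤ Q)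
    (hMS : M ≤ Subgroup.normalizer (S : Set G)) (hHS : ∀ y ∈ Y, ∀ s ∈ S, ⁅y, s⁆ ∈ zS S) {σ : MulAut ↥S} (hσ : ¬ mate S (nbV S Y) σ ≤ Q) :
    ∃ E N : Subgroup G, TwoLevel S Q Y M q (nbV S Y) E (nbV S Y ⊓ mate S Q σ) N := by
  haveI := h.Qn; haveI := h.Yn
  obtain ⟨τ₁, g₁, hW⟩ := h.exists_img hml hσ
  obtain ⟨τ, g, hd, hτ⟩ := h.moves_next hml hσ
  obtain ⟨τ₂, g₂, hW0⟩ := h.exists_img hml hτ
  have hZσ : ∀ ρ, mate S (zS S) ρ = zS S := fun ρ => mate_eq_of_char h.Z_char inf_le_left ρ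
  have hgM : g ∉ M := fun hgM => hd (h.img_le_of_mem hml hMS hgM σ⁻¹ τ)
  refine two_section_eq (Y1 := mate S Y σ) (W := img S Y σ τ₁ g₁)
    (Yd := (mate S Y τ).map (MulAut.conj g).toMonoidHom)
    (Qd := (mate S Q τ).map (MulAut.conj g).toMonoidHom)
    (W0 := (img S Y τ τ₂ g₂).map (MulAut.conj g).toMonoidHom) h hgM
    { mate_le := hml
      center := hHS
      Y1_nb := fun y hy => Subgroup.mem_iSup_of_mem (σ, 1) ⟨y, hy, by simp⟩
      Q1_le := mate_le_S _ σ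
      Q1_idx := (congrArg _ (mate_S σ).symm).trans ((mate_relIndex le_rfl σ).trans h.idxS)
      Y1_le := mate_mono h.Y_le σ
      Y1_idx := (congrArg (fun X : Subgroup G => X.relIndex _) (hZσ σ).symm).trans
        ((mate_relIndex h.Y_S σ).trans h.idxY)
      W_le := mate_le_S _ σ
      W_sup := by rw [sup_comm]; exact (h.img_sup hml hW).ge
      W_comm := h.img_comm hml hW
      Qd_le := Subgroup.map_mono (mate_le_S _ τ)
      Qd_idx := ?_
      Qd_cent := ?_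
      W0_sup := ?_
      Qd_comm := ?_
      sep := ?_ }
  · rw [Subgroup.relIndex_map_map_of_injective (f := (MulAut.conj g).toMonoidHom) _ _ (MulAut.conj g).injective]
    exact (congrArg _ (mate_S τ).symm).trans ((mate_relIndex le_rfl τ).trans h.idxS)
  · rintro _ ⟨x, hx, rfl⟩ _ ⟨y, hy, rfl⟩
    obtain ⟨x', hx', rfl⟩ := mem_mate.1 hx
    obtain ⟨y', hy', rfl⟩ := mem_mate.1 hy
    rw [← map_mul, ← map_mul, (commute_aut (σ := τ) (h.commute_Y' hy' hx')).eq]
  · refine le_trans (Subgroup.map_mono (h.img_sup hml hW0).ge) ?_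
    rw [Subgroup.map_sup, sup_comm]
    exact sup_le_sup_right (by rintro _ ⟨x, hx, rfl⟩; exact h.Qn.conj_mem x hx g) _
  · rintro _ ⟨x, hx, rfl⟩ _ ⟨w, hw, rfl⟩
    rw [← map_commutatorElement]
    exact h.Yn.conj_mem _ (h.img_comm hml hW0 x hx w hw) g
  · intro u hu hcu
    obtain ⟨y, hy, rfl⟩ := mem_mate.1 hu
    obtain ⟨x, hx, hxQ⟩ := SetLike.not_le_iff_exists.1 hd
    obtain ⟨u', v, hu', hv, rfl⟩ := mem_img.1 hx
    refine h.Z_char σ y (h.mem_zS_of_commute hy (σ⁻¹ v).2 hxQ ?_)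
    have h1 : Commute ((σ y : ↥S) : G) (v : G) := hcu v ⟨_, apply_mem_mate_iff.2 hu', hv.symm⟩
    have h2 := commute_aut (σ := σ⁻¹) h1
    rwa [MulAut.inv_apply_self] at h2

end Cfsg.Agent.PushUp
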