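import Cfsg.Agent.Lib.PushUp.BTwo
import Cfsg.Agent.Lib.PushUp.BOneClass

/-!
# Automorphisms moving the conjugates of the images of `Y` out of the core
-/

set_option autoImplicit false

open scoped commutatorElement

namespace Cfsg.Agent.PushUp

open Cfsg

universe u

variable {G : Type u} [Group G] {S Q Y M : Subgroup G} {p q : ℕ}

/-- A conjugate of an automorphic image, moved by an automorphism. -/
abbrev img (S Y : Subgroup G) (σ τ : MulAut ↥S) (g : G) : Subgroup G :=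
  mate S ((mate S Y τ).map (MulAut.conj g).toMonoidHom) σ

theorem mem_img {σ τ : MulAut ↥S} {g x : G} : x ∈ img S Y σ τ g ↔
    ∃ u v : ↥S, (u : G) ∈ Y ∧ (v : G) = g * (τ u : ↥S) * g⁻¹ ∧ (σ v : G) = x := by
  rw [mem_mate]
  constructor
  · rintro ⟨v, ⟨a, ha, hav⟩, e⟩
    obtain ⟨u, hu, rfl⟩ := mem_mate.1 ha
    exact ⟨u, v, hu, hav.symm, e⟩
  · rintro ⟨u, v, hu, hv, e⟩
    exact ⟨v, ⟨_, apply_mem_mate_iff.2 hu, hv.symm⟩, e⟩

theorem piece_le_nbV (τ : MulAut ↥S) (g : G) :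
    (mate S Y τ).map (MulAut.conj g).toMonoidHom ≤ nbV S Y :=
  le_iSup (fun i : MulAut ↥S × G => (mate S Y i.1).map (MulAut.conj i.2).toMonoidHom) (τ, g)

namespace PUp

variable [Finite G] (h : PUp S Q Y M p q)
include h

theorem Y_not_le_zS : ¬ Y ≤ zS S := fun hle => by
  have := h.idxY
  rw [Subgroup.relIndex_eq_one.2 hle] at this
  have := h.two_le
  omega

theorem commute_Y' {y x : G} (hy : y ∈ Y) (hx : x ∈ Q) : Commute y x :=
  Subgroup.mem_centralizer_iff.1 (h.Q_cent hx) y hy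

theorem mem_zS_of_commute {y s : G} (hy : y ∈ Y) (hs : s ∈ S) (hsQ : s ∉ Q) (hc : Commute y s) : y ∈ zS S :=
  h.cent s hs hsQ y hy (by rw [commutatorElement_eq_one_iff_commute.2 hc]; exact one_mem _)

variable (hml : ∀ σ, mate S Y σ ≤ Q)
include hml

theorem nbV_le : nbV S Y ≤ Q := iSup_le fun i => by
  rintro _ ⟨x, hx, rfl⟩
  exact h.Qn.conj_mem x (hml i.1 hx) i.2

theorem piece_mem {τ : MulAut ↥S} {u : ↥S} (hu : (u : G) ∈ Y) (g : G) : g * (τ u : ↥S) * g⁻¹ ∈ Q :=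
  h.Qn.conj_mem _ (hml τ (apply_mem_mate_iff.2 hu)) g

/-- The commuting of the two ends, read at either of them. -/
theorem commute_swap {σ τ : MulAut ↥S} {g : G} {u v y w : ↥S} (hv : (v : G) = g * (τ u : ↥S) * g⁻¹)
    (hw : (w : G) = g⁻¹ * (σ⁻¹ y : ↥S) * g⁻¹⁻¹) :
    Commute (u : G) (τ⁻¹ w : ↥S) ↔ Commute (y : G) (σ v : ↥S) := by
  have h1 : Commute (u : G) (τ⁻¹ w : ↥S) ↔ Commute ((τ u : ↥S) : G) (w : G) := by
    constructor
    · intro hc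
      have := commute_aut (σ := τ) hc
      rwa [MulAut.apply_inv_self] at this
    · intro hc
      have := commute_aut (σ := τ⁻¹) hc
      rwa [MulAut.inv_apply_self] at this
  have h2 : Commute (y : G) (σ v : ↥S) ↔ Commute ((σ⁻¹ y : ↥S) : G) (v : G) := by
    constructor
    · intro hc
      have := commute_aut (σ := σ⁻¹) hc
      rwa [MulAut.inv_apply_self] at this
    · intro hc
      have := commute_aut (σ := σ) hc
      rwa [MulAut.apply_inv_self] at this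
  rw [h1, h2, hv, hw]
  constructor
  · intro hc
    have := hc.symm.map (MulAut.conj g).toMonoidHom
    simpa [MulAut.conj_apply, mul_assoc] using this
  · intro hc
    have := hc.symm.map (MulAut.conj g⁻¹).toMonoidHom
    simpa [MulAut.conj_apply, mul_assoc] using this

/-- The preimages in `S` of a member of `img`. -/
theorem exists_piece (τ : MulAut ↥S) (g : G) {u : ↥S} (hu : (u : G) ∈ Y) :
    ∃ v : ↥S, (v : G) = g * (τ u : ↥S) * g⁻¹ :=
  ⟨⟨_, h.Q_le (h.piece_mem hml hu g)⟩, rfl⟩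

theorem swap {σ τ : MulAut ↥S} {g : G} (hσ : ¬ img S Y σ τ g ≤ Q) : ¬ img S Y τ⁻¹ σ⁻¹ g⁻¹ ≤ Q := by
  intro hle
  obtain ⟨x, hx, hxQ⟩ := SetLike.not_le_iff_exists.1 hσ
  obtain ⟨u, v, hu, hv, rfl⟩ := mem_img.1 hx
  refine h.Y_not_le_zS fun y hy => h.mem_zS_of_commute hy (σ v).2 hxQ ?_
  obtain ⟨w, hw⟩ := h.exists_piece hml σ⁻¹ g⁻¹ (u := ⟨y, h.Y_S hy⟩) hy
  have hwQ : ((τ⁻¹ w : ↥S) : G) ∈ Q := hle (mem_img.2 ⟨⟨y, h.Y_S hy⟩, w, hy, hw, rfl⟩)
  exact (h.commute_swap hml (σ := σ) (τ := τ) hv hw).1 (h.commute_Y' hu hwQ)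

theorem img_sup {σ τ : MulAut ↥S} {g : G} (hσ : ¬ img S Y σ τ g ≤ Q) : img S Y σ τ g ⊔ Q = S := by
  haveI := h.Qn
  set W := img S Y σ τ g
  set Z' := img S (zS S) σ τ g
  obtain ⟨b, hb, hbQ⟩ := SetLike.not_le_iff_exists.1 (h.swap hml hσ)
  obtain ⟨y, w, hy, hw, rfl⟩ := mem_img.1 hb
  have hWQ : W ⊓ Q ≤ Z' := by
    rintro _ ⟨hx, hxQ⟩
    obtain ⟨u, v, hu, hv, rfl⟩ := mem_img.1 hx
    exact mem_img.2 ⟨u, v, h.mem_zS_of_commute hu (τ⁻¹ w).2 hbQ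
      ((h.commute_swap hml hv hw).2 (h.commute_Y' hy hxQ)), hv, rfl⟩
  have hpS : (mate S Y τ).map (MulAut.conj g).toMonoidHom ≤ S :=
    (piece_le_nbV τ g).trans ((h.nbV_le hml).trans h.Q_le)
  have hi : Z'.relIndex W = q := by
    refine (mate_relIndex hpS σ).trans ?_
    rw [Subgroup.relIndex_map_map_of_injective (f := (MulAut.conj g).toMonoidHom) _ _ (MulAut.conj g).injective,
      mate_relIndex h.Y_S τ, h.idxY]
  have h1 : q ≤ Q.relIndex W := by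
    rw [← hi, ← Subgroup.inf_relIndex_right Q W]
    exact Subgroup.relIndex_le_of_le_left (inf_comm Q W ▸ hWQ) (relIndex_ne_zero' _ _)
  refine le_antisymm (sup_le (mate_le_S _ σ) h.Q_le) ?_
  have h2 := Subgroup.relIndex_mul_relIndex Q (W ⊔ Q) S le_sup_right (sup_le (mate_le_S _ σ) h.Q_le)
  rw [Subgroup.relIndex_sup_right, h.idxS] at h2
  refine Subgroup.relIndex_eq_one.1 ?_
  have h3 := Nat.pos_of_ne_zero (relIndex_ne_zero' (W ⊔ Q) S)
  by_contra hne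
  have h4 : q * 2 ≤ Q.relIndex W * (W ⊔ Q).relIndex S := Nat.mul_le_mul h1 (by omega)
  have := h.two_le
  omega

theorem img_comm {σ τ : MulAut ↥S} {g : G} (hσ : ¬ img S Y σ τ g ≤ Q) :
    ∀ x ∈ mate S Q σ, ∀ w ∈ img S Y σ τ g, ⁅x, w⁆ ∈ Y := by
  intro x hx w hw
  haveI := h.Qn; haveI := h.Yn
  obtain ⟨x0, hx0, rfl⟩ := mem_mate.1 hx
  obtain ⟨u, v, hu, hv, rfl⟩ := mem_img.1 hw
  -- split the element at the other end
  let x1 : ↥S := ⟨g⁻¹ * x0 * g, h.Q_le (by simpa using h.Qn.conj_mem _ hx0 g⁻¹)⟩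
  obtain ⟨b, hb, q0, hq0, e⟩ :=
    Subgroup.mem_sup_of_normal_right.1 ((h.img_sup hml (h.swap hml hσ)).ge (τ⁻¹ x1).2)
  obtain ⟨y, z, hy, hz, rfl⟩ := mem_img.1 hb
  have e1 : τ⁻¹ z * ⟨q0, h.Q_le hq0⟩ = τ⁻¹ x1 := Subtype.ext e
  have hc : Commute u ⟨q0, h.Q_le hq0⟩ := Subtype.ext (h.commute_Y' hu hq0).eq
  have e2 : ⁅x1, τ u⁆ = ⁅z, τ u⁆ := by
    have e3 := congrArg τ e1
    rw [map_mul, MulAut.apply_inv_self, MulAut.apply_inv_self] at e3
    rw [← e3, show ⁅z * τ ⟨q0, h.Q_le hq0⟩, τ u⁆ = z * ⁅τ ⟨q0, h.Q_le hq0⟩, τ u⁆ * z⁻¹ * ⁅z, τ u⁆ by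
      simp only [commutatorElement_def]; group, commutatorElement_eq_one_iff_commute.2 (show Commute (τ ⟨q0, h.Q_le hq0⟩) (τ u) from hc.symm.map τ.toMonoidHom)]
    group
  have e4 : ⁅x0, v⁆ = ⁅σ⁻¹ y, v⁆ := by
    apply Subtype.ext
    have e5 : g * (⁅x1, τ u⁆ : ↥S).1 * g⁻¹ = g * (⁅z, τ u⁆ : ↥S).1 * g⁻¹ := by rw [e2]
    simp only [commutatorElement_def, Subgroup.coe_mul, Subgroup.coe_inv, x1, hz, hv] at e5 ⊢
    simpa [mul_assoc] using e5
  have e6 := congrArg σ e4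
  rw [map_commutatorElement, map_commutatorElement, MulAut.apply_inv_self] at e6
  have e7 : ⁅((σ x0 : ↥S) : G), ((σ v : ↥S) : G)⁆ = ⁅(y : G), ((σ v : ↥S) : G)⁆ := congrArg Subtype.val e6
  rw [e7, commutatorElement_def, mul_assoc (y : G), mul_assoc (y : G)]
  exact mul_mem hy (h.Yn.conj_mem _ (inv_mem hy) _)

theorem exists_img {σ : MulAut ↥S} (hσ : ¬ mate S (nbV S Y) σ ≤ Q) : ∃ τ g, ¬ img S Y σ τ g ≤ Q := by
  by_contra hcon
  simp only [not_exists, not_not] at hcon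
  refine hσ ?_
  rintro x hx
  obtain ⟨a, ha, rfl⟩ := mem_mate.1 hx
  have key : nbV S Y ≤ ((Q.subgroupOf S).comap σ.toMonoidHom).map S.subtype := iSup_le fun i => by
    intro z hz
    have hzS : z ∈ S := h.Q_le (h.nbV_le hml (piece_le_nbV i.1 i.2 hz))
    exact ⟨⟨z, hzS⟩, hcon i.1 i.2 (apply_mem_mate_iff.2 hz), rfl⟩
  obtain ⟨b, hb, e⟩ := key ha
  obtain rfl : b = a := Subtype.ext e
  exact hb

omit hml in
theorem moves_of_img {σ τ : MulAut ↥S} {g : G} (hσ : ¬ img S Y σ τ g ≤ Q) : ¬ mate S (nbV S Y) σ ≤ Q :=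
  fun hle => hσ ((mate_mono (piece_le_nbV τ g) σ).trans hle)

theorem moves_inv {σ : MulAut ↥S} (hσ : ¬ mate S (nbV S Y) σ ≤ Q) : ¬ mate S (nbV S Y) σ⁻¹ ≤ Q := by
  intro hle
  haveI := h.Yn
  obtain ⟨τ, g, hW⟩ := h.exists_img hml hσ
  obtain ⟨w, hw, hwQ⟩ := SetLike.not_le_iff_exists.1 hW
  obtain ⟨g0, hg0⟩ := h.exists_not_mem_M
  haveI hVn : (nbV S Y).Normal := nbV_normal
  set U := autClosure S Y
  set c := (MulAut.conj g0).toMonoidHom
  have hUV : U ≤ nbV S Y := iSup_le fun τ x hx => Subgroup.mem_iSup_of_mem (τ, 1) ⟨x, hx, by simp⟩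
  have hYU : ∀ y ∈ Y, y ∈ U.map c := fun y hy =>
    ⟨g0⁻¹ * y * g0, le_autClosure Y h.Y_S (by simpa using h.Yn.conj_mem y hy g0⁻¹), by simp [c, mul_assoc]⟩
  have hUQ : U.map c ≤ mate S Q σ := by
    rintro _ ⟨x, hx, rfl⟩
    have h1 : c x ∈ nbV S Y := hVn.conj_mem x (hUV hx) g0
    refine (mate_apply_inv (x := ⟨c x, h.Q_le (h.nbV_le hml h1)⟩)).2 (hle ?_)
    exact apply_mem_mate_iff.2 h1
  have hwN : w ∈ Subgroup.normalizer ((U.map c : Subgroup G) : Set G) := mem_normalizer_iff_cj_le.2 (by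
    rintro _ ⟨x, hx, rfl⟩
    show w * x * w⁻¹ ∈ U.map c
    rw [show w * x * w⁻¹ = ⁅x, w⁆⁻¹ * x by simp only [commutatorElement_def]; group]
    exact mul_mem (inv_mem (hYU _ (h.img_comm hml hW x (hUQ hx) w hw))) hx)
  have htop : (Subgroup.normalizer ((U.map c : Subgroup G) : Set G)).comap c = ⊤ := by
    refine h.top _ (fun s hs => ?_) fun hc => ?_
    · refine mem_normalizer_iff_cj_le.2 ?_
      rintro _ ⟨_, ⟨x, hx, rfl⟩, rfl⟩
      refine ⟨s * x * s⁻¹, ?_, by simp [c, mul_assoc]⟩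
      exact autClosure_char S Y (MulAut.conj ⟨s, hs⟩) ⟨x, autClosure_le S Y hx⟩ hx
    · have h1 : g0⁻¹ * w * g0 ∈ M := hc (by
        show g0 * (g0⁻¹ * w * g0) * g0⁻¹ ∈ Subgroup.normalizer ((U.map c : Subgroup G) : Set G)
        simpa [mul_assoc] using hwN)
      have h2 := h.ti g0⁻¹ (fun h' => hg0 (by simpa using inv_mem h')) _ h1
        (by simpa [mul_assoc] using mate_le_S _ σ hw)
      exact hwQ (by simpa [mul_assoc] using h.Qn.conj_mem _ h2 g0)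
  have hn : U.Normal := by
    refine ⟨fun x hx y => ?_⟩
    obtain ⟨z, hz, e⟩ := (Subgroup.mem_normalizer_iff.1 (htop.ge (Subgroup.mem_top y)) (c x)).1 ⟨x, hx, rfl⟩
    rw [← map_inv, ← map_mul, ← map_mul] at e
    exact (MulAut.conj g0).injective e ▸ hz
  exact h.Y_not_le_zS (((le_autClosure Y h.Y_S).trans
    (eq_bot_of_hd h.hd (autClosure_le S Y) hn (autClosure_char S Y)).le).trans bot_le)

/-- The far side of a moving automorphism. -/
theorem moves_next {σ : MulAut ↥S} (hσ : ¬ mate S (nbV S Y) σ ≤ Q) :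
    ∃ τ g, ¬ img S Y σ⁻¹ τ g ≤ Q ∧ ¬ mate S (nbV S Y) τ ≤ Q := by
  obtain ⟨τ, g, h1⟩ := h.exists_img hml (h.moves_inv hml hσ)
  refine ⟨τ, g, h1, ?_⟩
  have h2 := h.moves_inv hml (h.moves_of_img (h.swap hml h1))
  rwa [inv_inv] at h2

theorem img_le_of_mem (hMS : M ≤ Subgroup.normalizer (S : Set G)) {g : G} (hgM : g ∈ M) (σ τ : MulAut ↥S) :
    img S Y σ τ g ≤ Q := by
  intro x hx
  obtain ⟨u, v, hu, hv, rfl⟩ := mem_img.1 hx
  have hn := hMS hgM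
  let ρ : MulAut ↥S :=
    { toFun := fun s => ⟨g * s * g⁻¹, (Subgroup.mem_normalizer_iff.1 hn _).1 s.2⟩
      invFun := fun s => ⟨g⁻¹ * s * g, by
        simpa using (Subgroup.mem_normalizer_iff.1 (inv_mem hn) (s : G)).1 s.2⟩
      left_inv := fun s => Subtype.ext (by simp [mul_assoc])
      right_inv := fun s => Subtype.ext (by simp [mul_assoc])
      map_mul' := fun s t => Subtype.ext (by simp [mul_assoc]) }
  have e : v = ρ (τ u) := Subtype.ext hv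
  rw [e]
  exact hml (σ * (ρ * τ)) (mem_mate.2 ⟨u, hu, rfl⟩)

/-- The conjugates of the images of `Y` commute modulo the centre. -/
theorem piece_comm (hMS : M ≤ Subgroup.normalizer (S : Set G)) (σ τ : MulAut ↥S) (g : G) :
    ∀ a ∈ mate S Y σ, ∀ b ∈ (mate S Y τ).map (MulAut.conj g).toMonoidHom, ⁅a, b⁆ ∈ cenIn Y := by
  intro a ha b hb
  obtain ⟨y, hy, rfl⟩ := mem_mate.1 ha
  obtain ⟨_, hb', rfl⟩ := hb
  obtain ⟨u, hu, rfl⟩ := mem_mate.1 hb'
  obtain ⟨v, hv⟩ := h.exists_piece hml τ g hu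
  show ⁅(σ y : G), g * (τ u : ↥S) * g⁻¹⁆ ∈ cenIn Y
  rw [← hv]
  by_cases hW : img S Y σ⁻¹ τ g ≤ Q
  · have h1 : Commute (y : G) (σ⁻¹ v : ↥S) := h.commute_Y' hy (hW (mem_img.2 ⟨u, v, hu, hv, rfl⟩))
    have h2 := commute_aut (σ := σ) h1
    rw [MulAut.apply_inv_self] at h2
    rw [commutatorElement_eq_one_iff_commute.2 h2]
    exact one_mem _
  haveI := h.Yn
  have hg : g ∉ M := fun hgM => hW (h.img_le_of_mem hml hMS hgM σ⁻¹ τ)
  have hcc : (⁅σ y, v⁆ : ↥S).1 = ⁅(σ y : G), (v : G)⁆ := rfl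
  -- at the first end
  set c := ⁅σ y, v⁆
  have hcY : ((σ⁻¹ c : ↥S) : G) ∈ Y := by
    simp only [c, map_commutatorElement, MulAut.inv_apply_self]
    show ⁅(y : G), ((σ⁻¹ v : ↥S) : G)⁆ ∈ Y
    rw [commutatorElement_def, mul_assoc (y : G), mul_assoc (y : G)]
    exact mul_mem hy (h.Yn.conj_mem _ (inv_mem hy) _)
  -- at the second end
  obtain ⟨u', hu', hcu⟩ : ∃ u' : ↥S, (u' : G) ∈ Y ∧ (c : G) = g * (τ u' : ↥S) * g⁻¹ := by
    let s : ↥S := ⟨g⁻¹ * (σ y : ↥S) * g, h.Q_le (by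
      simpa using h.Qn.conj_mem _ (hml σ (apply_mem_mate_iff.2 hy)) g⁻¹)⟩
    refine ⟨⁅τ⁻¹ s, u⁆, ?_, ?_⟩
    · show ⁅((τ⁻¹ s : ↥S) : G), (u : G)⁆ ∈ Y
      rw [commutatorElement_def]
      exact mul_mem (h.Yn.conj_mem _ hu _) (inv_mem hu)
    · rw [map_commutatorElement, MulAut.apply_inv_self]
      simp only [c, commutatorElement_def, Subgroup.coe_mul, Subgroup.coe_inv, s, hv]
      group
  rw [← hcc]
  refine h.mem_cenIn hg ?_ ?_
  · obtain ⟨x0, hx0, hx0Q⟩ := SetLike.not_le_iff_exists.1 hW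
    obtain ⟨u0, v0, hu0, hv0, rfl⟩ := mem_img.1 hx0
    have h1 : Commute (τ u' : G) (τ u0 : G) := commute_aut (h.commute_Y' hu' (h.Y_le hu0))
    have h2 := h1.map (MulAut.conj g).toMonoidHom
    simp only [MulEquiv.coe_toMonoidHom, MulAut.conj_apply, ← hcu, ← hv0] at h2
    have h3 := h.Z_char σ _ (h.mem_zS_of_commute hcY (σ⁻¹ v0).2 hx0Q (commute_aut h2))
    rwa [MulAut.apply_inv_self] at h3
  · obtain ⟨b, hb, hbQ⟩ := SetLike.not_le_iff_exists.1 (h.swap hml hW)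
    obtain ⟨y', w, hy', hw, rfl⟩ := mem_img.1 hb
    have h1 : (u' : G) ∈ zS S := h.mem_zS_of_commute hu' (τ⁻¹ w).2 hbQ
      ((h.commute_swap hml hcu hw).2 (h.commute_Y' hy' (h.Y_le hcY)))
    rw [hcu]
    simpa [mul_assoc] using h.Z_char τ u' h1

theorem nbV_comm (hMS : M ≤ Subgroup.normalizer (S : Set G)) :
    ∀ a ∈ nbV S Y, ∀ b ∈ nbV S Y, ⁅a, b⁆ ∈ cenIn Y := by
  haveI : (cenIn Y).Normal := cenIn_normal
  have hle : nbV S Y ≤ modCent (cenIn Y) (nbV S Y) := iSup_le fun j => le_modCent_symm <| iSup_le fun i x hx =>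
    mem_modCent.2 fun y hy => by
      obtain ⟨a, ha, rfl⟩ := hx
      obtain ⟨b, hb, rfl⟩ := hy
      have h1 := h.piece_comm hml hMS i.1 j.1 (i.2⁻¹ * j.2) a ha _ ⟨b, hb, rfl⟩
      have h2 := (cenIn_normal (Y := Y)).conj_mem _ h1 i.2
      simpa [commutatorElement_def, mul_assoc] using h2
  exact fun a ha b hb => mem_modCent.1 (hle ha) b hb

end PUp

/-- A critical path of two edges gives an automorphism moving `V` out of the core. -/
theorem PUp.exists_moves [Finite G] (h : PUp S Q Y M p q) (hmin : ShortPaths Q Y 2 S) {d : ℕ → Dart S}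
    (hc : Crit Q Y 2 d) : ∃ σ, ¬ mate S (nbV S Y) σ ≤ Q := by
  have hb : 2 ≤ 2 := le_rfl
  obtain ⟨x, hx, hxQ⟩ := SetLike.not_le_iff_exists.1 (h.not_le' hmin hb hc)
  obtain ⟨hl, g, hf⟩ := hc.chain 0 (by omega)
  refine ⟨(d 0).l * (d 0).r⁻¹, fun hle => hxQ ?_⟩
  change x ∈ Y.map (emb (d 1).f (d 1).r) at hx
  rw [hf, map_emb_conj_mate _ (d 0).r (d 1).r g h.Y_S] at hx
  have hV : (mate S Y ((d 0).r * (d 1).r⁻¹)).map (MulAut.conj g).toMonoidHom ≤ nbV S Y := piece_le_nbV _ _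
  have hVS : nbV S Y ≤ S := (h.nbV_le fun σ => h.mate_le_Q hmin hb σ).trans h.Q_le
  have hx' := Subgroup.map_mono hV hx
  rw [map_emb_mate _ (d 0).l (d 0).r hVS] at hx'
  exact Subgroup.map_mono hle hx'

end Cfsg.Agent.PushUp
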