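import Cfsg.Agent.Lib.PushUp.SpreadCommute
import Cfsg.Agent.Lib.Fusion.Basic

/-!
# A minimal best offender of a `p`-minimal group generating it with any conjugate outside the maximal subgroup

`A` acts quadratically, lies in a Sylow subgroup `T` inside the coatom `M`, generates with each conjugate outside
`M`, and `|A₀| |C(A₀)| < |A| |C(A)|` for the proper subgroups. Then `A` meets the other conjugates of `M` trivially
and the module modulo fixed points is a spread with elations, so a natural module of `SL₂(|A|)`.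
-/

set_option autoImplicit false

namespace Cfsg.Agent.BestOff

open Cfsg.Agent

universe u v

variable {P : Type u} [Group P] {X : Type v} [AddCommGroup X] {p : ℕ} (ρ : P →* AddMonoid.End X)

theorem act_mul (g h : P) (v : X) : ρ (g * h) v = ρ g (ρ h v) := by rw [map_mul]; rfl

theorem act_one (v : X) : ρ 1 v = v := by rw [map_one]; rfl

theorem act_inv_self (g : P) (v : X) : ρ g⁻¹ (ρ g v) = v := by rw [← act_mul, inv_mul_cancel, act_one]

theorem act_self_inv (g : P) (v : X) : ρ g (ρ g⁻¹ v) = v := by rw [← act_mul, mul_inv_cancel, act_one]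

/-- The fixed vectors of a subgroup. -/
def fixed (H : Subgroup P) : AddSubgroup X where
  carrier := {v | ∀ h ∈ H, ρ h v = v}
  zero_mem' := fun _ _ => map_zero _
  add_mem' := fun {v w} hv hw h hh => by rw [map_add, hv h hh, hw h hh]
  neg_mem' := fun {v} hv h hh => by rw [map_neg, hv h hh]

/-- The elements moving `v` by an element of the invariant subgroup `N`. -/
def moversInto (N : AddSubgroup X) (hN : ∀ g, ∀ w ∈ N, ρ g w ∈ N) (v : X) : Subgroup P where
  carrier := {g | ρ g v - v ∈ N}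
  one_mem' := show ρ 1 v - v ∈ N by rw [act_one, sub_self]; exact zero_mem N
  mul_mem' := fun {g h} hg hh => show ρ (g * h) v - v ∈ N by
    have e : ρ (g * h) v - v = ρ g (ρ h v - v) + (ρ g v - v) := by rw [act_mul, map_sub]; abel
    rw [e]
    exact add_mem (hN g _ hh) hg
  inv_mem' := fun {g} hg => show ρ g⁻¹ v - v ∈ N by
    have e : ρ g⁻¹ v - v = -ρ g⁻¹ (ρ g v - v) := by rw [map_sub, act_inv_self]; abel
    rw [e]
    exact neg_mem (hN _ _ hg)

/-- The vectors fixed by every element of order prime to `p`. -/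
def primeFixed (p : ℕ) : AddSubgroup X where
  carrier := {v | ∀ g : P, ¬ p ∣ orderOf g → ρ g v = v}
  zero_mem' := fun _ _ => map_zero _
  add_mem' := fun {v w} hv hw g hg => by rw [map_add, hv g hg, hw g hg]
  neg_mem' := fun {v} hv g hg => by rw [map_neg, hv g hg]

theorem primeFixed_inv (g : P) {w : X} (hw : w ∈ primeFixed ρ p) : ρ g w ∈ primeFixed ρ p := fun r hr => by
  have h1 : ρ (g⁻¹ * r * g) w = w := hw _ (by
    rwa [show g⁻¹ * r * g = MulAut.conj g⁻¹ r by simp, MulEquiv.orderOf_eq])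
  calc ρ r (ρ g w) = ρ g (ρ (g⁻¹ * r * g) w) := by rw [← act_mul, ← act_mul]; congr 1; congr 1; group
    _ = ρ g w := by rw [h1]

/-- The data. -/
structure Data (A T M : Subgroup P) (p : ℕ) : Prop where
  exp : ∀ v : X, p • v = 0
  M_ne : M ≠ ⊤
  syl : Fusion.SylIn p T ⊤
  T_le : T ≤ M
  A_le : A ≤ T
  not_normal : ¬ T.Normal
  gen : ∀ x, x ∉ M → A ⊔ A.map (MulAut.conj x).toMonoidHom = ⊤
  quad : ∀ a ∈ A, ∀ v, ρ a v - v ∈ fixed ρ A
  off : Nat.card X ≤ Nat.card A * Nat.card (fixed ρ A)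
  strict : ∀ A₀ : Subgroup P, A₀ ≤ A → A₀ ≠ ⊥ → A₀ ≠ A →
    Nat.card A₀ * Nat.card (fixed ρ A₀) < Nat.card A * Nat.card (fixed ρ A)
  faithful : ∀ g, (∀ v, ρ g v = v) → g = 1
  moved : ∃ z, z ∈ fixed ρ T ∧ ∃ g, ρ g z ≠ z

variable {ρ} {A T M : Subgroup P} (D : Data ρ A T M p) [hp : Fact p.Prime] [Finite P] [Finite X]
include D

omit [Finite P] [Finite X] in
theorem Data.eq_of_mover {v w : X} {g : P} (hg : ¬ p ∣ orderOf g) (e : ρ g v - v = w) (hw : ρ g w = w) :
    w = 0 := by
  have h1 : ∀ n : ℕ, ρ (g ^ n) v = v + n • w := by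
    intro n
    induction n with
    | zero => rw [pow_zero, act_one, zero_smul, add_zero]
    | succ n ih =>
      rw [pow_succ', act_mul, ih, map_add, map_nsmul, hw, succ_nsmul, ← e]
      abel
  have h2 := h1 (orderOf g)
  rw [pow_orderOf_eq_one, act_one, left_eq_add] at h2
  have hd : addOrderOf w ∣ 1 := by
    rw [← Nat.Coprime.gcd_eq_one ((Nat.Prime.coprime_iff_not_dvd hp.out).2 hg)]
    exact Nat.dvd_gcd (addOrderOf_dvd_iff_nsmul_eq_zero.2 (D.exp w)) (addOrderOf_dvd_iff_nsmul_eq_zero.2 h2)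
  exact AddMonoid.addOrderOf_eq_one_iff.1 (Nat.dvd_one.1 hd)

omit [Finite X] in
theorem Data.mem_primeFixed {v : X} (h : ∀ g, ρ g v - v ∈ primeFixed ρ p) : v ∈ primeFixed ρ p :=
  fun g hg => sub_eq_zero.1 (D.eq_of_mover hg rfl (h g g hg))

omit hp [Finite P] [Finite X] in
theorem Data.ne_top_le {R : Subgroup P} (hA : A ≤ R) (hR : R ≠ ⊤) : R ≤ M := fun r hr => by
  by_contra hrM
  refine hR (top_le_iff.1 ((D.gen r hrM).symm.le.trans (sup_le hA ?_)))
  rintro _ ⟨a, ha, rfl⟩
  exact mul_mem (mul_mem hr (hA ha)) (inv_mem hr)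

omit hp [Finite P] [Finite X] in
/-- An element of `A` outside the conjugate of `M` generates with the conjugate of `A`. -/
theorem Data.gen_one {a x : P} (_ha : a ∈ A) (hax : x⁻¹ * a * x ∉ M) {H : Subgroup P} (h1 : a ∈ H)
    (h2 : ∀ b ∈ A, x * b * x⁻¹ ∈ H) : H = ⊤ := by
  by_contra hH
  have h3 := D.ne_top_le (R := H.comap (MulAut.conj x).toMonoidHom) (fun b hb => h2 b hb) (fun e => hH (by
    refine top_le_iff.1 fun g _ => ?_
    have h4 : x⁻¹ * g * x ∈ H.comap (MulAut.conj x).toMonoidHom := e ▸ Subgroup.mem_top _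
    have h5 : x * (x⁻¹ * g * x) * x⁻¹ ∈ H := h4
    rwa [show x * (x⁻¹ * g * x) * x⁻¹ = g by group] at h5))
  exact hax (h3 (show x * (x⁻¹ * a * x) * x⁻¹ ∈ H by rwa [show x * (x⁻¹ * a * x) * x⁻¹ = a by group]))

omit hp [Finite P] [Finite X] in
theorem Data.fixed_both {x : P} (hx : x ∉ M) {v : X} (hA : v ∈ fixed ρ A)
    (hB : v ∈ fixed ρ (A.map (MulAut.conj x).toMonoidHom)) (g : P) : ρ g v = v := by
  have h : A ⊔ A.map (MulAut.conj x).toMonoidHom ≤ moversInto ρ ⊥ (fun g w hw => by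
      rw [AddSubgroup.mem_bot] at hw ⊢; rw [hw, map_zero]) v :=
    sup_le (fun a ha => by show ρ a v - v ∈ (⊥ : AddSubgroup X); rw [hA a ha, sub_self]; exact zero_mem _)
      (fun b hb => by show ρ b v - v ∈ (⊥ : AddSubgroup X); rw [hB b hb, sub_self]; exact zero_mem _)
  rw [D.gen x hx] at h
  exact sub_eq_zero.1 ((AddSubgroup.mem_bot).1 (h (Subgroup.mem_top g)))

omit [Finite X] in
/-- Moving a fixed vector of the other conjugate into `primeFixed` puts it there. -/
theorem Data.of_mover {a x : P} (ha : a ∈ A) (hax : x⁻¹ * a * x ∉ M) {β : X}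
    (hβ : β ∈ fixed ρ (A.map (MulAut.conj x).toMonoidHom)) (h : ρ a β - β ∈ primeFixed ρ p) :
    β ∈ primeFixed ρ p := by
  have htop := D.gen_one ha hax (H := moversInto ρ _ (fun g _ hw => primeFixed_inv ρ g hw) β) h fun b hb => by
    show ρ (x * b * x⁻¹) β - β ∈ primeFixed ρ p
    rw [show ρ (x * b * x⁻¹) β = β from hβ _ ⟨b, hb, rfl⟩, sub_self]
    exact zero_mem _
  exact D.mem_primeFixed fun g => htop.ge (Subgroup.mem_top g)

omit hp [Finite P] [Finite X] in
theorem Data.act_fixed (x : P) {v : X} (hv : v ∈ fixed ρ A) :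
    ρ x v ∈ fixed ρ (A.map (MulAut.conj x).toMonoidHom) := by
  rintro _ ⟨a, ha, rfl⟩
  show ρ (x * a * x⁻¹) (ρ x v) = ρ x v
  rw [← act_mul, inv_mul_cancel_right, act_mul, hv a ha]

omit hp [Finite P] [Finite X] in
theorem Data.act_fixed_inv (x : P) {v : X} (hv : v ∈ fixed ρ (A.map (MulAut.conj x).toMonoidHom)) :
    ρ x⁻¹ v ∈ fixed ρ A := fun a ha => by
  have h1 : ρ (x * a * x⁻¹) v = v := hv _ ⟨a, ha, rfl⟩
  rw [← act_mul]
  conv_rhs => rw [← h1, ← act_mul]
  congr 2
  group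

omit hp [Finite P] [Finite X] in
/-- Commutators with an invariant subgroup lie in the sum of the two fixed parts. -/
theorem Data.decomp {U : AddSubgroup X} (hU : ∀ g, ∀ w ∈ U, ρ g w ∈ U) {x : P} (hx : x ∉ M) (g : P) {v : X}
    (hv : v ∈ U) : ∃ α ∈ U ⊓ fixed ρ A, ∃ β ∈ U ⊓ fixed ρ (A.map (MulAut.conj x).toMonoidHom),
      ρ g v - v = α + β := by
  set S := (U ⊓ fixed ρ A) ⊔ (U ⊓ fixed ρ (A.map (MulAut.conj x).toMonoidHom))
  let H : Subgroup P :=
    { carrier := {g | ∀ v ∈ U, ρ g v - v ∈ S}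
      one_mem' := fun v _ => by rw [act_one, sub_self]; exact zero_mem S
      mul_mem' := fun {g h} hg hh v hv => by
        have e : ρ (g * h) v - v = (ρ g (ρ h v) - ρ h v) + (ρ h v - v) := by rw [act_mul]; abel
        rw [e]
        exact add_mem (hg _ (hU h v hv)) (hh v hv)
      inv_mem' := fun {g} hg v hv => by
        have h1 := hg _ (hU g⁻¹ v hv)
        rw [act_self_inv] at h1
        rw [show ρ g⁻¹ v - v = -(v - ρ g⁻¹ v) by abel]
        exact neg_mem h1 }
  have hle : A ⊔ A.map (MulAut.conj x).toMonoidHom ≤ H := by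
    refine sup_le (fun a ha v hv => AddSubgroup.mem_sup_left (AddSubgroup.mem_inf.2 ⟨sub_mem (hU a v hv) hv, D.quad a ha v⟩)) ?_
    rintro _ ⟨a, ha, rfl⟩ v hv
    refine AddSubgroup.mem_sup_right (AddSubgroup.mem_inf.2 ⟨sub_mem (hU _ v hv) hv, ?_⟩)
    have h1 := D.act_fixed x (D.quad a ha (ρ x⁻¹ v))
    show ρ (x * a * x⁻¹) v - v ∈ fixed ρ (A.map (MulAut.conj x).toMonoidHom)
    rwa [map_sub, act_self_inv, ← act_mul, ← act_mul] at h1
  rw [D.gen x hx] at hle
  obtain ⟨α, hα, β, hβ, e⟩ := AddSubgroup.mem_sup.1 (hle (Subgroup.mem_top g) v hv)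
  exact ⟨α, hα, β, hβ, e.symm⟩

omit [Finite X] in
theorem Data.not_pgroup : ¬ IsPGroup p P := fun h => by
  have e : T = ⊤ := D.syl.eq_of_le (h.to_subgroup ⊤) le_top le_rfl |>.symm
  exact D.not_normal (e ▸ inferInstance)

/-- `A` meets two different conjugates of `M` in the same subgroup. -/
theorem Data.core_all {a x : P} (ha : a ∈ A) (hx : x ∉ M) (hax : x⁻¹ * a * x ∈ M) {y : P} (hy : y ∉ M) :
    y⁻¹ * a * y ∈ M := by
  classical
  by_contra hay
  set N := primeFixed ρ p
  -- the elements of order prime to `p` do not move the whole module into `N`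
  obtain ⟨g₀, v₀, hv₀⟩ : ∃ g v, ρ g v - v ∉ N := by
    by_contra hcon
    simp only [not_exists, not_not] at hcon
    refine D.not_pgroup fun g => ?_
    obtain ⟨k, m, hm, e⟩ := Nat.exists_eq_pow_mul_and_not_dvd (orderOf_pos g).ne' p hp.out.ne_one
    refine ⟨k, ?_⟩
    have ho : orderOf (g ^ p ^ k) = m := by
      rw [orderOf_pow' _ (pow_ne_zero _ hp.out.ne_zero), e, Nat.gcd_eq_right (dvd_mul_right _ _),
        Nat.mul_div_cancel_left _ (pow_pos hp.out.pos k)]
    exact D.faithful _ fun v => D.mem_primeFixed (fun h => hcon h v) _ (ho ▸ hm)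
  -- a Sylow subgroup in the conjugate of `M` containing `a`
  have hsylM : Fusion.SylIn p T M := D.syl.mono D.T_le le_top
  obtain ⟨k, hk⟩ := (D.syl.isPGroup) ⟨a, D.A_le ha⟩
  have hk' : (x⁻¹ * a * x) ^ p ^ k = 1 := by
    rw [show x⁻¹ * a * x = MulAut.conj x⁻¹ a by simp, ← map_pow, show a ^ p ^ k = 1 from congrArg Subtype.val hk, map_one]
  obtain ⟨m, hm, hmT⟩ := hsylM.conj_le (Q := Subgroup.zpowers (x⁻¹ * a * x)) (by
    rintro ⟨_, n, rfl⟩
    refine ⟨k, Subtype.ext ?_⟩
    show ((x⁻¹ * a * x) ^ n) ^ p ^ k = 1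
    rw [← zpow_natCast, zpow_comm, zpow_natCast, hk', one_zpow]) (Subgroup.zpowers_le.2 hax)
  have hamT : (x * m⁻¹)⁻¹ * a * (x * m⁻¹) ∈ T := by
    have h1 := hmT (Subgroup.mem_map_of_mem _ (Subgroup.mem_zpowers _))
    simpa [mul_assoc] using h1
  set x' := x * m⁻¹ with hx'
  have hx'M : x' ∉ M := fun h => hx (by simpa [hx'] using mul_mem h hm)
  set T' : Subgroup P := T.map (MulAut.conj x').toMonoidHom
  have haT' : a ∈ T' := ⟨_, hamT, by simp [mul_assoc]⟩
  have hT'p : IsPGroup p T' := D.syl.isPGroup.map _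
  -- a vector of the commutator fixed by `T'` modulo `N`
  set W : AddSubgroup X := AddSubgroup.closure {w | ∃ g v, ρ g v - v = w}
  have hWi : ∀ g, ∀ w ∈ W, ρ g w ∈ W := by
    intro g w hw
    induction hw using AddSubgroup.closure_induction with
    | mem w hw =>
      obtain ⟨h, v, rfl⟩ := hw
      have e : ρ g (ρ h v - v) = (ρ (g * h) v - v) - (ρ g v - v) := by rw [map_sub, act_mul]; abel
      rw [e]
      exact sub_mem (AddSubgroup.subset_closure ⟨_, _, rfl⟩) (AddSubgroup.subset_closure ⟨_, _, rfl⟩)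
    | zero => rw [map_zero]; exact zero_mem W
    | add u w _ _ hu hw => rw [map_add]; exact add_mem hu hw
    | neg u _ hu => rw [map_neg]; exact neg_mem hu
  obtain ⟨v, hvW, hvN, hvT⟩ : ∃ v ∈ W, v ∉ N ∧ ∀ t ∈ T', ρ t v - v ∈ N := by
    set N' := N.addSubgroupOf W
    let f : P → W →+ W := fun g => AddMonoidHom.mk' (fun w => ⟨ρ g w, hWi g w w.2⟩) fun u w =>
      Subtype.ext (map_add (ρ g) _ _)
    letI : MulAction T' (W ⧸ N') :=
      { smul := fun t => QuotientAddGroup.map N' N' (f t) fun w hw => primeFixed_inv ρ _ hw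
        one_smul := fun q => by
          induction q using QuotientAddGroup.induction_on with
          | H w => exact congrArg _ (Subtype.ext (act_one ρ (w : X)))
        mul_smul := fun s t q => by
          induction q using QuotientAddGroup.induction_on with
          | H w => exact congrArg _ (Subtype.ext (act_mul ρ (s : P) (t : P) (w : X))) }
    have hne : Nontrivial (W ⧸ N') := by
      refine ⟨⟨(⟨_, AddSubgroup.subset_closure ⟨g₀, v₀, rfl⟩⟩ : W), 0, fun e => hv₀ ?_⟩⟩
      exact (QuotientAddGroup.eq_zero_iff (⟨_, AddSubgroup.subset_closure ⟨g₀, v₀, rfl⟩⟩ : W)).1 e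
    have hdvd : p ∣ Nat.card (W ⧸ N') := by
      obtain ⟨q, hq⟩ := exists_ne (0 : W ⧸ N')
      have h0 : p • q = 0 := by
        induction q using QuotientAddGroup.induction_on with
        | H w => exact (congrArg _ (Subtype.ext (D.exp w) : p • w = 0)).trans rfl
      have h1 := addOrderOf_eq_prime h0 hq
      rw [← h1]
      exact addOrderOf_dvd_natCard q
    obtain ⟨q, hq, hq0⟩ := hT'p.exists_fixed_point_of_prime_dvd_card_of_fixed_point (W ⧸ N') hdvd
      (a := 0) (fun t => map_zero _)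
    induction q using QuotientAddGroup.induction_on with
    | H w =>
      refine ⟨w, w.2, fun h => hq0 ((QuotientAddGroup.eq_zero_iff w).2 h).symm, fun t ht => ?_⟩
      have e := hq ⟨t, ht⟩
      have e1 := (QuotientAddGroup.eq_iff_sub_mem).1 e
      exact e1
  -- split `v` along `A` and the conjugate of `A` by `y`
  obtain ⟨α, hα, β, hβ, e⟩ : ∃ α ∈ fixed ρ A, ∃ β ∈ fixed ρ (A.map (MulAut.conj y).toMonoidHom), v = α + β := by
    suffices W ≤ fixed ρ A ⊔ fixed ρ (A.map (MulAut.conj y).toMonoidHom) by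
      obtain ⟨α, hα, β, hβ, e⟩ := AddSubgroup.mem_sup.1 (this hvW)
      exact ⟨α, hα, β, hβ, e.symm⟩
    refine (AddSubgroup.closure_le _).2 ?_
    rintro _ ⟨g, u, rfl⟩
    obtain ⟨α, hα, β, hβ, e⟩ := D.decomp (U := ⊤) (fun _ _ _ => trivial) hy g (v := u) trivial
    rw [e]
    exact add_mem (AddSubgroup.mem_sup_left hα.2) (AddSubgroup.mem_sup_right hβ.2)
  have hβN : β ∈ N := D.of_mover ha hay hβ (by
    have := hvT a haT'
    rwa [e, map_add, hα a ha, add_sub_add_left_eq_sub] at this)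
  set H := moversInto ρ N (fun g _ hw => primeFixed_inv ρ g hw) v
  have hAH : A ≤ H := fun b hb => by
    show ρ b v - v ∈ N
    rw [e, map_add, hα b hb, add_sub_add_left_eq_sub]
    exact sub_mem (primeFixed_inv ρ b hβN) hβN
  have htop : H = ⊤ := by
    refine top_le_iff.1 ((D.gen x' hx'M).symm.le.trans (sup_le hAH ?_))
    exact fun g hg => hvT g (Subgroup.map_mono D.A_le hg)
  exact hvN (D.mem_primeFixed fun g => htop.ge (Subgroup.mem_top g))

omit [Finite X] in
theorem Data.notMem_M : ∃ x, x ∉ M := by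
  by_contra hcon
  simp only [not_exists, not_not] at hcon
  exact D.M_ne (top_le_iff.1 fun x _ => hcon x)

/-- The count. -/
theorem Data.count {U : AddSubgroup X} (hU : ∀ g, ∀ w ∈ U, ρ g w ∈ U) {z : X} (hz : z ∈ U) (hzT : z ∈ fixed ρ T)
    (hzm : ∃ g, ρ g z ≠ z) {C : Subgroup P} (hC : ∀ a ∈ A, (∀ y ∉ M, y⁻¹ * a * y ∈ M) → a ∈ C) (hCA : C ≤ A)
    {x : P} (hx : x ∉ M) :
    ∃ β ∈ U ⊓ fixed ρ (A.map (MulAut.conj x).toMonoidHom), β ∉ primeFixed ρ p ∧
      Nat.card A ≤ Nat.card C * (primeFixed ρ p).relIndex (U ⊓ fixed ρ A) ∧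
      (primeFixed ρ p).relIndex (U ⊓ fixed ρ A) =
        (primeFixed ρ p).relIndex (U ⊓ fixed ρ (A.map (MulAut.conj x).toMonoidHom)) := by
  classical
  set N := primeFixed ρ p
  set F := U ⊓ fixed ρ A
  set F' := U ⊓ fixed ρ (A.map (MulAut.conj x).toMonoidHom)
  obtain ⟨g, hg⟩ : ∃ g, ρ g z - z ∉ N := by
    by_contra hcon
    simp only [not_exists, not_not] at hcon
    obtain ⟨g, hg⟩ := hzm
    refine hg ?_
    have hzN := D.mem_primeFixed hcon
    let S : Subgroup P :=
      { carrier := {g | ρ g z = z}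
        one_mem' := act_one ρ z
        mul_mem' := fun {g h} hg hh => show ρ (g * h) z = z by rw [act_mul, hh, hg]
        inv_mem' := fun {g} hg => show ρ g⁻¹ z = z by
          have hg' : ρ g z = z := hg
          conv_lhs => rw [← hg']
          rw [act_inv_self] }
    have hS : S = ⊤ := by
      rw [← Subgroup.index_eq_one]
      by_contra hne
      obtain ⟨r, hr, hrd⟩ := Nat.exists_prime_and_dvd hne
      haveI := Fact.mk hr
      by_cases hrp : r = p
      · subst hrp
        have h1 : T ≤ S := fun t ht => hzT t ht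
        refine D.syl.not_dvd (hrd.trans ?_)
        rw [Subgroup.relIndex_top_right]
        exact Subgroup.index_dvd_of_le h1
      · obtain ⟨R⟩ := (inferInstance : Nonempty (Sylow r P))
        have h1 : (R : Subgroup P) ≤ S := fun t ht => hzN t fun hd => by
          obtain ⟨k, hk⟩ := R.isPGroup' ⟨t, ht⟩
          have h2 : orderOf t ∣ r ^ k := orderOf_dvd_of_pow_eq_one (congrArg Subtype.val hk)
          exact hrp ((Nat.prime_dvd_prime_iff_eq hp.out hr).1 (hp.out.dvd_of_dvd_pow (hd.trans h2))).symm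
        exact R.not_dvd_index (hrd.trans (Subgroup.index_dvd_of_le h1))
    exact hS.ge (Subgroup.mem_top g)
  obtain ⟨α, hα, β', hβ', e⟩ := D.decomp hU hx g hz
  obtain ⟨β, hβ, hβN⟩ : ∃ β ∈ F', β ∉ N := by
    by_cases h : β' ∈ N
    · refine ⟨ρ x α, ⟨hU x α hα.1, D.act_fixed x hα.2⟩, fun hN => hg ?_⟩
      have h1 := primeFixed_inv ρ x⁻¹ hN
      rw [act_inv_self] at h1
      rw [e]
      exact add_mem h1 h
    · exact ⟨β', hβ', h⟩
  let f : A →* Multiplicative (F ⧸ N.addSubgroupOf F) := MonoidHom.mk'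
    (fun a => Multiplicative.ofAdd ((⟨ρ a β - β, AddSubgroup.mem_inf.2 ⟨sub_mem (hU _ _ hβ.1) hβ.1, D.quad a a.2 β⟩⟩ : F) : F ⧸ _))
    fun a b => by
      show _ = Multiplicative.ofAdd (((⟨ρ a β - β, _⟩ : F) + ⟨ρ b β - β, _⟩ : F) : F ⧸ N.addSubgroupOf F)
      congr 2
      refine Subtype.ext ?_
      show ρ ((a : P) * b) β - β = ρ a β - β + (ρ b β - β)
      have hq := D.quad b b.2 β a a.2
      rw [map_sub, ← act_mul] at hq
      rw [← hq]
      abel
  have hker : f.ker.map A.subtype ≤ C := by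
    rintro _ ⟨a, ha, rfl⟩
    have h0 := congrArg Multiplicative.toAdd (MonoidHom.mem_ker.1 ha)
    have h1 : ρ a β - β ∈ N :=
      (QuotientAddGroup.eq_zero_iff (⟨ρ a β - β, AddSubgroup.mem_inf.2 ⟨sub_mem (hU _ _ hβ.1) hβ.1, D.quad a a.2 β⟩⟩ : F)).1 h0
    refine hC a a.2 ?_
    by_cases h2 : x⁻¹ * (a : P) * x ∈ M
    · exact fun y hy => D.core_all a.2 hx h2 hy
    · exact absurd (D.of_mover a.2 h2 hβ.2 h1) hβN
  have hcard : Nat.card A ≤ Nat.card C * N.relIndex F := by
    rw [Subgroup.card_eq_card_quotient_mul_card_subgroup f.ker, mul_comm]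
    refine Nat.mul_le_mul ?_ ?_
    · exact (Nat.card_congr (f.ker.equivMapOfInjective A.subtype A.subtype_injective).toEquiv).le.trans
        (Subgroup.card_le_of_le hker)
    · rw [Nat.card_congr (QuotientGroup.quotientKerEquivRange f).toEquiv]
      refine (Subgroup.card_le_card_group f.range).trans_eq ?_
      rfl
  refine ⟨β, hβ, hβN, hcard, ?_⟩
  -- the two fixed parts are conjugate by `x`
  let ex : F ≃+ F' :=
    { toFun := fun v => ⟨ρ x v, hU x _ v.2.1, D.act_fixed x v.2.2⟩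
      invFun := fun v => ⟨ρ x⁻¹ v, hU _ _ v.2.1, D.act_fixed_inv x v.2.2⟩
      left_inv := fun v => Subtype.ext (act_inv_self ρ x v)
      right_inv := fun v => Subtype.ext (act_self_inv ρ x v)
      map_add' := fun u v => Subtype.ext (map_add (ρ x) _ _) }
  show (N.addSubgroupOf F).index = (N.addSubgroupOf F').index
  rw [← AddSubgroup.index_map_equiv _ ex]
  congr 1
  ext v
  constructor
  · rintro ⟨w, hw, rfl⟩
    exact primeFixed_inv ρ x hw
  · intro hv
    exact ⟨ex.symm v, primeFixed_inv ρ x⁻¹ hv, ex.apply_symm_apply v⟩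

omit [Finite X] in
/-- The other fixed part injects modulo `fixed A`. -/
theorem Data.relIndex_le {U : AddSubgroup X} {x : P} (hx : x ∉ M) :
    (primeFixed ρ p).relIndex (U ⊓ fixed ρ (A.map (MulAut.conj x).toMonoidHom)) ≤
        (fixed ρ A).relIndex (U ⊓ fixed ρ (A.map (MulAut.conj x).toMonoidHom)) ∨
      (fixed ρ A).relIndex (U ⊓ fixed ρ (A.map (MulAut.conj x).toMonoidHom)) = 0 := by
  set F' := U ⊓ fixed ρ (A.map (MulAut.conj x).toMonoidHom)
  by_cases h0 : (fixed ρ A).relIndex F' = 0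
  · exact Or.inr h0
  refine Or.inl (Nat.le_of_dvd (Nat.pos_of_ne_zero h0) ?_)
  refine AddSubgroup.index_dvd_of_le fun v hv => ?_
  exact fun r _ => D.fixed_both hx hv v.2.2 r

/-- No element of `A` lies in two conjugates of `M`. -/
theorem Data.trivial_core {a x : P} (ha : a ∈ A) (hx : x ∉ M) (hax : x⁻¹ * a * x ∈ M) : a = 1 := by
  classical
  let C : Subgroup P :=
    { carrier := {b | b ∈ A ∧ ∀ y ∉ M, y⁻¹ * b * y ∈ M}
      one_mem' := ⟨one_mem A, fun y _ => by simp⟩
      mul_mem' := fun {b c} hb hc => ⟨mul_mem hb.1 hc.1, fun y hy => by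
        simpa [mul_assoc] using mul_mem (hb.2 y hy) (hc.2 y hy)⟩
      inv_mem' := fun {b} hb => ⟨inv_mem hb.1, fun y hy => by
        simpa [mul_assoc] using inv_mem (hb.2 y hy)⟩ }
  have haC : a ∈ C := ⟨ha, fun y hy => D.core_all ha hx hax hy⟩
  by_contra ha1
  have hCne : C ≠ ⊥ := fun e => ha1 (Subgroup.mem_bot.1 (e ▸ haC))
  -- a normal `p`-subgroup containing `C`
  set Kc := M.normalCore
  have hCK : C ≤ Kc := fun b hb y => by
    show y * b * y⁻¹ ∈ M
    by_cases hy : y ∈ M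
    · exact mul_mem (mul_mem hy (D.T_le (D.A_le hb.1))) (inv_mem hy)
    · simpa using hb.2 y⁻¹ (fun h => hy (by simpa using inv_mem h))
  set Q := T ⊓ Kc
  have hKn : (⊤ : Subgroup P) ≤ Subgroup.normalizer (Kc : Set P) := (Subgroup.normalizer_eq_top (H := Kc)).ge
  have hQs : Fusion.SylIn p Q Kc := D.syl.inf_normal le_top hKn
  have hQn : Subgroup.normalizer (Q : Set P) = ⊤ := by
    by_contra hne
    have hTN : A ≤ Subgroup.normalizer (Q : Set P) := fun b hb => by
      rw [Subgroup.mem_normalizer_iff]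
      intro q
      constructor
      · exact fun hq => Subgroup.mem_inf.2 ⟨mul_mem (mul_mem (D.A_le hb) hq.1) (inv_mem (D.A_le hb)),
          (Subgroup.normalCore_normal M).conj_mem q hq.2 b⟩
      · intro hq
        have h1 := mul_mem (mul_mem (inv_mem (D.A_le hb)) hq.1) (D.A_le hb)
        have h2 := (Subgroup.normalCore_normal M).conj_mem _ hq.2 b⁻¹
        simp only [inv_inv, mul_assoc, inv_mul_cancel_left, inv_mul_cancel, mul_one] at h1 h2
        exact Subgroup.mem_inf.2 ⟨h1, h2⟩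
    have hle := D.ne_top_le hTN hne
    obtain ⟨y, hy⟩ := D.notMem_M
    obtain ⟨n, hn, hny⟩ := Fusion.frattini_conj hQs hKn (Subgroup.mem_top y)
    exact hy (by simpa using mul_mem (inv_mem (Subgroup.normalCore_le M hn)) (hle hny))
  haveI : Q.Normal := Subgroup.normalizer_eq_top_iff.1 hQn
  have hCQ : C ≤ Q := fun b hb => ⟨D.A_le hb.1, hCK hb⟩
  have hCA : C ≠ A := by
    intro e
    obtain ⟨y, hy⟩ := D.notMem_M
    have htop : (⊤ : Subgroup P) ≤ Q := by
      rw [← D.gen y hy]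
      refine sup_le (e ▸ hCQ) ?_
      rintro _ ⟨b, hb, rfl⟩
      exact (inferInstance : Q.Normal).conj_mem b (hCQ (e.symm ▸ hb)) y
    exact D.M_ne (top_le_iff.1 ((htop.trans inf_le_left).trans D.T_le))
  obtain ⟨z, hzT, hzm⟩ := D.moved
  set U := fixed ρ Q
  have hU : ∀ g, ∀ w ∈ U, ρ g w ∈ U := fun g w hw q hq => by
    have h1 := hw _ ((inferInstance : Q.Normal).conj_mem q hq g⁻¹)
    calc ρ q (ρ g w) = ρ g (ρ (g⁻¹ * q * g⁻¹⁻¹) w) := by rw [← act_mul, ← act_mul]; congr 2; group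
      _ = ρ g w := by rw [h1]
  obtain ⟨β, hβ, -, hc, he⟩ := D.count hU (z := z) (fun q hq => hzT q hq.1) hzT hzm (C := C)
    (fun b hb h => ⟨hb, h⟩) (fun b hb => hb.1) hx
  set F' := U ⊓ fixed ρ (A.map (MulAut.conj x).toMonoidHom)
  have hstrict := D.strict C (fun b hb => hb.1) hCne hCA
  have hFC : F' ≤ fixed ρ C := fun v hv b hb => hv.1 b (hCQ hb)
  have hAC : fixed ρ A ≤ fixed ρ C := fun v hv b hb => hv b hb.1
  have h1 : (primeFixed ρ p).relIndex F' * Nat.card (fixed ρ A) ≤ Nat.card (fixed ρ C) := by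
    have hne : (fixed ρ A).relIndex F' ≠ 0 := AddSubgroup.index_ne_zero_of_finite
    refine le_trans (Nat.mul_le_mul_right _ ((D.relIndex_le (U := U) hx).resolve_right hne)) ?_
    have h2 : (fixed ρ A).relIndex F' ≤ (fixed ρ A).relIndex (fixed ρ C) :=
      AddSubgroup.relIndex_le_of_le_right hFC AddSubgroup.index_ne_zero_of_finite
    refine le_trans (Nat.mul_le_mul_right _ h2) (le_of_eq ?_)
    rw [← AddSubgroup.relIndex_bot_left, ← AddSubgroup.relIndex_bot_left, mul_comm,
      AddSubgroup.relIndex_mul_relIndex _ _ _ bot_le hAC]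
  have : Nat.card A * Nat.card (fixed ρ A) ≤ Nat.card C * Nat.card (fixed ρ C) := by
    calc Nat.card A * Nat.card (fixed ρ A)
        ≤ Nat.card C * (primeFixed ρ p).relIndex F' * Nat.card (fixed ρ A) :=
          Nat.mul_le_mul_right _ (he ▸ hc)
      _ ≤ _ := by rw [mul_assoc]; exact Nat.mul_le_mul_left _ h1
  omega

end Cfsg.Agent.BestOff
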