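import Cfsg.Agent.Lib.PushUp.BestOffender

/-!
# The natural module of a minimal best offender
-/

set_option autoImplicit false

namespace Cfsg.Agent.BestOff

open Cfsg.Agent

universe u v

variable {P : Type u} [Group P] {X : Type v} [AddCommGroup X] {p : ℕ} {ρ : P →* AddMonoid.End X}
  {A T M : Subgroup P} (D : Data ρ A T M p) [hp : Fact p.Prime] [Finite P] [Finite X]
include D

omit [Finite X] in
theorem Data.two_le_card : 2 ≤ Nat.card A := by
  have h : A ≠ ⊥ := by
    intro h
    obtain ⟨x, hx⟩ := D.notMem_M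
    have h1 := D.gen x hx
    rw [h, Subgroup.map_bot, sup_bot_eq] at h1
    have e : T = ⊥ := eq_bot_iff.2 (le_top.trans h1.ge)
    exact D.not_normal (e ▸ inferInstance)
  haveI := (Subgroup.nontrivial_iff_ne_bot A).2 h
  exact Finite.one_lt_card

omit hp [Finite P] [Finite X] in
theorem Data.global_le_primeFixed : fixed ρ (⊤ : Subgroup P) ≤ primeFixed ρ p :=
  fun _ hv g _ => hv g (Subgroup.mem_top g)

omit hp [Finite P] [Finite X] in
theorem Data.both_le_global {x : P} (hx : x ∉ M) :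
    fixed ρ A ⊓ fixed ρ (A.map (MulAut.conj x).toMonoidHom) ≤ fixed ρ (⊤ : Subgroup P) :=
  fun _ hv g _ => D.fixed_both hx hv.1 hv.2 g

/-- All the inequalities are equalities. -/
theorem Data.equalities {x : P} (hx : x ∉ M) :
    (fixed ρ A).index = Nat.card A ∧
      primeFixed ρ p ⊓ fixed ρ (A.map (MulAut.conj x).toMonoidHom) ≤ fixed ρ (⊤ : Subgroup P) ∧
      fixed ρ A ⊔ fixed ρ (A.map (MulAut.conj x).toMonoidHom) = ⊤ ∧
      (fixed ρ (⊤ : Subgroup P)).relIndex (fixed ρ A) = Nat.card A := by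
  classical
  obtain ⟨z, hzT, hzm⟩ := D.moved
  obtain ⟨-, -, -, hc, he⟩ := D.count (U := ⊤) (fun _ _ _ => trivial) (z := z) trivial hzT hzm
    (C := (⊥ : Subgroup P)) (fun a ha h => by
      obtain ⟨y, hy⟩ := D.notMem_M
      rw [Subgroup.mem_bot]
      exact D.trivial_core ha hy (h y hy)) bot_le hx
  rw [Subgroup.card_bot, one_mul] at hc
  simp only [top_inf_eq] at hc he
  set FA := fixed ρ A
  set FB := fixed ρ (A.map (MulAut.conj x).toMonoidHom)
  set N := primeFixed ρ p
  set q := Nat.card A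
  have hne : FA.relIndex FB ≠ 0 := AddSubgroup.index_ne_zero_of_finite
  have h1 : N.relIndex FB ≤ FA.relIndex FB := by
    have := (D.relIndex_le (U := (⊤ : AddSubgroup X)) hx)
    simp only [top_inf_eq] at this
    exact this.resolve_right hne
  have h2 : FA.index ≤ q := by
    have h0 : FA.index * Nat.card FA ≤ q * Nat.card FA := by
      rw [AddSubgroup.index_mul_card]
      exact D.off
    exact Nat.le_of_mul_le_mul_right h0 (Nat.card_pos (α := FA))
  have h3 : FA.relIndex (FA ⊔ FB) * (FA ⊔ FB).index = FA.index :=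
    AddSubgroup.relIndex_mul_index le_sup_left
  have h4 : FA.relIndex (FA ⊔ FB) = FA.relIndex FB := by rw [sup_comm]; exact AddSubgroup.relIndex_sup_right _ _
  rw [h4] at h3
  have h5 : 0 < (FA ⊔ FB).index := Nat.pos_of_ne_zero AddSubgroup.index_ne_zero_of_finite
  have h6 : FA.relIndex FB ≤ FA.index := h3 ▸ Nat.le_mul_of_pos_right _ h5
  have e1 : FA.index = q := le_antisymm h2 (hc.trans ((he.le.trans h1).trans h6))
  have e2 : FA.relIndex FB = q := le_antisymm (h6.trans_eq e1) (hc.trans (he.le.trans h1))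
  have e3 : N.relIndex FB = q := le_antisymm (h1.trans_eq e2) (he ▸ hc)
  have hNB : N ⊓ FB ≤ fixed ρ (⊤ : Subgroup P) := by
    have hle : FA.addSubgroupOf FB ≤ N.addSubgroupOf FB := fun v hv =>
      D.global_le_primeFixed (D.both_le_global hx ⟨hv, v.2⟩)
    have heq : FA.addSubgroupOf FB = N.addSubgroupOf FB := by
      refine AddSubgroup.eq_of_le_of_card_ge hle (le_of_eq ?_)
      refine Nat.eq_of_mul_eq_mul_left (show 0 < q from Nat.card_pos) ?_
      conv_lhs => rw [show q = (N.addSubgroupOf FB).index from e3.symm]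
      conv_rhs => rw [show q = (FA.addSubgroupOf FB).index from e2.symm]
      rw [AddSubgroup.index_mul_card, AddSubgroup.index_mul_card]
    intro v hv
    have h7 : (⟨v, hv.2⟩ : FB) ∈ FA.addSubgroupOf FB := heq ▸ hv.1
    exact D.both_le_global hx ⟨h7, hv.2⟩
  refine ⟨e1, hNB, ?_, ?_⟩
  · rw [← AddSubgroup.index_eq_one]
    rw [e2, e1] at h3
    exact Nat.eq_of_mul_eq_mul_left (show 0 < q from Nat.card_pos) (h3.trans (mul_one q).symm)
  · have h8 : (fixed ρ (⊤ : Subgroup P)).addSubgroupOf FB = FA.addSubgroupOf FB := by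
      ext v
      exact ⟨fun h a _ => h a (Subgroup.mem_top a), fun h => D.both_le_global hx ⟨h, v.2⟩⟩
    let ex : FA ≃+ FB :=
      { toFun := fun v => ⟨ρ x v, D.act_fixed x v.2⟩
        invFun := fun v => ⟨ρ x⁻¹ v, D.act_fixed_inv x v.2⟩
        left_inv := fun v => Subtype.ext (act_inv_self ρ x v)
        right_inv := fun v => Subtype.ext (act_self_inv ρ x v)
        map_add' := fun u v => Subtype.ext (map_add (ρ x) _ _) }
    rw [← e2]
    show ((fixed ρ (⊤ : Subgroup P)).addSubgroupOf FA).index = (FA.addSubgroupOf FB).index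
    rw [← h8, ← AddSubgroup.index_map_equiv _ ex]
    congr 1
    ext v
    constructor
    · rintro ⟨w, hw, rfl⟩ g hg
      show ρ g (ρ x w) = ρ x w
      have hw' : (w : X) ∈ fixed ρ (⊤ : Subgroup P) := hw
      rw [hw' x (Subgroup.mem_top x)]
      exact hw' g hg
    · intro hv
      refine ⟨ex.symm v, fun g hg => ?_, ex.apply_symm_apply v⟩
      show ρ g (ρ x⁻¹ v) = ρ x⁻¹ v
      have hv' : (v : X) ∈ fixed ρ (⊤ : Subgroup P) := hv
      rw [hv' x⁻¹ (Subgroup.mem_top _)]
      exact hv' g hg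

/-- An element of `A` fixing a vector modulo the fixed vectors fixes it. -/
theorem Data.free {a : P} (ha : a ∈ A) (ha1 : a ≠ 1) {v : X} (hv : ρ a v - v ∈ fixed ρ (⊤ : Subgroup P)) :
    v ∈ fixed ρ A := by
  obtain ⟨x, hx⟩ := D.notMem_M
  obtain ⟨-, hNB, hsup, -⟩ := D.equalities hx
  obtain ⟨α, hα, β, hβ, rfl⟩ := AddSubgroup.mem_sup.1 (hsup.ge (AddSubgroup.mem_top v))
  rw [map_add, hα a ha, add_sub_add_left_eq_sub] at hv
  have hβN := D.of_mover ha (fun h => ha1 (D.trivial_core ha hx h)) hβ (D.global_le_primeFixed hv)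
  exact add_mem hα fun b _ => hNB ⟨hβN, hβ⟩ b (Subgroup.mem_top b)

/-- The natural module. -/
theorem Data.exists_natural :
    (∀ α ∈ fixed ρ A, ∃ (a : P) (v : X), a ∈ A ∧ α - (ρ a v - v) ∈ fixed ρ (⊤ : Subgroup P)) ∧
    ∃ (F : Type v) (_ : Field F) (_ : Fintype F) (R : P →* Matrix.SpecialLinearGroup (Fin 2) F)
      (ψ : X →+ (Fin 2 → F)), Fintype.card F = Nat.card A ∧ Function.Bijective R ∧ Function.Surjective ψ ∧
        (∀ v, ψ v = 0 ↔ v ∈ fixed ρ (⊤ : Subgroup P)) ∧
        ∀ (g : P) (v : X), ψ (ρ g v) = (R g : Matrix (Fin 2) (Fin 2) F).mulVec (ψ v) := by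
  classical
  obtain ⟨x, hx⟩ := D.notMem_M
  obtain ⟨eA, hNB, hsup, eP⟩ := D.equalities hx
  set FA := fixed ρ A
  set FB := fixed ρ (A.map (MulAut.conj x).toMonoidHom)
  set Fp := fixed ρ (⊤ : Subgroup P)
  have hFpA : Fp ≤ FA := fun v hv a _ => hv a (Subgroup.mem_top a)
  let mkF : X →+ X ⧸ Fp := QuotientAddGroup.mk' Fp
  have hmk : ∀ v, mkF v = 0 ↔ v ∈ Fp := fun v => QuotientAddGroup.eq_zero_iff v
  have hmkA : ∀ v, mkF v ∈ FA.map mkF ↔ v ∈ FA := fun v => by
    constructor
    · rintro ⟨α, hα, e⟩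
      have h1 : v - α ∈ Fp := (hmk _).1 (by rw [map_sub, e, sub_self])
      rw [← sub_add_cancel v α]
      exact add_mem (hFpA h1) hα
    · exact fun h => ⟨v, h, rfl⟩
  have hcA : Nat.card (FA.map mkF) = Nat.card A := by
    rw [← eP, ← AddSubgroup.relIndex_ker]
    exact congrArg (fun H : AddSubgroup X => H.relIndex FA) (QuotientAddGroup.ker_mk' Fp)
  -- every fixed vector is a commutator modulo the fixed vectors of the whole group
  have himg : ∀ β ∈ FB, β ∉ primeFixed ρ p → ∀ α ∈ FA, ∃ a ∈ A, α - (ρ a β - β) ∈ Fp := by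
    intro β hβ hβN α hα
    let f : A → FA.map mkF := fun a => ⟨mkF (ρ a β - β), ⟨_, D.quad a a.2 β, rfl⟩⟩
    have hinj : Function.Injective f := by
      intro a b e
      by_contra hne
      have h1 : ρ b β - ρ a β ∈ Fp := by
        rw [← hmk, map_sub]
        have e' : mkF (ρ a β - β) = mkF (ρ b β - β) := congrArg Subtype.val e
        rw [map_sub, map_sub, sub_left_inj] at e'
        rw [e', sub_self]
      have h2 : ρ ((a : P)⁻¹ * b) β - β ∈ Fp := by
        have e2 : ρ ((a : P)⁻¹ * b) β - β = ρ (a : P)⁻¹ (ρ b β - ρ a β) := by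
          rw [map_sub, act_inv_self, act_mul]
        rw [e2, h1 _ (Subgroup.mem_top _)]
        exact h1
      have h3 := D.free (mul_mem (inv_mem a.2) b.2)
        (fun h => hne (Subtype.ext (inv_mul_eq_one.1 h))) h2
      exact hβN (D.global_le_primeFixed (D.both_le_global hx ⟨h3, hβ⟩))
    have hb : Function.Bijective f :=
      (Nat.bijective_iff_injective_and_card f).2 ⟨hinj, hcA.symm⟩
    obtain ⟨a, ha⟩ := hb.2 ⟨mkF α, ⟨α, hα, rfl⟩⟩
    refine ⟨a, a.2, ?_⟩
    rw [← hmk, map_sub, sub_eq_zero]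
    exact (congrArg Subtype.val ha).symm
  -- the action on the quotient
  let ρb : P →* AddMonoid.End (X ⧸ Fp) :=
    { toFun := fun g => QuotientAddGroup.map Fp Fp (ρ g : X →+ X) fun w hw => by
        show ρ g w ∈ Fp
        rw [hw g (Subgroup.mem_top g)]
        exact hw
      map_one' := AddMonoidHom.ext fun q => by
        induction q using QuotientAddGroup.induction_on with
        | H w => exact congrArg mkF (act_one ρ w)
      map_mul' := fun g h => AddMonoidHom.ext fun q => by
        induction q using QuotientAddGroup.induction_on with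
        | H w => exact congrArg mkF (act_mul ρ g h w) }
  have hρb : ∀ g v, ρb g (mkF v) = mkF (ρ g v) := fun _ _ => rfl
  have hsurj : ∀ q : X ⧸ Fp, ∃ v, mkF v = q := QuotientAddGroup.mk'_surjective Fp
  have SD : PushUp.SpreadAct A (⊥ : Subgroup P) M ρb (FA.map mkF) (Nat.card A) :=
    { two_le := D.two_le_card
      Qn := inferInstance
      Q_le := bot_le
      idxS := Subgroup.relIndex_bot_left A
      S_le := D.A_le.trans D.T_le
      M_ne := D.M_ne
      top := fun H hA hH => by
        by_contra hne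
        exact hH (D.ne_top_le hA hne)
      tiS := fun g hg m hm hgm => by
        rw [Subgroup.mem_bot]
        have h1 := D.trivial_core hgm (x := g⁻¹) (fun h => hg (by simpa using inv_mem h))
          (by simpa [mul_assoc] using hm)
        have e : m = g * (g⁻¹ * m * g) * g⁻¹ := by group
        rw [e, h1, mul_one, mul_inv_cancel]
      Q_one := fun g hg => by rw [Subgroup.mem_bot.1 hg, map_one]
      cardA := hcA
      cardV := by
        show Nat.card (X ⧸ Fp) = _
        rw [← AddSubgroup.index_eq_card, ← AddSubgroup.relIndex_mul_index hFpA, eP, eA]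
      fix := fun a ha v hv => by
        obtain ⟨w, hw, rfl⟩ := hv
        exact congrArg mkF (hw a ha)
      free := fun a ha haQ v hv => by
        obtain ⟨w, rfl⟩ := hsurj v
        refine (hmkA w).2 (D.free ha (fun h => haQ (by rw [h]; exact one_mem _)) ?_)
        rw [← hmk, map_sub, sub_eq_zero]
        exact hv
      ti := fun g hg v hv hgv => by
        obtain ⟨w, hw, rfl⟩ := hv
        rw [hρb, hmkA] at hgv
        have h1 := D.act_fixed g⁻¹ hgv
        rw [act_inv_self] at h1
        exact (hmk w).2 (D.both_le_global (fun h => hg (by simpa using inv_mem h)) ⟨hw, h1⟩) }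
  obtain ⟨s₁, hs₁, hs₁Q⟩ := SD.exists_notQ
  obtain ⟨F, _, _, R, ψ, hF, hR, hact⟩ := SD.exists_coord' hx hs₁ hs₁Q
  refine ⟨fun α hα => ?_, F, inferInstance, inferInstance, R, ψ.toAddMonoidHom.comp mkF, hF, ⟨?_, hR.surj⟩,
    fun w => ?_, fun v => ?_, fun g v => ?_⟩
  · obtain ⟨z, hzT, hzm⟩ := D.moved
    obtain ⟨β, hβ, hβN, -⟩ := D.count (U := ⊤) (fun _ _ _ => trivial) (z := z) trivial hzT hzm (C := A)
      (fun a ha _ => ha) le_rfl hx
    obtain ⟨a, ha, h⟩ := himg β hβ.2 hβN α hα
    exact ⟨a, β, ha, h⟩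
  · -- the kernel is trivial
    rw [← MonoidHom.ker_eq_bot_iff, eq_bot_iff]
    intro k hk
    rw [Subgroup.mem_bot]
    set K := R.ker
    have hKact : ∀ g ∈ K, ∀ v, ρ g v - v ∈ Fp := fun g hg v => by
      rw [← hmk, map_sub, sub_eq_zero, ← hρb]
      refine ψ.injective ?_
      rw [hact, MonoidHom.mem_ker.1 hg, Matrix.SpecialLinearGroup.coe_one, Matrix.one_mulVec]
    have hKp : IsPGroup p K := fun g => ⟨1, Subtype.ext (D.faithful _ fun v => by
      have h1 : ∀ n : ℕ, ρ ((g : P) ^ n) v = v + n • (ρ g v - v) := by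
        intro n
        induction n with
        | zero => rw [pow_zero, act_one, zero_smul, add_zero]
        | succ n ih =>
          rw [pow_succ', act_mul, ih, map_add, map_nsmul,
            hKact g g.2 v g (Subgroup.mem_top _), succ_nsmul]
          abel
      have h2 := h1 (p ^ 1)
      rwa [pow_one, D.exp, add_zero, ← pow_one p] at h2)⟩
    haveI hKn : K.Normal := inferInstance
    obtain ⟨T₀, hT₀⟩ := D.syl.exists_sylow
    have hKT : K ≤ T := by
      obtain ⟨T₁, hT₁⟩ := hKp.exists_le_sylow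
      obtain ⟨c, hc⟩ := MulAction.exists_smul_eq P T₁ T₀
      rw [← hT₀, ← hc]
      intro q hq
      rw [Sylow.coe_subgroup_smul, Subgroup.mem_pointwise_smul_iff_inv_smul_mem]
      exact hT₁ (by simpa [MulAut.smul_def] using hKn.conj_mem q hq c⁻¹)
    obtain ⟨z, hzT, hzm⟩ := D.moved
    set U := fixed ρ K
    have hU : ∀ g, ∀ w ∈ U, ρ g w ∈ U := fun g w hw q hq => by
      have h1 := hw _ (hKn.conj_mem q hq g⁻¹)
      calc ρ q (ρ g w) = ρ g (ρ (g⁻¹ * q * g⁻¹⁻¹) w) := by rw [← act_mul, ← act_mul]; congr 2; group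
        _ = ρ g w := by rw [h1]
    obtain ⟨β, hβ, hβN, -⟩ := D.count hU (z := z) (fun q hq => hzT q (hKT hq)) hzT hzm (C := A)
      (fun a ha _ => ha) le_rfl hx
    have hFpU : Fp ≤ U := fun v hv q _ => hv q (Subgroup.mem_top q)
    have hAU : FA ≤ U := fun α hα => by
      obtain ⟨a, -, h⟩ := himg β hβ.2 hβN α hα
      rw [← sub_add_cancel α (ρ a β - β)]
      exact add_mem (hFpU h) (sub_mem (hU a β hβ.1) hβ.1)
    have hBU : FB ≤ U := fun v hv => by
      have h1 := hU x _ (hAU (D.act_fixed_inv x hv))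
      rwa [act_self_inv] at h1
    exact D.faithful k fun v => (sup_le hAU hBU) (hsup.ge (AddSubgroup.mem_top v)) k hk
  · obtain ⟨v, hv⟩ := hsurj (ψ.symm w)
    exact ⟨v, by show ψ (mkF v) = w; rw [hv, ψ.apply_symm_apply]⟩
  · show ψ (mkF v) = 0 ↔ _
    rw [EmbeddingLike.map_eq_zero_iff, hmk]
  · exact hact g (mkF v)

end Cfsg.Agent.BestOff
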