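import Cfsg.Agent.Lib.PushUp.RankOne
import Cfsg.Agent.Lib.LocalEven.CentrallyLarge
import Cfsg.Agent.Lib.Solv.PGroupPhi

/-!
# Minimal centrally large subgroups in pushing up
-/

set_option autoImplicit false

open scoped commutatorElement Pointwise

namespace Cfsg.Agent.PushUp

open Cfsg Cfsg.Agent.CDLattice

section CL

variable {P : Type*} [Group P] [Finite P]

/-- The order of a join with a normal subgroup. -/
theorem card_sup_normal' (Y X : Subgroup P) [Y.Normal] :
    Nat.card (Y ⊔ X : Subgroup P) = X.relIndex Y * Nat.card X := by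
  have e1 : Y.relIndex X * Nat.card (Y ⊓ X : Subgroup P) = Nat.card X := by
    rw [← Subgroup.inf_relIndex_right Y X]
    exact LocalEven.DispCount.relIndex_mul_card inf_le_right
  have e2 : X.relIndex Y * Nat.card (Y ⊓ X : Subgroup P) = Nat.card Y := by
    rw [← Subgroup.inf_relIndex_left Y X]
    exact LocalEven.DispCount.relIndex_mul_card inf_le_left
  rw [card_sup_normal Y X]
  calc Y.relIndex X * Nat.card Y = X.relIndex Y * (Y.relIndex X * Nat.card (Y ⊓ X : Subgroup P)) := by
        rw [← e2]; ring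
    _ = _ := by rw [e1]

theorem minimal_of_card {Q U : Subgroup P} (hQ : IsMinimalCentrallyLarge Q) (hU : IsCentrallyLarge U)
    (h : Nat.card U ≤ Nat.card Q) : IsMinimalCentrallyLarge U := by
  obtain ⟨m, hmU, hm⟩ := Finite.exists_le_minimal (p := fun X : Subgroup P => IsCentrallyLarge X) (a := U) hU
  have hmin : IsMinimalCentrallyLarge m := ⟨hm.1, fun X hXm hX => le_antisymm hXm (hm.2 hX hXm)⟩
  have e : m = U := Subgroup.eq_of_le_of_card_ge hmU ((minimal_cards hQ hmin).2.1 ▸ h)
  exact e ▸ hmin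

theorem cdVal_eq {R : Subgroup P} (hR : IsCentrallyLarge R) :
    cdVal R = maxCentralizerProduct P := (centrallyLarge_iff.1 hR).1

theorem inf_centralizer_eq {R : Subgroup P} (hR : IsCentrallyLarge R) :
    R ⊓ Subgroup.centralizer (R : Set P) = Subgroup.centralizer (R : Set P) :=
  inf_eq_right.2 (centrallyLarge_iff.1 hR).2

theorem omegaOne_mono' {p : ℕ} {H K : Subgroup P} (h : H ≤ K) : omegaOne p H ≤ omegaOne p K :=
  Subgroup.closure_mono fun _ hx => ⟨h hx.1, hx.2⟩

/-- What the pushing-up situation says inside the Sylow subgroup. -/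
structure OffData (p q : ℕ) (O Y : Subgroup P) : Prop where
  normO : O.Normal
  normY : Y.Normal
  le : Y ≤ O
  cen : O ≤ Subgroup.centralizer (Y : Set P)
  commY : IsMulCommutative Y
  index : O.index ≤ q
  disp : ∀ x : P, x ∉ O → q ≤ (omegaOne p Y ⊓ Subgroup.centralizer ({x} : Set P)).relIndex (omegaOne p Y)

/-- A minimal centrally large subgroup outside `O` gives one inside `O`. -/
theorem OffData.inner {p q : ℕ} {O Y : Subgroup P} (D : OffData p q O Y) {R : Subgroup P}
    (hR : IsMinimalCentrallyLarge R) (hRO : ¬ R ≤ O) :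
    ¬ Subgroup.centralizer (R : Set P) ≤ O ∧
    ∃ U : Subgroup P, IsMinimalCentrallyLarge U ∧ U ≤ O ∧
      (Nat.card (omegaOneCenter p R) ≤ Nat.card (omegaOneCenter p U)) ∧
      (Nat.card (omegaOneCenter p U) ≤ Nat.card (omegaOneCenter p R) →
        ∀ r ∈ R, ∃ x ∈ R ⊓ O, ∃ w ∈ omegaOne p (Subgroup.centralizer (R : Set P)),
          x ∈ U ∧ r = x * w) := by
  haveI := D.normO
  haveI := D.normY
  obtain ⟨hR1, hR2⟩ := centrallyLarge_iff.1 hR.1
  set Z := Subgroup.centralizer (R : Set P) with hZ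
  set X := R ⊓ O with hX
  set f := maxCentralizerProduct P
  obtain ⟨x₀, hx₀R, hx₀O⟩ := SetLike.not_le_iff_exists.1 hRO
  have hq0 : 0 < q := (Nat.pos_of_ne_zero Subgroup.index_ne_zero_of_finite).trans_le D.index
  have hv1 : q ≤ Z.relIndex (omegaOne p Y) := by
    refine (D.disp x₀ hx₀O).trans ?_
    rw [← Subgroup.inf_relIndex_left (omegaOne p Y) Z]
    refine Subgroup.relIndex_le_of_le_left (inf_le_inf_left _ fun z hz => ?_) (relIndex_ne_zero' _ _)
    exact Subgroup.centralizer_le (Set.singleton_subset_iff.2 hx₀R) hz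
  have hv : q ≤ Z.relIndex Y :=
    hv1.trans (Subgroup.relIndex_le_of_le_right omegaOne_le' (relIndex_ne_zero' _ _))
  have hOle : ∀ K : Subgroup P, O.relIndex K ≤ q := fun K =>
    (Subgroup.relIndex_le_of_le_right (le_top : K ≤ ⊤) (relIndex_ne_zero' _ _)).trans
      ((Subgroup.relIndex_top_right O).le.trans D.index)
  have eR : O.relIndex R * Nat.card X = Nat.card R := by
    rw [← Subgroup.inf_relIndex_right O R, inf_comm O R, hX]
    exact LocalEven.DispCount.relIndex_mul_card inf_le_left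
  have eZ : O.relIndex Z * Nat.card (Z ⊓ O : Subgroup P) = Nat.card Z := by
    rw [← Subgroup.inf_relIndex_right O Z, inf_comm O Z]
    exact LocalEven.DispCount.relIndex_mul_card inf_le_left
  -- the centralizer of `R ∩ O`
  have hCX : Y ⊔ Z ≤ Subgroup.centralizer (X : Set P) :=
    sup_le (Subgroup.le_centralizer_iff.1 (inf_le_right.trans D.cen))
      (Subgroup.centralizer_le (SetLike.coe_subset_coe.2 inf_le_left))
  have hYZ := card_sup_normal' Y Z
  have hval := val_le X
  have hf : Nat.card R * Nat.card Z = f := hR1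
  have hcC := Subgroup.card_le_of_le hCX
  have hlow : f ≤ Nat.card X * Nat.card (Y ⊔ Z : Subgroup P) := by
    rw [← hf, ← eR, hYZ]
    calc O.relIndex R * Nat.card X * Nat.card Z ≤ q * Nat.card X * Nat.card Z := by gcongr; exact hOle R
      _ ≤ Z.relIndex Y * Nat.card X * Nat.card Z := by gcongr
      _ = _ := by ring
  have hXl : IsCentralizerLarge X := large_of_ge (hlow.trans (Nat.mul_le_mul_left _ hcC))
  have hCXeq : Subgroup.centralizer (X : Set P) = Y ⊔ Z := by
    refine (Subgroup.eq_of_le_of_card_ge hCX ?_).symm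
    exact Nat.le_of_mul_le_mul_left ((hXl.le).trans hlow) Nat.card_pos
  have hORq : O.relIndex R = q := by
    refine le_antisymm (hOle R) (Nat.le_of_mul_le_mul_right ?_ (Nat.mul_pos (Nat.card_pos (α := X)) (Nat.card_pos (α := Z))))
    calc q * (Nat.card X * Nat.card Z) ≤ Z.relIndex Y * (Nat.card X * Nat.card Z) := by gcongr
      _ = Nat.card X * Nat.card (Y ⊔ Z : Subgroup P) := by rw [hYZ]; ring
      _ ≤ cdVal X := Nat.mul_le_mul_left _ hcC
      _ ≤ f := hval
      _ = _ := by rw [← hf, ← eR]; ring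
  -- `R = (R ∩ O) Z(R)`
  set T := X ⊔ Subgroup.centralizer (X : Set P) with hT
  obtain ⟨hset, hTl, -, -⟩ := large_sup_inf hXl (large_centralizer hXl).1
  have hCTR : Subgroup.centralizer ((R ⊓ T : Subgroup P) : Set P) ≤ R ⊓ T := by
    intro c hc
    obtain ⟨u, hu, w, hw, rfl⟩ : c ∈ (Subgroup.centralizer (R : Set P) : Set P) *
        (Subgroup.centralizer (T : Set P) : Set P) := (large_sup_inf hR1 hTl).2.2.2 ▸ hc
    have hu' : u ∈ R ⊓ T := ⟨hR2 hu, Subgroup.mem_sup_right (hCXeq.ge (Subgroup.mem_sup_right hu))⟩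
    have hw' : w ∈ X := by
      rw [hT, centralizer_sup'] at hw
      exact (large_centralizer hXl).2.ge hw.2
    exact mul_mem hu' ⟨hw'.1, Subgroup.mem_sup_left hw'⟩
  have hRT : R ⊓ T = R := hR.2 _ inf_le_left
    (centrallyLarge_iff.2 ⟨(large_sup_inf hR1 hTl).2.2.1, hCTR⟩)
  have hsplit : ∀ r ∈ R, ∃ x ∈ X, ∃ z ∈ Z, r = x * z := by
    intro r hr
    obtain ⟨x, hx, c, hc, e⟩ : r ∈ (X : Set P) * (Subgroup.centralizer (X : Set P) : Set P) :=
      hset ▸ (inf_eq_left.1 hRT hr : r ∈ T)
    obtain ⟨y, hy, z, hz, rfl⟩ := Subgroup.mem_sup_of_normal_left.1 (hCXeq.le hc)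
    have hyR : y ∈ R := by
      have e' : y = x⁻¹ * r * z⁻¹ := by rw [← e]; group
      rw [e']
      exact mul_mem (mul_mem (inv_mem hx.1) hr) (inv_mem (hR2 hz))
    exact ⟨x * y, mul_mem hx ⟨hyR, D.le hy⟩, z, hz, by rw [← e, mul_assoc]⟩
  have hZO : ¬ Z ≤ O := fun h => hx₀O (by
    obtain ⟨x, hx, z, hz, rfl⟩ := hsplit x₀ hx₀R
    exact mul_mem hx.2 (h hz))
  refine ⟨hZO, ?_⟩
  have hOZq : O.relIndex Z = q := by
    refine le_antisymm (hOle Z) (hORq ▸ ?_)
    rw [← Subgroup.relIndex_sup_right (H := Z) (K := O)]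
    refine Subgroup.relIndex_le_of_le_right (fun r hr => ?_) (relIndex_ne_zero' _ _)
    obtain ⟨x, hx, z, hz, rfl⟩ := hsplit r hr
    exact mul_mem (Subgroup.mem_sup_right hx.2) (Subgroup.mem_sup_left hz)
  have hYR : Y ⊓ R = Y ⊓ Z := by
    refine le_antisymm (fun y hy => ⟨hy.1, Subgroup.mem_centralizer_iff.2 fun r hr => ?_⟩)
      (inf_le_inf_left _ hR2)
    obtain ⟨x, hx, z, hz, rfl⟩ := hsplit r hr
    exact (Commute.mul_left (show Commute x y from
      (Subgroup.mem_centralizer_iff.1 (D.cen hx.2) y hy.1).symm)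
      (show Commute z y from (Subgroup.mem_centralizer_iff.1 hz y hy.2).symm)).eq
  -- the new centrally large subgroup
  set U := Y ⊔ X with hU
  set W := Y ⊔ (Z ⊓ O) with hW
  have hUO : U ≤ O := sup_le D.le inf_le_right
  have hWC : W ≤ Subgroup.centralizer (U : Set P) := by
    rw [hU, centralizer_sup']
    refine sup_le (le_inf ?_ ?_) (le_inf ?_ ?_)
    · haveI := D.commY
      exact Subgroup.le_centralizer Y
    · exact le_sup_left.trans hCX
    · exact inf_le_right.trans D.cen
    · exact inf_le_left.trans (Subgroup.centralizer_le (SetLike.coe_subset_coe.2 inf_le_left))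
  have hWU : W ≤ U := sup_le_sup_left (le_inf (inf_le_left.trans hR2) inf_le_right) Y
  have hcU : Nat.card R ≤ Nat.card U := by
    rw [hU, card_sup_normal' Y X, ← eR, hORq]
    refine Nat.mul_le_mul_right _ (le_trans ?_ (Subgroup.relIndex_le_of_le_left (inf_le_left : X ≤ R) (relIndex_ne_zero' _ _)))
    rw [← Subgroup.inf_relIndex_left Y R, hYR, Subgroup.inf_relIndex_left]
    exact hv
  have hcW : Nat.card Z ≤ Nat.card W := by
    rw [hW, card_sup_normal' Y (Z ⊓ O), ← eZ, hOZq]
    exact Nat.mul_le_mul_right _ (hv.trans (Subgroup.relIndex_le_of_le_left inf_le_left (relIndex_ne_zero' _ _)))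
  have hfU : f ≤ Nat.card U * Nat.card W := hf ▸ Nat.mul_le_mul hcU hcW
  have hUl : IsCentralizerLarge U := large_of_ge (hfU.trans (Nat.mul_le_mul_left _ (Subgroup.card_le_of_le hWC)))
  have hCU : Subgroup.centralizer (U : Set P) = W := by
    refine (Subgroup.eq_of_le_of_card_ge hWC ?_).symm
    exact Nat.le_of_mul_le_mul_left (hUl.le.trans hfU) Nat.card_pos
  have hUcl : IsCentrallyLarge U := centrallyLarge_iff.2 ⟨hUl, hCU.le.trans hWU⟩
  have hUR : Nat.card U ≤ Nat.card R := by
    refine Nat.le_of_mul_le_mul_right ?_ (Nat.card_pos (α := Z))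
    calc Nat.card U * Nat.card Z ≤ Nat.card U * Nat.card W := Nat.mul_le_mul_left _ hcW
      _ ≤ cdVal U := Nat.mul_le_mul_left _ (Subgroup.card_le_of_le hWC)
      _ ≤ f := val_le U
      _ = _ := hf.symm
  -- the elements of order `p`
  set Ω := omegaOne p Z with hΩ
  haveI hYn1 : (omegaOne p Y).Normal := omegaOne_normal' D.commY
  have eΩ : O.relIndex Ω * Nat.card (Ω ⊓ O : Subgroup P) = Nat.card Ω := by
    rw [← Subgroup.inf_relIndex_right O Ω, inf_comm O Ω]
    exact LocalEven.DispCount.relIndex_mul_card inf_le_left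
  have hΩR : omegaOneCenter p R = Ω := by
    rw [omegaOneCenter, inf_centralizer_eq hR.1, ← hZ]
  have hΩU : q * Nat.card (Ω ⊓ O : Subgroup P) ≤ Nat.card (omegaOneCenter p U) := by
    rw [omegaOneCenter, inf_centralizer_eq hUcl, hCU]
    have hc : IsMulCommutative Z :=
      ⟨⟨fun a b => Subtype.ext (Subgroup.mem_centralizer_iff.1 b.2 a (hR2 a.2))⟩⟩
    have hsub : omegaOne p Y ⊔ (Ω ⊓ O) ≤ omegaOne p W := by
      refine sup_le (omegaOne_mono' le_sup_left) fun z hz => ?_
      exact Subgroup.subset_closure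
        ⟨Subgroup.mem_sup_right ⟨omegaOne_le' hz.1, hz.2⟩, (omegaOne_pow hc hz.1).2⟩
    refine le_trans ?_ (Subgroup.card_le_of_le hsub)
    rw [card_sup_normal']
    exact Nat.mul_le_mul_right _ (hv1.trans
      (Subgroup.relIndex_le_of_le_left (inf_le_left.trans omegaOne_le') (relIndex_ne_zero' _ _)))
  refine ⟨U, minimal_of_card hR hUcl hUR, hUO, ?_, fun hmax r hr => ?_⟩
  · rw [hΩR, ← eΩ]
    exact (Nat.mul_le_mul_right _ (hOle Ω)).trans hΩU
  have hΩq : q ≤ O.relIndex Ω := by
    refine Nat.le_of_mul_le_mul_right (hΩU.trans (hmax.trans ?_)) Nat.card_pos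
    rw [hΩR, ← eΩ]
  have htop : Ω ⊔ O = ⊤ := by
    refine Subgroup.index_eq_one.1 ?_
    have e := Subgroup.relIndex_mul_index (le_sup_right : O ≤ Ω ⊔ O)
    rw [Subgroup.relIndex_sup_right] at e
    have h1 := D.index
    have h2 := Nat.pos_of_ne_zero (Subgroup.index_ne_zero_of_finite (H := Ω ⊔ O))
    by_contra hne
    have h3 : O.relIndex Ω * 2 ≤ O.index := e ▸ Nat.mul_le_mul_left _ (by omega)
    omega
  obtain ⟨w, hw, o, ho, rfl⟩ := Subgroup.mem_sup_of_normal_right.1 (htop.ge (Subgroup.mem_top r))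
  have hwR : w ∈ R := hR2 (omegaOne_le' hw)
  have hoX : o ∈ X := ⟨(Subgroup.mul_mem_cancel_left _ hwR).1 hr, ho⟩
  exact ⟨o, hoX, w, hw, Subgroup.mem_sup_right hoX,
    (Subgroup.mem_centralizer_iff.1 (omegaOne_le' hw) o hoX.1).symm⟩

omit [Finite P] in
theorem mem_omegaOneCenter {p : ℕ} {Q : Subgroup P} {x : P} (hx : x ∈ omegaOneCenter p Q) :
    x ∈ Q ⊓ Subgroup.centralizer (Q : Set P) := omegaOne_le' hx

/-- Transport of a centrally large subgroup along an embedding into `P`. -/
theorem transport {Q : Subgroup P} (hQ : IsMinimalCentrallyLarge Q) (f : ↥Q →* P) (hf : Function.Injective f) :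
    IsMinimalCentrallyLarge f.range := by
  have e : ↥Q ≃* f.range := MonoidHom.ofInjective hf
  have hc : Nat.card f.range = Nat.card Q := (Nat.card_congr e.toEquiv).symm
  refine minimal_of_card hQ ?_ hc.le
  have hQ1 := hQ.1
  unfold IsCentrallyLarge at hQ1 ⊢
  rw [hc, ← Nat.card_congr (Subgroup.centerCongr e).toEquiv]
  exact hQ1

theorem transport_commutator {Q : Subgroup P} (hQ : IsMinimalCentrallyLarge Q) (f : ↥Q →* P)
    (hf : Function.Injective f) (a b : ↥Q) : f ⁅a, b⁆ ∈ ⁅Q, Q⁆ := by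
  rw [(minimal_cards hQ (transport hQ f hf)).1, map_commutatorElement]
  exact Subgroup.commutator_mem_commutator ⟨a, rfl⟩ ⟨b, rfl⟩

theorem transport_omega {p : ℕ} {Q : Subgroup P} (f : ↥Q →* P) (hf : Function.Injective f) :
    Nat.card (omegaOneCenter p Q) ≤ Nat.card (omegaOneCenter p f.range) := by
  have hle : omegaOneCenter p Q ≤ Q := fun x hx => (mem_omegaOneCenter hx).1
  rw [← Nat.card_congr (Subgroup.subgroupOfEquivOfLe hle).toEquiv, ← Subgroup.card_map_of_injective hf]
  refine Subgroup.card_le_of_le ?_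
  rintro _ ⟨x, hx, rfl⟩
  have hgen : ∀ y : P, y ∈ omegaOneCenter p Q → ∀ hy : y ∈ Q, f ⟨y, hy⟩ ∈ omegaOneCenter p f.range := by
    intro y hy
    refine Subgroup.closure_induction (p := fun y _ => ∀ hy : y ∈ Q, f ⟨y, hy⟩ ∈ omegaOneCenter p f.range)
      ?_ ?_ ?_ ?_ hy
    · rintro y ⟨⟨-, hyC⟩, hyp⟩ hyQ
      refine Subgroup.subset_closure ⟨⟨⟨_, rfl⟩, Subgroup.mem_centralizer_iff.2 ?_⟩, ?_⟩
      · rintro _ ⟨a, rfl⟩
        rw [← map_mul, ← map_mul]
        exact congrArg f (Subtype.ext (Subgroup.mem_centralizer_iff.1 hyC a a.2))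
      · rw [← map_pow, show (⟨y, hyQ⟩ : ↥Q) ^ p = 1 from Subtype.ext hyp, map_one]
    · intro h
      rw [show (⟨1, h⟩ : ↥Q) = 1 from rfl, map_one]
      exact one_mem _
    · intro a b ha hb iha ihb h
      have haQ := (mem_omegaOneCenter ha).1
      have hbQ := (mem_omegaOneCenter hb).1
      rw [show (⟨a * b, h⟩ : ↥Q) = ⟨a, haQ⟩ * ⟨b, hbQ⟩ from rfl, map_mul]
      exact mul_mem (iha haQ) (ihb hbQ)
    · intro a ha iha h
      have haQ := (mem_omegaOneCenter ha).1
      rw [show (⟨a⁻¹, h⟩ : ↥Q) = ⟨a, haQ⟩⁻¹ from rfl, map_inv]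
      exact inv_mem (iha haQ)
  exact hgen _ hx x.2

theorem omega_le_max {p : ℕ} {Q : Subgroup P} (hQ : IsMinimalCentrallyLarge Q) :
    Nat.card (omegaOneCenter p Q) ≤ maxOmegaCenterOfMinimalCL p P := by
  refine le_csSup ?_ ⟨Q, hQ, rfl⟩
  exact ⟨Nat.card P, by rintro k ⟨R, -, rfl⟩; exact Subgroup.card_le_card_group _⟩

theorem exists_max {p : ℕ} : ∃ Q : Subgroup P, IsMinimalCentrallyLarge Q ∧
    Nat.card (omegaOneCenter p Q) = maxOmegaCenterOfMinimalCL p P := by
  obtain ⟨Q, hQ⟩ := exists_minimal (P := P)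
  exact Nat.sSup_mem (s := {k : ℕ | ∃ Q : Subgroup P, IsMinimalCentrallyLarge Q ∧
    Nat.card ↥(omegaOneCenter p Q) = k}) ⟨_, Q, hQ, rfl⟩
    ⟨Nat.card P, by rintro k ⟨R, -, rfl⟩; exact Subgroup.card_le_card_group _⟩

theorem frattini_le_join {p : ℕ} {Q : Subgroup P} (hQ : IsMinimalCentrallyLarge Q)
    (h : Nat.card (omegaOneCenter p Q) = maxOmegaCenterOfMinimalCL p P) :
    (frattini ↥Q).map Q.subtype ≤ frattiniOfMinimalCLJoin p P :=
  le_iSup (fun Q : {Q : Subgroup P // IsMinimalCentrallyLarge Q ∧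
    Nat.card ↥(omegaOneCenter p Q) = maxOmegaCenterOfMinimalCL p P} =>
      (frattini ↥(Q : Subgroup P)).map (Q : Subgroup P).subtype) ⟨Q, hQ, h⟩

/-- If there are no Frattini elements, the minimal centrally large subgroups are abelian and one is elementary. -/
theorem frattiniJoin_bot {p : ℕ} [Fact p.Prime] (hP : IsPGroup p P) (h : frattiniOfMinimalCLJoin p P = ⊥) :
    (∀ Q : Subgroup P, IsMinimalCentrallyLarge Q ↔ Q ∈ maxAbelianSubgroups P) ∧
      ∃ A ∈ maxAbelianSubgroups P, IsElementaryAbelian p A := by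
  obtain ⟨Q, hQ, hmax⟩ := exists_max (P := P) (p := p)
  have hb : frattini ↥Q = ⊥ :=
    (Subgroup.map_eq_bot_iff_of_injective _ Q.subtype_injective).1 (le_bot_iff.1 (h ▸ frattini_le_join hQ hmax))
  have hp := hP.to_subgroup Q
  have hQc : IsMulCommutative Q := ⟨⟨fun a b => commutatorElement_eq_one_iff_mul_comm.1
    (Subgroup.mem_bot.1 (hb ▸ Solv.commutatorElement_mem_frattini hp a b))⟩⟩
  refine ⟨minimal_iff_maxAbelian hQ hQc, Q, (minimal_iff_maxAbelian hQ hQc Q).1 hQ, hQc, fun a ha => ?_⟩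
  have h1 : (⟨a, ha⟩ : ↥Q) ^ p = 1 := Subgroup.mem_bot.1 (hb ▸ Solv.pow_mem_frattini hp _)
  exact congrArg Subtype.val h1

end CL

/-! ### Inside the group -/

universe u

variable {G : Type u} [Group G] [Finite G] {p n : ℕ} [hp : Fact p.Prime] {S : Sylow p G} {F : Type} [Field F]
  [Fintype F] {φ : G →* Matrix.ProjectiveSpecialLinearGroup (Fin 2) F} {R : Setting p n S F φ}

/-- Conjugation of a subgroup of `O_p(G)` back into the Sylow subgroup. -/
noncomputable def conjIn (R : Setting p n S F φ) (g : G) (Q : Subgroup ↥(S : Subgroup G))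
    (hQ : ∀ x ∈ Q, (x : G) ∈ pCore p G) : ↥Q →* ↥(S : Subgroup G) :=
  ((MulAut.conj g).toMonoidHom.comp ((S : Subgroup G).subtype.comp Q.subtype)).codRestrict (S : Subgroup G)
    fun x => R.Q_le (Subgroup.Normal.conj_mem inferInstance _ (hQ x x.2) g)

theorem conjIn_injective (R : Setting p n S F φ) (g : G) (Q : Subgroup ↥(S : Subgroup G))
    (hQ : ∀ x ∈ Q, (x : G) ∈ pCore p G) : Function.Injective (conjIn R g Q hQ) := fun _ _ h =>
  Subtype.ext (Subtype.ext ((MulAut.conj g).injective (congrArg Subtype.val h)))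

theorem normal_of_conj_le {N : Subgroup G} (h : ∀ g : G, ∀ x ∈ N, g * x * g⁻¹ ∈ N) : N.Normal :=
  ⟨fun x hx g => h g x hx⟩

theorem Offending.offData (O : Offending R) :
    OffData p (p ^ n) ((pCore p G).subgroupOf (S : Subgroup G)) ((yS (S : Subgroup G)).subgroupOf (S : Subgroup G)) where
  normO := inferInstance
  normY := inferInstance
  le := fun _ hx => R.Y_le_Q hx
  cen := fun x hx => Subgroup.mem_centralizer_iff.2 fun y hy =>
    Subtype.ext (Subgroup.mem_centralizer_iff.1 (R.Q_le_CY hx) y hy)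
  commY := ⟨⟨fun a b => by
    have h := congrArg Subtype.val (R.Y_comm.1.1 ⟨_, a.2⟩ ⟨_, b.2⟩)
    exact Subtype.ext (Subtype.ext h)⟩⟩
  index := R.relIndex_S_le
  disp := by
    haveI := O.Y1_normal
    intro x hx
    set Y' := (yS (S : Subgroup G)).subgroupOf (S : Subgroup G)
    have hle : omegaOne p (yS (S : Subgroup G)) ≤ (S : Subgroup G) :=
      omegaOne_le'.trans (R.Y_le_Q.trans R.Q_le)
    have hYc' : IsMulCommutative Y' := ⟨⟨fun a b => by
      have h := congrArg Subtype.val (R.Y_comm.1.1 ⟨_, a.2⟩ ⟨_, b.2⟩)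
      exact Subtype.ext (Subtype.ext h)⟩⟩
    have e1 : (omegaOne p Y').map (S : Subgroup G).subtype = omegaOne p (yS (S : Subgroup G)) := by
      refine le_antisymm ?_ ?_
      · rintro _ ⟨a, ha, rfl⟩
        obtain ⟨h1, h2⟩ := omegaOne_pow hYc' ha
        exact Subgroup.subset_closure ⟨h1, congrArg Subtype.val h2⟩
      · intro a ha
        obtain ⟨h1, h2⟩ := omegaOne_pow R.Y_comm ha
        exact ⟨⟨a, hle ha⟩, Subgroup.subset_closure ⟨h1, Subtype.ext h2⟩, rfl⟩
    have e2 : (omegaOne p Y' ⊓ Subgroup.centralizer ({x} : Set ↥(S : Subgroup G))).map (S : Subgroup G).subtype =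
        omegaOne p (yS (S : Subgroup G)) ⊓ Subgroup.centralizer ({(x : G)} : Set G) := by
      refine le_antisymm ?_ ?_
      · rintro _ ⟨a, ha, rfl⟩
        refine ⟨e1.le ⟨a, ha.1, rfl⟩, Subgroup.mem_centralizer_iff.2 ?_⟩
        rintro w rfl
        exact congrArg Subtype.val (Subgroup.mem_centralizer_iff.1 ha.2 x rfl)
      · rintro a ⟨ha, hax⟩
        obtain ⟨a', ha', rfl⟩ := e1.ge ha
        refine ⟨a', ⟨ha', Subgroup.mem_centralizer_iff.2 ?_⟩, rfl⟩
        rintro w rfl
        exact Subtype.ext (Subgroup.mem_centralizer_iff.1 hax w rfl)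
    have h := R.disp (R.Y_pgroup.to_le omegaOne_le') O.CY1 x.2 hx
    rwa [← e2, ← e1, Subgroup.relIndex_map_map_of_injective _ _ (S : Subgroup G).subtype_injective] at h

/-- All minimal centrally large subgroups lie in `O_p(G)`, or we are in the offending case, or `Z(S)` is central. -/
theorem Setting.clCases (R : Setting p n S F φ)
    (hJ : (S : Subgroup G) ≤ Subgroup.centralizer (centerThompsonAOf (S : Subgroup G) : Set G))
    (Q : Subgroup ↥(S : Subgroup G)) (hQ : ¬ Q ≤ (pCore p G).subgroupOf (S : Subgroup G)) :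
    zS (S : Subgroup G) ≤ Subgroup.center G ∨ Offending R := by
  rcases R.cases with h | h | h
  · exact Or.inl h
  · exfalso
    rw [cZJ, inf_eq_left.2 hJ] at h
    haveI := h
    exact hQ fun x _ => Fusion.le_pCore S.2 x.2
  · exact Or.inr h

/-- `Z(S) ∩ [Q, Q]` is central unless the join of the minimal centrally large subgroups is normal. -/
theorem derived_or_join (R : Setting p n S F φ)
    (hJ : (S : Subgroup G) ≤ Subgroup.centralizer (centerThompsonAOf (S : Subgroup G) : Set G))
    {Q : Subgroup ↥(S : Subgroup G)} (hQ : IsMinimalCentrallyLarge Q) :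
    zS (S : Subgroup G) ⊓ (⁅Q, Q⁆).map (S : Subgroup G).subtype ≤ Subgroup.center G ∨
      ((minimalCentrallyLargeJoin ↥(S : Subgroup G)).map (S : Subgroup G).subtype).Normal := by
  set O := (pCore p G).subgroupOf (S : Subgroup G) with hO
  by_cases hall : ∀ T : Subgroup ↥(S : Subgroup G), IsMinimalCentrallyLarge T → T ≤ O
  · right
    refine normal_of_conj_le fun g x hx => ?_
    have h1 : (minimalCentrallyLargeJoin ↥(S : Subgroup G)).map (S : Subgroup G).subtype ≤
        ((minimalCentrallyLargeJoin ↥(S : Subgroup G)).map (S : Subgroup G).subtype).comap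
          (MulAut.conj g).toMonoidHom := by
      rw [Subgroup.map_le_iff_le_comap]
      refine sSup_le fun T hT => ?_
      intro t ht
      exact ⟨conjIn R g T (fun y hy => hall T hT hy) ⟨t, ht⟩,
        (le_sSup (s := {R : Subgroup ↥(S : Subgroup G) | IsMinimalCentrallyLarge R}) (transport hT _ (conjIn_injective R g T _))) ⟨_, rfl⟩, rfl⟩
    exact h1 hx
  · left
    simp only [not_forall] at hall
    obtain ⟨T, hT, hTO⟩ := hall
    rcases R.clCases hJ T hTO with hc | hO'
    · exact inf_le_left.trans hc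
    obtain ⟨hZ, U, hU, hUO, -⟩ := hO'.offData.inner hT hTO
    set D := (⁅Q, Q⁆).map (S : Subgroup G).subtype with hD
    haveI hDn : D.Normal := by
      refine normal_of_conj_le fun g x hx => ?_
      have h1 : D ≤ D.comap (MulAut.conj g).toMonoidHom := by
        rw [hD, (minimal_cards hQ hU).1, Subgroup.map_le_iff_le_comap]
        refine Subgroup.commutator_le.2 fun a ha b hb => ?_
        refine ⟨conjIn R g U (fun y hy => hUO hy) ⁅(⟨a, ha⟩ : ↥U), ⟨b, hb⟩⁆,
          transport_commutator hU _ (conjIn_injective R g U _) _ _, rfl⟩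
      exact h1 hx
    have hcen : ∀ z ∈ Subgroup.centralizer (T : Set ↥(S : Subgroup G)),
        (z : G) ∈ Subgroup.centralizer (D : Set G) := by
      intro z hz
      refine Subgroup.mem_centralizer_iff.2 ?_
      rintro _ ⟨d, hd, rfl⟩
      rw [(minimal_cards hQ hT).1] at hd
      have hdT : d ∈ T := Subgroup.commutator_le.2 (fun a ha b hb =>
        mul_mem (mul_mem (mul_mem ha hb) (inv_mem ha)) (inv_mem hb)) hd
      exact congrArg Subtype.val (Subgroup.mem_centralizer_iff.1 hz d hdT)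
    obtain ⟨z, hz, hzO⟩ := SetLike.not_le_iff_exists.1 hZ
    rintro t ⟨htS, htD⟩
    refine R.mem_center (N := Subgroup.centralizer (D : Set G))
      (fun hc => hzO (R.inf_le_Q hc ⟨z.2, hcen z hz⟩))
      (fun g hg => (Subgroup.mem_centralizer_iff.1 hg t htD).symm)
      fun g hg => Subgroup.mem_centralizer_iff.1 htS.2 g hg

/-- `Z(S)` is central unless `S_Φ` is normal. -/
theorem center_or_frattini (R : Setting p n S F φ)
    (hJ : (S : Subgroup G) ≤ Subgroup.centralizer (centerThompsonAOf (S : Subgroup G) : Set G)) :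
    zS (S : Subgroup G) ≤ Subgroup.center G ∨
      ((frattiniOfMinimalCLJoin p ↥(S : Subgroup G)).map (S : Subgroup G).subtype).Normal := by
  set O := (pCore p G).subgroupOf (S : Subgroup G) with hO
  set m := maxOmegaCenterOfMinimalCL p ↥(S : Subgroup G) with hm
  set Φ := frattiniOfMinimalCLJoin p ↥(S : Subgroup G) with hΦ
  -- conjugates of generators from inside `O_p(G)`
  have key : ∀ T : Subgroup ↥(S : Subgroup G), IsMinimalCentrallyLarge T →
      Nat.card (omegaOneCenter p T) = m → T ≤ O → ∀ g : G,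
      (((frattini ↥T).map T.subtype).map (S : Subgroup G).subtype).map (MulAut.conj g).toMonoidHom ≤
        Φ.map (S : Subgroup G).subtype := by
    intro T hT hTm hTO g
    set f := conjIn R g T (fun y hy => hTO hy) with hf
    have hinj : Function.Injective f := conjIn_injective R g T _
    have hT' := transport hT f hinj
    have hm' : Nat.card (omegaOneCenter p f.range) = m :=
      le_antisymm (omega_le_max hT') (hTm ▸ transport_omega f hinj)
    have hle := frattini_le_join hT' hm'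
    rintro _ ⟨_, ⟨_, ⟨t, ht, rfl⟩, rfl⟩, rfl⟩
    refine ⟨f t, hle ?_, rfl⟩
    have hp1 : IsPGroup p f.range := S.2.to_subgroup _
    have h2 : frattini ↥T ≤ (frattini ↥f.range).comap f.rangeRestrict :=
      Solv.frattini_le (p := p) _
        (fun a b => by
          rw [Subgroup.mem_comap, map_commutatorElement]
          exact Solv.commutatorElement_mem_frattini hp1 _ _)
        fun a => by
          rw [Subgroup.mem_comap, map_pow]
          exact Solv.pow_mem_frattini hp1 _
    exact ⟨_, h2 ht, rfl⟩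
  by_cases hall : ∀ T : Subgroup ↥(S : Subgroup G), IsMinimalCentrallyLarge T →
      Nat.card (omegaOneCenter p T) = m → T ≤ O
  · right
    refine normal_of_conj_le fun g x hx => ?_
    have h1 : Φ.map (S : Subgroup G).subtype ≤
        (Φ.map (S : Subgroup G).subtype).comap (MulAut.conj g).toMonoidHom := by
      rw [hΦ, frattiniOfMinimalCLJoin, Subgroup.map_iSup]
      refine iSup_le fun T => ?_
      rw [← Subgroup.map_le_iff_le_comap, ← Subgroup.map_iSup]
      exact key T.1 T.2.1 T.2.2 (hall T.1 T.2.1 T.2.2) g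
    exact h1 hx
  · simp only [not_forall] at hall
    obtain ⟨T₀, hT₀, -, hT₀O⟩ := hall
    rcases R.clCases hJ T₀ hT₀O with hc | hO'
    · exact Or.inl hc
    right
    refine normal_of_conj_le fun g x hx => ?_
    have h1 : Φ.map (S : Subgroup G).subtype ≤
        (Φ.map (S : Subgroup G).subtype).comap (MulAut.conj g).toMonoidHom := by
      rw [hΦ, frattiniOfMinimalCLJoin, Subgroup.map_iSup]
      refine iSup_le fun T => ?_
      rw [← Subgroup.map_le_iff_le_comap, ← Subgroup.map_iSup]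
      by_cases hTO : T.1 ≤ O
      · exact key T.1 T.2.1 T.2.2 hTO g
      obtain ⟨-, U, hU, hUO, hge, hdec⟩ := hO'.offData.inner T.2.1 hTO
      have hUm : Nat.card (omegaOneCenter p U) = m := le_antisymm (omega_le_max hU) (T.2.2.symm.le.trans hge)
      refine le_trans (Subgroup.map_mono (Subgroup.map_mono ?_)) (key U hU hUm hUO g)
      -- `Φ(T) ≤ Φ(U)`
      obtain ⟨T, hT, hTm⟩ := T
      have hdec' := hdec (by rw [hUm, hTm])
      have hUp : IsPGroup p U := S.2.to_subgroup U
      set N := ((frattini ↥U).map U.subtype).subgroupOf T with hN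
      have hcomm : ∀ a b : ↥T, ⁅a, b⁆ ∈ N := fun a b => by
        have h3 : ((⁅a, b⁆ : ↥T) : ↥(S : Subgroup G)) ∈ ⁅U, U⁆ :=
          (minimal_cards hT hU).1 ▸ Subgroup.commutator_mem_commutator a.2 b.2
        rw [hN, Subgroup.mem_subgroupOf]
        refine Subgroup.commutator_le.2 (fun u hu v hv => ?_) h3
        exact ⟨⁅(⟨u, hu⟩ : ↥U), ⟨v, hv⟩⁆, Solv.commutatorElement_mem_frattini hUp _ _, rfl⟩
      haveI : N.Normal := ⟨fun a ha b => by
        rw [show b * a * b⁻¹ = ⁅b, a⁆ * a by rw [commutatorElement_def]; group]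
        exact mul_mem (hcomm b a) ha⟩
      have hfin := Solv.frattini_le (p := p) N hcomm fun a => by
        obtain ⟨y, hy, w, hw, hyU, e⟩ := hdec' a a.2
        have hwC := omegaOne_le' hw
        have hcw : Commute y w := Subgroup.mem_centralizer_iff.1 hwC y hy.1
        have hwp : w ^ p = 1 := (omegaOne_pow (Y := Subgroup.centralizer (T : Set ↥(S : Subgroup G)))
          ⟨⟨fun c d => Subtype.ext (Subgroup.mem_centralizer_iff.1 d.2 c
            ((centrallyLarge_iff.1 hT.1).2 c.2))⟩⟩ hw).2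
        rw [hN, Subgroup.mem_subgroupOf, SubmonoidClass.coe_pow, e, hcw.mul_pow, hwp, mul_one]
        exact ⟨_, Solv.pow_mem_frattini hUp ⟨y, hyU⟩, rfl⟩
      rintro _ ⟨t, ht, rfl⟩
      exact hfin ht
    exact h1 hx

end Cfsg.Agent.PushUp
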