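import Cfsg.Agent.Lib.PushUp.SpreadCoord

/-!
# Two coordinate systems differ by a field isomorphism
-/

set_option autoImplicit false

namespace Cfsg.Agent.PushUp

open Cfsg.Agent Cfsg.Agent.Small
open Cfsg.Agent.Fusion.Dickson (mul_entry inv_entries ext' det_eq)

universe u w w'

variable {G : Type u} [Group G] {S Q M : Subgroup G} {g s₁ : G} {F : Type w} [Field F] [Fintype F]
  {R : G →* Matrix.SpecialLinearGroup (Fin 2) F}

theorem u_entries (a : F) : (NatSL2.u a).1 0 0 = 1 ∧ (NatSL2.u a).1 0 1 = a ∧ (NatSL2.u a).1 1 0 = 0 ∧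
    (NatSL2.u a).1 1 1 = 1 := by
  simp [NatSL2.u]

theorem vS_entries (a : F) : (PSL2.vS a : Matrix.SpecialLinearGroup (Fin 2) F).1 0 0 = 1 ∧
    (PSL2.vS a : Matrix.SpecialLinearGroup (Fin 2) F).1 0 1 = 0 ∧
    (PSL2.vS a : Matrix.SpecialLinearGroup (Fin 2) F).1 1 0 = a ∧
    (PSL2.vS a : Matrix.SpecialLinearGroup (Fin 2) F).1 1 1 = 1 := by
  simp [PSL2.vS]

/-- An antidiagonal matrix. -/
def antiDiag (a : F) (ha : a ≠ 0) : Matrix.SpecialLinearGroup (Fin 2) F :=
  ⟨!![0, a; -a⁻¹, 0], by simp [Matrix.det_fin_two, ha]⟩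

theorem antiDiag_entries (a : F) (ha : a ≠ 0) : (antiDiag a ha).1 0 0 = 0 ∧ (antiDiag a ha).1 0 1 = a ∧
    (antiDiag a ha).1 1 0 = -a⁻¹ ∧ (antiDiag a ha).1 1 1 = 0 := by
  simp [antiDiag]

theorem word_m (a : F) (ha : a ≠ 0) : NatSL2.u a * PSL2.vS (-a)⁻¹ * NatSL2.u a = antiDiag a ha := by
  apply ext' <;> simp only [mul_entry, u_entries, vS_entries, antiDiag_entries] <;> field_simp <;> ring

theorem diag_conj (a b : F) (ha : a ≠ 0) :
    NatSL2.u a * PSL2.vS (-a)⁻¹ * NatSL2.u a * (NatSL2.u 1 * PSL2.vS (-1)⁻¹ * NatSL2.u 1)⁻¹ * NatSL2.u b *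
      (NatSL2.u a * PSL2.vS (-a)⁻¹ * NatSL2.u a * (NatSL2.u 1 * PSL2.vS (-1)⁻¹ * NatSL2.u 1)⁻¹)⁻¹ =
      NatSL2.u (a * a * b) := by
  rw [word_m a ha, word_m (1 : F) one_ne_zero, mul_inv_eq_iff_eq_mul]
  obtain ⟨i1, i2, i3, i4⟩ := inv_entries (antiDiag (1 : F) one_ne_zero)
  apply ext' <;> simp only [mul_entry, u_entries, antiDiag_entries, i1, i2, i3, i4] <;> field_simp <;> ring

namespace Coord

variable (hR : Coord S Q M g s₁ R)
include hR

theorem g10 : (R g).1 1 0 ≠ 0 := fun h => by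
  have hd := det_eq (R g)
  rw [hR.g00, h] at hd
  simp at hd

theorem conj_lower (e : F) : R g * NatSL2.u e * (R g)⁻¹ = PSL2.vS (-((R g).1 1 0 * (R g).1 1 0 * e)) := by
  obtain ⟨i1, i2, i3, i4⟩ := inv_entries (R g)
  have hd := det_eq (R g)
  rw [hR.g00] at hd i4
  apply ext' <;>
    simp only [mul_entry, i1, i2, i3, i4, hR.g00, u_entries, vS_entries] <;>
    grind

/-- The conjugates of `S` are lower unitriangular. -/
theorem lower {s : G} (hs : s ∈ S) : ∃ c, R (g * s * g⁻¹) = PSL2.vS c := by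
  obtain ⟨a, ha⟩ := hR.upper s hs
  exact ⟨_, by rw [map_mul, map_mul, map_inv, ha, hR.conj_lower]⟩

theorem exists_lower (c : F) : ∃ s ∈ S, R (g * s * g⁻¹) = PSL2.vS c := by
  obtain ⟨s, hs, ha⟩ := hR.exists_upper (-(c / ((R g).1 1 0 * (R g).1 1 0)))
  refine ⟨s, hs, ?_⟩
  have := hR.g10
  rw [map_mul, map_mul, map_inv, ha, hR.conj_lower]
  congr 1
  field_simp

/-- When the product of two slopes is one. -/
theorem link {s t : G} {a c : F} (ha : R s = NatSL2.u a) (hc : R (g * t * g⁻¹) = PSL2.vS c) :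
    g⁻¹ * s⁻¹ * (g * t * g⁻¹) ∈ M ↔ a * c = 1 := by
  rw [hR.mem_M, map_mul, map_mul, map_inv, map_inv, ha, hc]
  obtain ⟨i1, i2, i3, i4⟩ := inv_entries (R g)
  obtain ⟨j1, j2, j3, j4⟩ := inv_entries (NatSL2.u a)
  simp only [mul_entry, i1, i2, i3, i4, j1, j2, j3, j4, hR.g00, u_entries, vS_entries]
  have := hR.g10
  grind

/-- A normal subgroup inside `M` consists of scalars. -/
theorem scalar {K : Subgroup G} (hK : K.Normal) (hKM : K ≤ M) {x : G} (hx : x ∈ K) :
    (R x).1 1 0 = 0 ∧ (R x).1 0 1 = 0 := by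
  refine ⟨(hR.mem_M x).1 (hKM hx), ?_⟩
  have h1 := (hR.mem_M _).1 (hKM (hK.conj_mem x hx g⁻¹))
  rw [inv_inv, map_mul, map_mul, map_inv] at h1
  obtain ⟨i1, i2, i3, i4⟩ := inv_entries (R g)
  simp only [mul_entry, i1, i2, i3, i4, hR.g00] at h1
  have := hR.g10
  grind

theorem ker_le : R.ker ≤ M := fun x hx => (hR.mem_M x).2 (by rw [show R x = 1 from hx]; simp)

theorem eq_zero_of_u {a : F} {K : Subgroup G} (hK : K.Normal) (hKM : K ≤ M) {x : G} (hx : x ∈ K)
    (ha : R x = NatSL2.u a) : a = 0 := by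
  have := (hR.scalar hK hKM hx).2
  rwa [ha, (u_entries a).2.1] at this

/-- Two coordinate systems differ by an isomorphism of fields. -/
theorem rigid {F' : Type w'} [Field F'] [Fintype F'] {R' : G →* Matrix.SpecialLinearGroup (Fin 2) F'}
    (hR' : Coord S Q M g s₁ R') (hs₁ : s₁ ∈ S)
    (gen : ∀ H : Subgroup G, S ≤ H → (∀ s ∈ S, g * s * g⁻¹ ∈ H) → H = ⊤) :
    ∃ θ : F →+* F', R' = (Matrix.SpecialLinearGroup.map (n := Fin 2) θ).comp R := by
  classical
  choose rep hrepS hrep using hR.exists_upper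
  choose f hf using fun a => hR'.upper (rep a) (hrepS a)
  have hu0 : ∀ {F₁ : Type w'} [Field F₁], (NatSL2.u (0 : F₁) : Matrix.SpecialLinearGroup (Fin 2) F₁) = 1 := by
    intro F₁ _
    ext i j; fin_cases i <;> fin_cases j <;> simp [NatSL2.u]
  have hwd : ∀ {s : G} (_ : s ∈ S) {a : F}, R s = NatSL2.u a → R' s = NatSL2.u (f a) := by
    intro s hs a ha
    have h1 : (rep a)⁻¹ * s ∈ Q := hR.ker_S _ (mul_mem (inv_mem (hrepS a)) hs)
      (by rw [map_mul, map_inv, hrep, ha, inv_mul_cancel])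
    have h2 := hR'.Q_one _ h1
    rw [map_mul, map_inv, hf, inv_mul_eq_one] at h2
    exact h2.symm
  have hadd : ∀ a b, f (a + b) = f a + f b := fun a b => NatSL2.u_inj (by
    rw [← hwd (mul_mem (hrepS a) (hrepS b)) (by rw [map_mul, hrep, hrep, NatSL2.u_mul]), map_mul, hf, hf,
      NatSL2.u_mul])
  have h0 : f 0 = 0 := by simpa using hadd 0 0
  have h1 : f 1 = 1 := NatSL2.u_inj ((hwd hs₁ hR.one).symm.trans hR'.one)
  have hneg : ∀ a, f (-a) = -f a := fun a => eq_neg_of_add_eq_zero_left (by rw [← hadd, neg_add_cancel, h0])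
  have hne : ∀ a, a ≠ 0 → f a ≠ 0 := fun a ha hfa => by
    have h2 := hR.Q_one _ (hR'.ker_S _ (hrepS a) (by rw [hf, hfa, hu0]))
    rw [hrep] at h2
    have h3 := congrArg (fun m : Matrix.SpecialLinearGroup (Fin 2) F => m.1 0 1) h2
    simp [NatSL2.u] at h3
    exact ha h3
  -- lower unitriangular elements
  have hv : ∀ a, a ≠ 0 → ∀ t ∈ S, R (g * t * g⁻¹) = PSL2.vS a⁻¹ → R' (g * t * g⁻¹) = PSL2.vS (f a)⁻¹ := by
    intro a ha t ht htR
    obtain ⟨c, hc⟩ := hR'.lower ht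
    have h2 := (hR.link (hrep a) htR).2 (mul_inv_cancel₀ ha)
    rw [hR'.link (hf a) hc] at h2
    rw [hc, eq_inv_of_mul_eq_one_right h2]
  -- squares
  have hsq : ∀ a b, f (a * a * b) = f a * f a * f b := by
    intro a b
    by_cases ha : a = 0
    · simp [ha, h0]
    obtain ⟨t, ht, htR⟩ := hR.exists_lower (-a)⁻¹
    obtain ⟨t₁, ht₁, ht₁R⟩ := hR.exists_lower (-1 : F)⁻¹
    set D := rep a * (g * t * g⁻¹) * rep a * (rep 1 * (g * t₁ * g⁻¹) * rep 1)⁻¹
    have hD : R D = NatSL2.u a * PSL2.vS (-a)⁻¹ * NatSL2.u a *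
        (NatSL2.u 1 * PSL2.vS (-1)⁻¹ * NatSL2.u 1)⁻¹ := by
      have e : R D = R (rep a) * R (g * t * g⁻¹) * R (rep a) * (R (rep 1) * R (g * t₁ * g⁻¹) * R (rep 1))⁻¹ := by
        simp only [D, map_mul, map_inv]
      rw [e, htR, ht₁R, hrep, hrep]
    have hD' : R' D = NatSL2.u (f a) * PSL2.vS (-f a)⁻¹ * NatSL2.u (f a) *
        (NatSL2.u 1 * PSL2.vS (-1)⁻¹ * NatSL2.u 1)⁻¹ := by
      have e : R' D = R' (rep a) * R' (g * t * g⁻¹) * R' (rep a) *
          (R' (rep 1) * R' (g * t₁ * g⁻¹) * R' (rep 1))⁻¹ := by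
        simp only [D, map_mul, map_inv]
      rw [e, hv _ (neg_ne_zero.2 ha) t ht htR, hv _ (neg_ne_zero.2 one_ne_zero) t₁ ht₁ ht₁R, hf, hf, hneg, hneg, h1]
    set X := D * rep b * D⁻¹ * (rep (a * a * b))⁻¹
    have hX : X ∈ R.ker := by
      rw [MonoidHom.mem_ker, map_mul, map_mul, map_mul, map_inv, map_inv, hD, hrep, hrep, diag_conj a b ha,
        mul_inv_cancel]
    have hX' : R' X = NatSL2.u (f a * f a * f b - f (a * a * b)) := by
      rw [map_mul, map_mul, map_mul, map_inv, map_inv, hD', hf, hf, diag_conj _ _ (hne a ha)]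
      rw [mul_inv_eq_iff_eq_mul, NatSL2.u_mul, sub_add_cancel]
    exact (sub_eq_zero.1 (hR'.eq_zero_of_u R.normal_ker hR.ker_le hX hX')).symm
  -- multiplicative
  have hsq1 : ∀ a, f (a * a) = f a * f a := fun a => by simpa [h1] using hsq a 1
  have hsub : ∀ a b, f (a - b) = f a - f b := fun a b => by rw [sub_eq_add_neg, hadd, hneg, sub_eq_add_neg]
  have hmul : ∀ a b, f (a * b) = f a * f b := by
    intro a b
    by_cases h2 : (2 : F) = 0
    · have hi : Function.Injective fun x : F => x * x := fun x y h => by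
        change x * x = y * y at h
        have h3 : (x - y) * (x - y) = 0 := by linear_combination h + (y * y - x * y) * h2
        exact sub_eq_zero.1 (mul_self_eq_zero.1 h3)
      obtain ⟨c, rfl⟩ := (Finite.injective_iff_surjective.1 hi) a
      show f (c * c * b) = f (c * c) * f b
      rw [hsq, hsq1]
    · have key : ∀ x, f ((x + x) * b) = f (x + x) * f b := fun x => by
        rw [show (x + x) * b = (x + 1) * (x + 1) * b - x * x * b - b by ring,
          show x + x = (x + 1) * (x + 1) - x * x - 1 by ring, hsub, hsub, hsq, hsq, hsub, hsub, hsq1, hsq1, h1]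
        ring
      have := key (a / 2)
      rwa [show a / 2 + a / 2 = a by field_simp; ring] at this
  let θ : F →+* F' := { toFun := f, map_one' := h1, map_zero' := h0, map_add' := hadd, map_mul' := hmul }
  refine ⟨θ, ?_⟩
  have hmu : ∀ a, Matrix.SpecialLinearGroup.map (n := Fin 2) θ (NatSL2.u a) = NatSL2.u (f a) := fun a => by
    ext i j
    rw [Matrix.SpecialLinearGroup.map_apply_coe]
    fin_cases i <;> fin_cases j <;> simp [NatSL2.u, θ, h1, h0]
  have hmv : ∀ a, Matrix.SpecialLinearGroup.map (n := Fin 2) θ (PSL2.vS a) = PSL2.vS (f a) := fun a => by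
    ext i j
    rw [Matrix.SpecialLinearGroup.map_apply_coe]
    fin_cases i <;> fin_cases j <;> simp [PSL2.vS, θ, h1, h0]
  have hle : R'.eqLocus ((Matrix.SpecialLinearGroup.map (n := Fin 2) θ).comp R) = ⊤ := by
    refine gen _ (fun s hs => ?_) fun t ht => ?_
    · obtain ⟨a, ha⟩ := hR.upper s hs
      show R' s = Matrix.SpecialLinearGroup.map (n := Fin 2) θ (R s)
      rw [hwd hs ha, ha, hmu]
    · obtain ⟨c, hc⟩ := hR.lower ht
      show R' (g * t * g⁻¹) = Matrix.SpecialLinearGroup.map (n := Fin 2) θ (R (g * t * g⁻¹))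
      rw [hc, hmv]
      by_cases hc0 : c = 0
      · subst hc0
        have h4 : t ∈ Q := hR.ker_S t ht (by
          have h5 : PSL2.vS (0 : F) = 1 := by ext i j; fin_cases i <;> fin_cases j <;> simp [PSL2.vS]
          rw [h5, map_mul, map_mul, map_inv, mul_inv_eq_one, mul_eq_left] at hc
          exact hc)
        rw [map_mul, map_mul, hR'.Q_one t h4, mul_one, map_inv, mul_inv_cancel, h0]
        ext i j; fin_cases i <;> fin_cases j <;> simp [PSL2.vS]
      · rw [hv c⁻¹ (inv_ne_zero hc0) t ht (by rw [inv_inv]; exact hc)]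
        congr 1
        exact (map_inv₀ θ c⁻¹).symm.trans (by rw [inv_inv]; rfl)
  exact MonoidHom.ext fun x => hle.ge (Subgroup.mem_top x)

end Coord

end Cfsg.Agent.PushUp
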