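import Cfsg.Agent.Lib.PushUp.Amalgam

/-!
# Critical paths in the amalgam
-/

set_option autoImplicit false

open scoped commutatorElement

namespace Cfsg.Agent.PushUp

open Cfsg

universe u

variable {G : Type u} [Group G] {S : Subgroup G}

/-- The subgroup generated by all the automorphic images of `Y` in `S`. -/
def autClosure (S Y : Subgroup G) : Subgroup G :=
  ⨆ σ : MulAut ↥S, ((Y.subgroupOf S).map σ.toMonoidHom).map S.subtype

theorem autClosure_le (S Y : Subgroup G) : autClosure S Y ≤ S := iSup_le fun _ => Subgroup.map_subtype_le _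

theorem le_autClosure (Y : Subgroup G) (hY : Y ≤ S) : Y ≤ autClosure S Y :=
  fun y hy => Subgroup.mem_iSup_of_mem (1 : MulAut ↥S) ⟨⟨y, hY hy⟩, ⟨⟨y, hY hy⟩, hy, rfl⟩, rfl⟩

theorem autClosure_char (S Y : Subgroup G) (τ : MulAut ↥S) (x : ↥S) (hx : (x : G) ∈ autClosure S Y) :
    (τ x : G) ∈ autClosure S Y := by
  have key : autClosure S Y ≤ (((autClosure S Y).subgroupOf S).comap τ.toMonoidHom).map S.subtype := by
    refine iSup_le fun σ => ?_
    rintro _ ⟨_, ⟨z, hz, rfl⟩, rfl⟩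
    refine ⟨σ z, ?_, rfl⟩
    exact (le_iSup (fun σ : MulAut ↥S => ((Y.subgroupOf S).map σ.toMonoidHom).map S.subtype) (τ * σ))
      ⟨_, ⟨z, hz, rfl⟩, rfl⟩
  obtain ⟨w, hw, hwx⟩ := key hx
  obtain rfl : w = x := Subtype.ext hwx
  exact hw

theorem map_autClosure_le (f : Amal S) (α : MulAut ↥S) (Y : Subgroup G) {H : Subgroup (Amal S)}
    (hH : ∀ β : MulAut ↥S, Y.map (emb f β) ≤ H) : (autClosure S Y).map (emb f α) ≤ H := by
  rw [autClosure, Subgroup.map_iSup]
  refine iSup_le fun σ => ?_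
  rintro _ ⟨_, ⟨_, ⟨z, hz, rfl⟩, rfl⟩, rfl⟩
  refine hH (σ⁻¹ * α) ⟨z, hz, ?_⟩
  have := emb_mem_S f α (σ⁻¹ * α) (σ z)
  simp only [MulAut.mul_apply, MulAut.apply_inv_self, MulAut.inv_apply_self] at this
  exact this.symm

theorem conj_mem_map {X : Subgroup G} (hX : X.Normal) {f : Amal S} {α : MulAut ↥S} {x g : Amal S}
    (hx : x ∈ X.map (emb f α)) (hg : g ∈ (emb f α).range) : g * x * g⁻¹ ∈ X.map (emb f α) := by
  obtain ⟨a, ha, rfl⟩ := hx
  obtain ⟨b, rfl⟩ := hg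
  exact ⟨_, hX.conj_mem a ha b, by simp⟩

variable {Q Y M : Subgroup G} {p q b : ℕ}

theorem Crit.link {d : ℕ → Dart S} (hc : Crit Q Y b d) (hb : 2 ≤ b) : Link (d 0) (d 1) :=
  hc.chain 0 (by omega)

namespace PUp

variable (h : PUp S Q Y M p q) (hmin : ShortPaths Q Y b S) (hb : 2 ≤ b)
include h hmin hb

theorem short_commute {k : ℕ} (hk1 : 1 ≤ k) (hk : k < b) {d : ℕ → Dart S} (hd : Chain k d) {x y : Amal S}
    (hx : x ∈ (d 0).src Y) (hy : y ∈ (d (k - 1)).tgt Y) : Commute y x :=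
  h.commute_Q (hmin k hk1 hk d hd hx) hy

variable {d : ℕ → Dart S} (hc : Crit Q Y b d)
include hc

theorem src_sh_last : (d 0).src Y ≤ sh (d (b - 1)).f := by
  have h1 := hmin (b - 1) (by omega) (by omega) d (hc.chain.mono (by omega))
  have hl := hc.chain (b - 1 - 1) (by omega)
  rw [show b - 1 - 1 + 1 = b - 1 by omega] at hl
  refine h1.trans ?_
  rw [← hl.src_eq h.Qn]
  exact h.Q_sh _ _

theorem not_le' : ¬ (d (b - 1)).tgt Y ≤ (d 0).src Q := by
  intro hle
  obtain ⟨x, hx, hxQ⟩ := SetLike.not_le_iff_exists.1 hc.not_le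
  exact h.Y_not_le_zh (d (b - 1)).f (d (b - 1)).r fun z hz =>
    h.sep' hz (h.src_sh_last hmin hb hc hx) hxQ (h.commute_Q (hle hz) hx).symm

theorem crit_rev : Crit Q Y b (revD b d) := by
  refine ⟨hc.chain.reverse, ?_⟩
  show ¬ (d (b - 1 - 0)).rev.src Y ≤ (d (b - 1 - (b - 1))).rev.tgt Q
  rw [Nat.sub_zero, Nat.sub_self]
  exact h.not_le' hmin hb hc

theorem tgt_sh_first : (d (b - 1)).tgt Y ≤ sh (d 0).f := by
  have h1 := h.src_sh_last hmin hb (h.crit_rev hmin hb hc)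
  change (d (b - 1 - 0)).rev.src Y ≤ sh (d (b - 1 - (b - 1))).rev.f at h1
  rwa [Nat.sub_zero, Nat.sub_self] at h1

theorem exists_w : ∃ w ∈ (d (b - 1)).tgt Y, w ∈ sh (d 0).f ∧ w ∉ (d 0).src Q := by
  obtain ⟨w, hw, hwQ⟩ := SetLike.not_le_iff_exists.1 (h.not_le' hmin hb hc)
  exact ⟨w, hw, h.tgt_sh_first hmin hb hc hw, hwQ⟩

theorem comm_mem {z w : Amal S} (hz : z ∈ (d 0).src Y) (hw : w ∈ (d (b - 1)).tgt Y) :
    ⁅z, w⁆ ∈ (d 0).src Y ∧ ⁅z, w⁆ ∈ (d (b - 1)).tgt Y ∧ ⁅z, w⁆ ∈ zh (d 0).f := by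
  have hwR : w ∈ (emb (d 0).f (d 0).l).range := h.sh_range _ _ (h.tgt_sh_first hmin hb hc hw)
  have hzR : z ∈ (emb (d (b - 1)).f (d (b - 1)).r).range := h.sh_range _ _ (h.src_sh_last hmin hb hc hz)
  have h1 : ⁅z, w⁆ ∈ (d 0).src Y := by
    rw [commutatorElement_def, show z * w * z⁻¹ * w⁻¹ = z * (w * z⁻¹ * w⁻¹) by group]
    exact mul_mem hz (conj_mem_map h.Yn (inv_mem hz) hwR)
  have h2 : ⁅z, w⁆ ∈ (d (b - 1)).tgt Y := by
    rw [commutatorElement_def]
    exact mul_mem (conj_mem_map h.Yn hw hzR) (inv_mem hw)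
  obtain ⟨w₀, hw₀, hw₀S, hw₀Q⟩ := h.exists_w hmin hb hc
  exact ⟨h1, h2, h.sep' h1 hw₀S hw₀Q (h.commute_Y hw₀ h2)⟩

theorem exists_nontriv : ∃ z ∈ (d 0).src Y, ∃ w ∈ (d (b - 1)).tgt Y, ⁅z, w⁆ ∉ (d 0).src (cenIn Y) := by
  obtain ⟨w₀, hw₀, hw₀S, hw₀Q⟩ := h.exists_w hmin hb hc
  by_contra hcon
  simp only [not_exists, not_and, not_not] at hcon
  exact h.Y_not_le_zh (d 0).f (d 0).l fun z hz => h.sep hz hw₀S hw₀Q (hcon z hz w₀ hw₀)

theorem exists_split [Finite G] {x : Amal S} (hx : x ∈ sh (d (b - 1)).f) :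
    ∃ z ∈ (d 0).src Y, ∃ y ∈ (d (b - 1)).tgt Q, x = z * y := by
  obtain ⟨w₀, hw₀, hw₀S, hw₀Q⟩ := h.exists_w hmin hb hc
  set e := emb (d (b - 1)).f (d (b - 1)).r with he
  set A := ((d 0).src Y).comap e with hA
  have hle : (d 0).src Y ≤ e.range := (h.src_sh_last hmin hb hc).trans (h.sh_range _ _)
  have hAmap : A.map e = (d 0).src Y := Subgroup.map_comap_eq_self hle
  have hAS : A ≤ S := by
    rw [← Subgroup.map_le_map_iff_of_injective (emb_injective (d (b - 1)).f (d (b - 1)).r), ← he, hAmap, he,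
      map_S]
    exact h.src_sh_last hmin hb hc
  have hinf : (d (b - 1)).tgt Q ⊓ (d 0).src Y = zh (d 0).f := by
    refine le_antisymm (fun z hz => h.sep' hz.2 hw₀S hw₀Q (h.commute_Q hz.1 hw₀).symm) fun z hz => ?_
    have hzY : z ∈ (d 0).src Y := h.zh_le _ _ hz
    refine ⟨by_contra fun hzQ => h.Y_not_le_zh (d (b - 1)).f (d (b - 1)).r fun w hw => ?_, hzY⟩
    refine h.sep' hw (h.src_sh_last hmin hb hc hzY) hzQ ?_
    have hwS := h.tgt_sh_first hmin hb hc hw
    rw [← map_S (d 0).f (d 0).l] at hwS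
    rw [← h.Z_map _ (d 0).l] at hz
    obtain ⟨s, hs, rfl⟩ := hwS
    obtain ⟨c, hc', rfl⟩ := hz
    exact (show Commute s c from Subgroup.mem_centralizer_iff.1 hc'.2 s hs).map _
  have h1 : Q.relIndex A = q := by
    rw [← Subgroup.relIndex_map_map_of_injective Q A (emb_injective (d (b - 1)).f (d (b - 1)).r), ← he, hAmap,
      ← Subgroup.inf_relIndex_right]
    show ((d (b - 1)).tgt Q ⊓ (d 0).src Y).relIndex ((d 0).src Y) = q
    rw [hinf, ← h.Z_map _ (d 0).l, Subgroup.relIndex_map_map_of_injective _ _ (emb_injective _ _), h.idxY]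
  haveI := h.Qn
  have h2 : A ⊔ Q = S := by
    refine le_antisymm (sup_le hAS h.Q_le) ?_
    have h3 := Subgroup.relIndex_mul_relIndex Q (A ⊔ Q) S le_sup_right (sup_le hAS h.Q_le)
    rw [Subgroup.relIndex_sup_right, h1, h.idxS] at h3
    exact Subgroup.relIndex_eq_one.1 ((Nat.mul_eq_left (by have := h.two_le; omega)).1 h3)
  rw [← map_S (d (b - 1)).f (d (b - 1)).r] at hx
  obtain ⟨s, hs, rfl⟩ := hx
  rw [SetLike.mem_coe, ← h2] at hs
  obtain ⟨a, ha, y, hy, rfl⟩ := Subgroup.mem_sup_of_normal_right.1 hs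
  exact ⟨e a, ha, e y, ⟨y, hy, rfl⟩, map_mul _ _ _⟩

theorem comm_shift [Finite G] {x w : Amal S} (hx : x ∈ sh (d (b - 1)).f) (hw : w ∈ (d (b - 1)).tgt Y) :
    ⁅x, w⁆ ∈ (d 0).src Y := by
  obtain ⟨z, hz, y, hy, rfl⟩ := h.exists_split hmin hb hc hx
  have hyw : Commute y w := (h.commute_Q hy hw).symm
  rw [show ⁅z * y, w⁆ = ⁅z, w⁆ by
    rw [commutatorElement_def, commutatorElement_def, mul_inv_rev, show z * y * w = z * (y * w) by group,
      hyw.eq]; group]
  exact (h.comm_mem hmin hb hc hz hw).1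

/-- Paths can be extended to the left, turning at the old first vertex. -/
theorem exists_left [Finite G] {g : G} (hg : g ∉ M) :
    ∃ e : Dart S, e.f = (d 0).f * io (d 0).l g ∧ Turn M e (d 0) ∧ Crit Q Y b (consD e d) := by
  by_contra hcon
  set f0 := (d 0).f
  set α := (d 0).l
  set f1 := f0 * io α g with hf1
  have hall : ∀ β : MulAut ↥S, Y.map (emb f1 β) ≤ (d (b - 2)).tgt Q := by
    intro β
    by_contra hβ
    have hT : Turn M (⟨f1, β, α⟩ : Dart S) (d 0) :=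
      ⟨rfl, g⁻¹, fun hc => hg (by simpa using inv_mem hc), by show f0 = f1 * io α g⁻¹; rw [hf1, map_inv, mul_inv_cancel_right]⟩
    refine hcon ⟨⟨f1, β, α⟩, rfl, hT, ⟨fun i hi => ?_, ?_⟩⟩
    · cases i with
      | zero => exact hT.link
      | succ i => exact hc.chain i (by omega)
    · show ¬ Y.map (emb f1 β) ≤ (consD _ d (b - 1)).tgt Q
      rw [show b - 1 = (b - 2) + 1 by omega]
      exact hβ
  set U := (autClosure S Y).map (emb f1 α) with hU
  have hU2 : U ≤ sh (d (b - 1)).f := by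
    refine (map_autClosure_le f1 α Y hall).trans ?_
    have hl := hc.chain (b - 2) (by omega)
    rw [show b - 2 + 1 = b - 1 by omega] at hl
    rw [← hl.src_eq h.Qn]
    exact h.Q_sh _ _
  have hYU : (d 0).src Y ≤ U := by
    rw [Dart.src, ← map_emb_mul h.Yn f0 α g]
    exact Subgroup.map_mono (le_autClosure Y h.Y_S)
  obtain ⟨w, hw, hwS, hwQ⟩ := h.exists_w hmin hb hc
  have hcomm : ∀ v ∈ (d (b - 1)).tgt Y, ∀ x ∈ U, v * x * v⁻¹ ∈ U := by
    intro v hv x hx
    rw [show v * x * v⁻¹ = ⁅x, v⁆⁻¹ * x by simp only [commutatorElement_def]; group]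
    exact mul_mem (inv_mem (hYU (h.comm_shift hmin hb hc (hU2 hx) hv))) hx
  have hwN : w ∈ Subgroup.normalizer (U : Set (Amal S)) := Subgroup.mem_normalizer_iff.2 fun x =>
    ⟨hcomm w hw x, fun hx => by
      have := hcomm w⁻¹ (inv_mem hw) _ hx
      simpa [mul_assoc] using this⟩
  -- the subgroup generated by the images of `Y` is normal in `S`
  have hSN : sh f1 ≤ Subgroup.normalizer (U : Set (Amal S)) := by
    rw [hU, ← map_S f1 α]
    refine le_trans (Subgroup.map_mono fun s hs => ?_) (Subgroup.le_normalizer_map _)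
    refine Subgroup.mem_normalizer_iff.2 fun x => ?_
    constructor
    · intro hx
      exact autClosure_char S Y (MulAut.conj ⟨s, hs⟩) ⟨x, autClosure_le S Y hx⟩ hx
    · intro hx
      have h2 := autClosure_char S Y (MulAut.conj ⟨s, hs⟩)⁻¹ ⟨_, autClosure_le S Y hx⟩ hx
      simpa [mul_assoc] using h2
  have hgen : (emb f1 α).range ≤ Subgroup.normalizer (U : Set (Amal S)) := by
    refine h.gen (f := f1) (α := α) (g := g⁻¹) (fun hc' => hg (by simpa using inv_mem hc')) (w := w) ?_ ?_ hSN hwN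
    · rwa [hf1, map_inv, mul_inv_cancel_right]
    · rwa [hf1, map_emb_mul h.Qn]
  have hn : (autClosure S Y).Normal := by
    refine ⟨fun x hx y => ?_⟩
    have h1 := (Subgroup.mem_normalizer_iff.1 (hgen ⟨y, rfl⟩) (emb f1 α x)).1 ⟨x, hx, rfl⟩
    rw [← map_inv, ← map_mul, ← map_mul] at h1
    exact (Subgroup.mem_map_iff_mem (emb_injective f1 α)).1 h1
  have hY : Y = ⊥ := le_bot_iff.1 ((le_autClosure Y h.Y_S).trans
    (eq_bot_of_hd h.hd (autClosure_le S Y) hn (autClosure_char S Y)).le)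
  exact h.Y_not_le_zh f0 α (by rw [hY, Subgroup.map_bot]; exact bot_le)

/-- Commutators at a turn are central at the turning vertex. -/
theorem left_comm [Finite G] {e : Dart S} (he : Turn M e (d 0)) {x t : Amal S} (hx : x ∈ e.src Y)
    (ht : t ∈ (d (b - 2)).tgt Y) : ⁅x, t⁆ ∈ (d 0).src (cenIn Y) := by
  have hch : Chain b (consD e d) := fun i hi => by
    cases i with
    | zero => exact he.link
    | succ i => exact hc.chain i (by omega)
  by_cases hle : e.src Y ≤ (d (b - 2)).tgt Q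
  · rw [commutatorElement_eq_one_iff_commute.2 (h.commute_Q (hle hx) ht).symm]
    exact one_mem _
  have hc' : Crit Q Y b (consD e d) := ⟨hch, by
    rw [show b - 1 = (b - 2) + 1 by omega]; exact hle⟩
  obtain ⟨-, h2, h3⟩ := h.comm_mem hmin hb hc' (z := x) (w := t) hx (by
    rw [show b - 1 = (b - 2) + 1 by omega]; exact ht)
  rw [show b - 1 = (b - 2) + 1 by omega] at h2
  obtain ⟨h4, g, hg, h5⟩ := he.rev
  change e.r = (d 0).l at h4
  change e.f = (d 0).f * io (d 0).l g at h5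
  have hzY : ⁅x, t⁆ ∈ (d 0).src Y := by
    rw [Dart.src, ← map_emb_mul h.Yn (d 0).f (d 0).l g, ← h5]
    exact h.zh_le e.f _ h3
  have hadj : Commute ⁅x, t⁆ ((h.exists_w hmin hb hc).choose) := by
    obtain ⟨hw, -, -⟩ := (h.exists_w hmin hb hc).choose_spec
    have hl := hc.chain (b - 2) (by omega)
    rw [show b - 2 + 1 = b - 1 by omega] at hl
    have h6 : ⁅x, t⁆ ∈ (d (b - 1)).src Y := by rw [hl.src_eq h.Yn]; exact h2
    exact (h.short_commute hmin hb (k := 1) le_rfl (by omega) (d := fun _ => d (b - 1))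
      (fun i hi => absurd hi (by omega)) h6 hw).symm
  obtain ⟨-, hwS, hwQ⟩ := (h.exists_w hmin hb hc).choose_spec
  exact h.cap hg (h.sep' hzY hwS hwQ hadj) (h5 ▸ h3)

end PUp

end Cfsg.Agent.PushUp
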