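import Cfsg.Agent.Lib.LocalEven.DisplacementCount
import Cfsg.Agent.S0810

/-!
# Fixed points of `p`-elements on a normal `p`-subgroup when the group has a quotient `L₂(q)`
-/

set_option autoImplicit false

open scoped commutatorElement

namespace Cfsg.Agent.PushUp

open Cfsg Cfsg.Agent.Small Cfsg.Agent.Small.SL2C

variable {G : Type*} [Group G] [Finite G] {p : ℕ} [hp : Fact p.Prime] {V : Subgroup G} [hVn : V.Normal]

/-- An element of `r`-power order whose `r ^ l`-th power does not centralize `V` moves a number of points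
divisible by `r ^ (l + 1)`. -/
theorem orbit_count (hVp : IsPGroup p V) {r l m : ℕ} (hr : r.Prime) (hrp : r ≠ p) {y : G}
    (hy : y ^ r ^ m = 1) (hz : y ^ r ^ l ∉ Subgroup.centralizer (V : Set G)) :
    ∃ d : ℕ, 1 ≤ d ∧ (V ⊓ Subgroup.centralizer ({y ^ r ^ l} : Set G)).relIndex V = p ^ d ∧
      r ^ (l + 1) ∣ p ^ d - 1 := by
  classical
  have hp' := hp.out
  set z := y ^ r ^ l with hzdef
  set D := V ⊓ Subgroup.centralizer ({z} : Set G) with hD
  obtain ⟨d, hd⟩ := hVp.index (D.subgroupOf V)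
  have hd1 : 1 ≤ d := by
    by_contra h
    have h0 : d = 0 := by omega
    rw [h0, pow_zero, Subgroup.index_eq_one, Subgroup.subgroupOf_eq_top] at hd
    exact hz (Subgroup.mem_centralizer_iff.2 fun v hv =>
      (Subgroup.mem_centralizer_iff.1 (hd hv).2 z rfl).symm)
  refine ⟨d, hd1, hd, ?_⟩
  have hzy : ∀ h ∈ Subgroup.zpowers y, Commute z h := by
    rintro _ ⟨i, rfl⟩
    exact ((Commute.refl y).pow_left _).zpow_right i
  let X := {v : G // v ∈ V ∧ v ∉ D}
  have hmem : ∀ h ∈ Subgroup.zpowers y, ∀ v : G, v ∈ V → v ∉ D → h * v * h⁻¹ ∈ V ∧ h * v * h⁻¹ ∉ D := by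
    intro h hh v hv hvD
    refine ⟨hVn.conj_mem v hv h, fun hc => hvD ⟨hv, Subgroup.mem_centralizer_iff.2 ?_⟩⟩
    rintro w rfl
    have h1 : Commute z (h * v * h⁻¹) := Subgroup.mem_centralizer_iff.1 hc.2 _ rfl
    have h2 := (((hzy h hh).inv_right).mul_right h1).mul_right (hzy h hh)
    rwa [show h⁻¹ * (h * v * h⁻¹) * h = v by group] at h2
  letI : MulAction (Subgroup.zpowers y) X :=
    { smul := fun h v => ⟨(h : G) * v * (h : G)⁻¹, hmem h h.2 v v.2.1 v.2.2⟩
      one_smul := fun v => Subtype.ext (show (1 : G) * v * (1 : G)⁻¹ = v by simp)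
      mul_smul := fun h h' v => Subtype.ext (show ((h : G) * h') * v * ((h : G) * h')⁻¹ =
        (h : G) * ((h' : G) * v * (h' : G)⁻¹) * (h : G)⁻¹ by group) }
  have hstab : ∀ v : X, r ^ (l + 1) ∣ (MulAction.stabilizer (Subgroup.zpowers y) v).index := by
    intro v
    set st := MulAction.stabilizer (Subgroup.zpowers y) v with hst
    have hcard : Nat.card (Subgroup.zpowers y) ∣ r ^ m :=
      Nat.card_zpowers y ▸ orderOf_dvd_of_pow_eq_one hy
    obtain ⟨i, -, hi⟩ := (Nat.dvd_prime_pow hr).1 ((Subgroup.index_dvd_card st).trans hcard)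
    rw [hi]
    refine pow_dvd_pow r (Nat.succ_le_of_lt (not_le.1 fun hil => v.2.2 ⟨v.2.1, ?_⟩))
    obtain ⟨y', hy'⟩ : ∃ y' : Subgroup.zpowers y, (y' : G) = y := ⟨⟨y, Subgroup.mem_zpowers y⟩, rfl⟩
    have h1 : y' ^ r ^ i ∈ st := hi ▸ Subgroup.pow_index_mem _ y'
    have h2 : y' ^ r ^ l ∈ st := by
      rw [show r ^ l = r ^ i * r ^ (l - i) by rw [← pow_add]; congr 1; omega, pow_mul]
      exact pow_mem h1 _
    have h3 : ((y' ^ r ^ l : Subgroup.zpowers y) : G) * v * ((y' ^ r ^ l : Subgroup.zpowers y) : G)⁻¹ = v :=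
      congrArg Subtype.val (MulAction.mem_stabilizer_iff.1 h2)
    rw [SubmonoidClass.coe_pow, hy'] at h3
    refine Subgroup.mem_centralizer_iff.2 ?_
    rintro w rfl
    exact mul_inv_eq_iff_eq_mul.1 h3
  haveI : Fintype X := Fintype.ofFinite _
  have hdvd : r ^ (l + 1) ∣ Nat.card X := by
    rw [Nat.card_congr (MulAction.selfEquivSigmaOrbits (Subgroup.zpowers y) X), Nat.card_sigma]
    refine Finset.dvd_sum fun ω _ => ?_
    rw [Nat.card_congr (MulAction.orbitEquivQuotientStabilizer (Subgroup.zpowers y) ω.out)]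
    exact hstab ω.out
  have hX : Nat.card X + Nat.card D = Nat.card V := by
    rw [← Nat.card_sum]
    refine Nat.card_congr
      { toFun := fun s => s.elim (fun v => ⟨v.1, v.2.1⟩) (fun v => ⟨v.1, v.2.1⟩)
        invFun := fun v => if h : (v : G) ∈ D then Sum.inr ⟨v, h⟩ else Sum.inl ⟨v, v.2, h⟩
        left_inv := ?_
        right_inv := ?_ }
    · rintro (v | v)
      · simp [v.2.2]
      · simp [v.2]
    · intro v
      by_cases h : (v : G) ∈ D <;> simp [h]
  have hXeq : Nat.card X = (p ^ d - 1) * Nat.card D := by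
    have := LocalEven.DispCount.relIndex_mul_card (U := D) (W := V) inf_le_left
    rw [Subgroup.relIndex, hd] at this
    rw [Nat.sub_mul, one_mul]
    omega
  rw [hXeq] at hdvd
  refine Nat.Coprime.dvd_of_dvd_mul_right ?_ hdvd
  obtain ⟨c, hc⟩ := IsPGroup.iff_card.1 (hVp.to_le (inf_le_left : D ≤ V))
  rw [hc]
  exact Nat.Coprime.pow _ _ ((Nat.coprime_primes hr hp').2 hrp)

variable {F : Type*} [Field F] [Fintype F]

/-- If the centralizer of `V` lies in the kernel of a map onto `L₂(p ^ n)`, a `p`-element outside the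
kernel has at least `p ^ n` translates of its fixed points in `V`. -/
theorem psl_displacement (hVp : IsPGroup p V) {n : ℕ} (hn : 2 ≤ n) (hF : Fintype.card F = p ^ n)
    (φ : G →* Matrix.ProjectiveSpecialLinearGroup (Fin 2) F) (hφ : Function.Surjective φ)
    (hC : Subgroup.centralizer (V : Set G) ≤ φ.ker) {s : G} {k : ℕ} (hsk : s ^ p ^ k = 1) (hs : φ s ≠ 1) :
    p ^ n ≤ (V ⊓ Subgroup.centralizer ({s} : Set G)).relIndex V := by
  classical
  haveI : CharP F p := by
    obtain ⟨r, hr⟩ := CharP.exists F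
    obtain ⟨m, hr', hc⟩ := FiniteField.card F r
    have h1 : r ∣ p ^ n := by rw [← hF, hc]; exact dvd_pow_self r m.ne_zero
    exact (Nat.prime_dvd_prime_iff_eq hr' hp.out).1 (hr'.dvd_of_dvd_pow h1) ▸ hr
  obtain ⟨β₀, hβ₀⟩ := PSL2.pr_surjective (φ s)
  have hz : ∀ γ : Matrix.SpecialLinearGroup (Fin 2) F, PSL2.pr γ = 1 → γ * γ = 1 := by
    intro γ hγ
    apply Subtype.ext
    rw [val_mul']
    rcases isSc_SL (pr_eq_one_iff.1 hγ) with e | e <;> rw [e] <;> simp
  have hβpk : PSL2.pr (β₀ ^ p ^ k) = 1 := by rw [map_pow, hβ₀, ← map_pow, hsk, map_one]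
  obtain ⟨β, hβ, hβk⟩ : ∃ β, PSL2.pr β = φ s ∧ β ^ p ^ k = 1 := by
    by_cases hp2 : p = 2
    · refine ⟨β₀, hβ₀, ?_⟩
      subst hp2
      have h2 : (2 : F) = 0 := by exact_mod_cast CharP.cast_eq_zero F 2
      rcases isSc_SL (pr_eq_one_iff.1 hβpk) with e | e <;> apply Subtype.ext <;> rw [e]
      · simp
      · ext i j
        fin_cases i <;> fin_cases j <;> simp [show (-1 : F) = 1 by linear_combination -h2]
    · obtain ⟨c, hc⟩ := (hp.out.odd_of_ne_two hp2).pow (n := k)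
      refine ⟨β₀ ^ (p ^ k + 1), ?_, ?_⟩
      · rw [map_pow, hβ₀, pow_succ, ← map_pow, hsk, map_one, one_mul]
      · rw [← pow_mul, mul_comm, pow_mul, show p ^ k + 1 = 2 * (c + 1) by omega, pow_mul, pow_two,
          hz _ hβpk, one_pow]
  have hβ1 : β ≠ 1 := fun h => hs (by rw [← hβ, h, map_one])
  obtain ⟨g, hg⟩ := LocalEven.SL2Disp.exists_commutator p hn hF hβ1 hβk
  obtain ⟨r, e, hr, he, hre, hprim⟩ := LocalEven.SL2Disp.exists_primitive (n := n) hp.out hn
  obtain ⟨hr2, hrp⟩ := LocalEven.DispCount.primitive_ne_two hp.out hn hre he hprim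
  obtain ⟨l, rfl⟩ : ∃ l, e = l + 1 := ⟨e - 1, by omega⟩
  obtain ⟨h, hh⟩ := hφ (PSL2.pr g)
  set x := ⁅s, h⁆ with hx
  have e1 : PSL2.pr ⁅β, g⁆ = φ x := by rw [map_commutatorElement, hx, map_commutatorElement, hβ, hh]
  have hdvd : r ^ (l + 1) ∣ orderOf (φ x) := by
    have hco : Nat.Coprime (r ^ (l + 1)) 2 := ((Nat.coprime_primes hr Nat.prime_two).2 hr2).pow_left _
    rw [← e1]
    refine hco.dvd_of_dvd_mul_right (dvd_trans (hF ▸ hre) (hg ▸ orderOf_dvd_of_pow_eq_one ?_))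
    rw [pow_mul, pow_two]
    exact hz _ (by rw [map_pow, pow_orderOf_eq_one])
  have hpos : orderOf (φ x) ≠ 0 := fun h0 => by
    have h1 := orderOf_map_dvd φ x
    rw [h0, zero_dvd_iff] at h1
    exact (orderOf_pos x).ne' h1
  set x₀ := x ^ (orderOf (φ x) / r ^ (l + 1)) with hx₀
  have hox₀ : orderOf (φ x₀) = r ^ (l + 1) := by rw [hx₀, map_pow, orderOf_pow_orderOf_div hpos hdvd]
  obtain ⟨m, c, hc, hmc⟩ := Nat.exists_eq_pow_mul_and_not_dvd (orderOf_pos x₀).ne' r hr.ne_one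
  set y := x₀ ^ c with hy
  have hy1 : y ^ r ^ m = 1 := by rw [hy, ← pow_mul, mul_comm c, ← hmc, pow_orderOf_eq_one]
  have hoy : orderOf (φ y) = r ^ (l + 1) := by
    rw [hy, map_pow, Nat.Coprime.orderOf_pow _, hox₀]
    rw [hox₀]
    exact ((Nat.Prime.coprime_iff_not_dvd hr).2 hc).pow_left _
  have hzC : y ^ r ^ l ∉ Subgroup.centralizer (V : Set G) := fun hmem => by
    have h1 : φ y ^ r ^ l = 1 := by rw [← map_pow]; exact hC hmem
    have h2 := Nat.le_of_dvd (pow_pos hr.pos l) (hoy ▸ orderOf_dvd_of_pow_eq_one h1)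
    exact absurd h2 (not_le.2 (Nat.pow_lt_pow_right hr.one_lt (Nat.lt_succ_self l)))
  obtain ⟨d, hd1, hd, hdd⟩ := orbit_count hVp hr hrp hy1 hzC
  have hNd : 2 * n ≤ d := not_lt.1 fun hlt => hprim d hd1 hlt hdd
  set C := V ⊓ Subgroup.centralizer ({s} : Set G) with hCdef
  set C' := C.map (MulAut.conj h).toMonoidHom with hC'
  have hC'V : C' ≤ V := by
    rintro _ ⟨v, hv, rfl⟩
    exact hVn.conj_mem v hv.1 h
  have hsub : C ⊓ C' ≤ V ⊓ Subgroup.centralizer ({y ^ r ^ l} : Set G) := by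
    rintro v ⟨⟨hv, hva⟩, ⟨u, ⟨-, hu⟩, huv⟩⟩
    refine ⟨hv, Subgroup.mem_centralizer_iff.2 ?_⟩
    rintro w rfl
    have h1 : Commute s v := Subgroup.mem_centralizer_iff.1 hva _ rfl
    have h2 : Commute (h * s⁻¹ * h⁻¹) v := by
      have h3 : Commute s⁻¹ u := Commute.inv_left (Subgroup.mem_centralizer_iff.1 hu _ rfl)
      rw [← huv]
      exact h3.map (MulAut.conj h).toMonoidHom
    have h4 : Commute x v := by
      rw [hx, show ⁅s, h⁆ = s * (h * s⁻¹ * h⁻¹) by rw [commutatorElement_def]; group]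
      exact h1.mul_left h2
    exact ((h4.pow_left _).pow_left _).pow_left _
  have hindex : C'.relIndex V = C.relIndex V := by
    have h1 := LocalEven.DispCount.relIndex_mul_card hC'V
    have h2 := LocalEven.DispCount.relIndex_mul_card (inf_le_left : C ≤ V)
    rw [hC', Subgroup.card_map_of_injective (f := (MulAut.conj h).toMonoidHom) (MulAut.conj h).injective,
      ← h2] at h1
    exact Nat.eq_of_mul_eq_mul_right Nat.card_pos h1
  have h1 : p ^ d ≤ C.relIndex V * C.relIndex V := by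
    rw [← hd]
    refine le_trans (Subgroup.relIndex_le_of_le_left hsub
      (Subgroup.index_ne_zero_of_finite (H := (C ⊓ C').subgroupOf V))) ?_
    refine Subgroup.relIndex_inf_le.trans ?_
    rw [hindex]
  refine Nat.mul_self_le_mul_self_iff.1 (le_trans ?_ h1)
  rw [← pow_add]
  exact Nat.pow_le_pow_right hp.out.pos (by omega)

/-- The displacement bound, the prime field included. -/
theorem displacement (hVp : IsPGroup p V) {n : ℕ} (hn : 1 ≤ n) (hF : Fintype.card F = p ^ n)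
    (φ : G →* Matrix.ProjectiveSpecialLinearGroup (Fin 2) F) (hφ : Function.Surjective φ)
    (hC : 2 ≤ n → Subgroup.centralizer (V : Set G) ≤ φ.ker) {s : G} {k : ℕ} (hsk : s ^ p ^ k = 1)
    (hs : φ s ≠ 1) (hsV : s ∉ Subgroup.centralizer (V : Set G)) :
    p ^ n ≤ (V ⊓ Subgroup.centralizer ({s} : Set G)).relIndex V := by
  by_cases h2 : 2 ≤ n
  · exact psl_displacement hVp h2 hF φ hφ (hC h2) hsk hs
  obtain rfl : n = 1 := by omega
  obtain ⟨j, hj⟩ := hVp.index ((V ⊓ Subgroup.centralizer ({s} : Set G)).subgroupOf V)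
  have hj0 : j ≠ 0 := by
    rintro rfl
    rw [pow_zero, Subgroup.index_eq_one, Subgroup.subgroupOf_eq_top] at hj
    exact hsV (Subgroup.mem_centralizer_iff.2 fun v hv =>
      (Subgroup.mem_centralizer_iff.1 (hj hv).2 s rfl).symm)
  rw [Subgroup.relIndex, hj, pow_one]
  exact Nat.le_self_pow hj0 p

end Cfsg.Agent.PushUp
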