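import Cfsg.Agent.Lib.Fusion.ZJ
import Cfsg.Agent.Lib.Fusion.Cores
import Cfsg.Prelude.Def_PLocal

/-!
# General lemmas for pushing up
-/

set_option autoImplicit false

open scoped commutatorElement

namespace Cfsg.Agent.PushUp

variable {G : Type*} [Group G] [Finite G] {p : ℕ} [hp : Fact p.Prime]

omit hp in
/-- An element of order prime to `p` fixing the elements of order `p` of an abelian `p`-group fixes all of it. -/
theorem mem_centralizer_of_fix_torsion {Y : Subgroup G} [hYn : Y.Normal] (hYc : IsMulCommutative Y)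
    (hYp : IsPGroup p Y) {g : G} (hg : (orderOf g).Coprime p)
    (h : ∀ y ∈ Y, y ^ p = 1 → g * y = y * g) : g ∈ Subgroup.centralizer (Y : Set G) := by
  have key : ∀ k : ℕ, ∀ y ∈ Y, y ^ p ^ k = 1 → g * y = y * g := by
    intro k
    induction k with
    | zero => intro y _ hy1; rw [pow_zero, pow_one] at hy1; simp [hy1]
    | succ k ih =>
      intro y hy hy1
      have hgy : g * y * g⁻¹ ∈ Y := hYn.conj_mem y hy g
      have hcom : Commute (g * y * g⁻¹) y⁻¹ :=
        congrArg Subtype.val (hYc.1.1 ⟨_, hgy⟩ ⟨_, inv_mem hy⟩)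
      set c := g * y * g⁻¹ * y⁻¹ with hc
      have hcY : c ∈ Y := mul_mem hgy (inv_mem hy)
      have hcp : c ^ p = 1 := by
        have h2 : g * y ^ p = y ^ p * g :=
          ih (y ^ p) (pow_mem hy p) (by rw [← pow_mul, ← pow_succ']; exact hy1)
        rw [hc, hcom.mul_pow, conj_pow, h2, mul_inv_cancel_right, inv_pow, mul_inv_cancel]
      have hcg : Commute g c := h c hcY hcp
      have hj : ∀ j : ℕ, g ^ j * y * (g ^ j)⁻¹ = c ^ j * y := by
        intro j
        induction j with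
        | zero => simp
        | succ j ihj =>
          calc g ^ (j + 1) * y * (g ^ (j + 1))⁻¹ = g * (g ^ j * y * (g ^ j)⁻¹) * g⁻¹ := by
                rw [pow_succ']; group
            _ = g * (c ^ j * y) * g⁻¹ := by rw [ihj]
            _ = c ^ j * (g * y * g⁻¹) := by
                rw [← mul_assoc g, (hcg.pow_right j).eq]; group
            _ = c ^ (j + 1) * y := by
                rw [pow_succ, mul_assoc (c ^ j), show c * y = g * y * g⁻¹ by rw [hc]; group]
      have hc1 : c ^ orderOf g = 1 := by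
        have h3 := hj (orderOf g)
        rw [pow_orderOf_eq_one, one_mul, inv_one, mul_one] at h3
        exact mul_eq_right.1 h3.symm
      have hc2 : c = 1 := orderOf_eq_one_iff.1
        (Nat.eq_one_of_dvd_coprimes hg (orderOf_dvd_of_pow_eq_one hc1) (orderOf_dvd_of_pow_eq_one hcp))
      rw [hc, mul_inv_eq_one] at hc2
      exact mul_inv_eq_iff_eq_mul.1 hc2
  refine Subgroup.mem_centralizer_iff.2 fun y hy => ?_
  obtain ⟨k, hk⟩ := hYp ⟨y, hy⟩
  exact (key k y hy (congrArg Subtype.val hk)).symm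

omit [Finite G] hp in
theorem omegaOne_pow {Y : Subgroup G} (hYc : IsMulCommutative Y) {y : G} (hy : y ∈ omegaOne p Y) :
    y ∈ Y ∧ y ^ p = 1 := by
  refine Subgroup.closure_induction (fun x hx => hx) ⟨one_mem _, one_pow p⟩ ?_ ?_ hy
  · rintro a b _ _ ⟨ha, ha'⟩ ⟨hb, hb'⟩
    have hab : Commute a b := congrArg Subtype.val (hYc.1.1 ⟨a, ha⟩ ⟨b, hb⟩)
    exact ⟨mul_mem ha hb, by rw [hab.mul_pow, ha', hb', one_mul]⟩
  · rintro a _ ⟨ha, ha'⟩
    exact ⟨inv_mem ha, by rw [inv_pow, ha', inv_one]⟩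

omit [Finite G] hp in
theorem omegaOne_le' {Y : Subgroup G} : omegaOne p Y ≤ Y :=
  (Subgroup.closure_le _).2 fun _ h => h.1

omit [Finite G] hp in
theorem omegaOne_normal' {Y : Subgroup G} [Y.Normal] (hYc : IsMulCommutative Y) : (omegaOne p Y).Normal := by
  refine ⟨fun y hy g => Subgroup.subset_closure ⟨Subgroup.Normal.conj_mem inferInstance y (omegaOne_le' hy) g, ?_⟩⟩
  rw [conj_pow, (omegaOne_pow hYc hy).2, mul_one, mul_inv_cancel]

/-- A normal subgroup which is a `p`-group modulo a normal subgroup lies in the join with a Sylow subgroup. -/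
theorem normal_le_sylow_sup (S : Sylow p G) {N C : Subgroup G} [N.Normal] [C.Normal]
    (h : ∀ x ∈ N, ∃ k : ℕ, x ^ p ^ k ∈ C) : N ≤ (S : Subgroup G) ⊔ C := by
  have hq : Function.Surjective (QuotientGroup.mk' C) := QuotientGroup.mk'_surjective C
  haveI : (N.map (QuotientGroup.mk' C)).Normal := Subgroup.Normal.map inferInstance _ hq
  have hp' : IsPGroup p (N.map (QuotientGroup.mk' C)) := by
    rintro ⟨_, x, hx, rfl⟩
    obtain ⟨k, hk⟩ := h x hx
    refine ⟨k, Subtype.ext ?_⟩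
    show QuotientGroup.mk' C x ^ p ^ k = 1
    rw [← map_pow, QuotientGroup.mk'_apply, QuotientGroup.eq_one_iff]
    exact hk
  intro x hx
  obtain ⟨s, hs, hsx⟩ := hp'.le_sylow_of_normal (S.mapSurjective hq) ⟨x, hx, rfl⟩
  have h2 : s⁻¹ * x ∈ C := by
    rw [← QuotientGroup.eq_one_iff, ← QuotientGroup.mk'_apply (N := C), map_mul, map_inv, hsx, inv_mul_cancel]
  rw [← mul_inv_cancel_left s x]
  exact Subgroup.mul_mem_sup hs h2

/-- A Sylow subgroup meets a normal subgroup in a Sylow subgroup of the latter. -/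
theorem exists_sylow_inf (S : Sylow p G) (N : Subgroup G) [N.Normal] :
    ∃ P : Sylow p N, (P : Subgroup N) = (S : Subgroup G).subgroupOf N := by
  obtain ⟨P, hP⟩ := (S.2.comap_of_injective N.subtype N.subtype_injective).exists_le_sylow
  refine ⟨P, le_antisymm ?_ hP⟩
  obtain ⟨S', hS'⟩ := (P.2.map N.subtype).exists_le_sylow
  obtain ⟨g, hg⟩ := MulAction.exists_smul_eq G S' S
  have h1 : ((P : Subgroup N).map N.subtype).map (MulAut.conj g).toMonoidHom ≤
      ((S : Subgroup G).subgroupOf N).map N.subtype := by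
    rw [Subgroup.subgroupOf_map_subtype]
    rintro _ ⟨x, hx, rfl⟩
    refine ⟨?_, ?_⟩
    · show g * x * g⁻¹ ∈ (S : Subgroup G)
      rw [← hg, Sylow.coe_subgroup_smul]
      exact ⟨x, hS' hx, rfl⟩
    · obtain ⟨x', -, rfl⟩ := hx
      exact Subgroup.Normal.conj_mem inferInstance _ x'.2 g
  have h2 := Subgroup.card_le_of_le h1
  rw [Subgroup.card_map_of_injective (f := (MulAut.conj g).toMonoidHom) (MulAut.conj g).injective,
    Subgroup.card_map_of_injective N.subtype_injective,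
    Subgroup.card_map_of_injective N.subtype_injective] at h2
  exact (Subgroup.eq_of_le_of_card_ge hP h2).ge

open scoped IsMulCommutative in
/-- A central element of a Sylow subgroup with abelian image lies in every normalized generating subgroup. -/
theorem central_mem_of_fusion {H : Type*} [Group H] [Finite H] (P : Sylow p H) (D C : Subgroup H) [D.Normal]
    (hDC : D ≤ C) (hCP : C ≤ (P : Subgroup H)) (hcomm : ∀ a ∈ (P : Subgroup H), ∀ b ∈ (P : Subgroup H), ⁅a, b⁆ ∈ D)
    (hnorm : ∀ g : H, (∀ a ∈ (P : Subgroup H), g * a * g⁻¹ ∈ (P : Subgroup H)) → ∀ c ∈ C, g * c * g⁻¹ ∈ C)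
    (hgen : Subgroup.normalClosure (C : Set H) = ⊤) {z : H} (hz : z ∈ (P : Subgroup H))
    (hzc : ∀ h : H, ⁅z, h⁆ ∈ D) : z ∈ C := by
  classical
  set q := QuotientGroup.mk' D with hq
  have hqs : Function.Surjective q := QuotientGroup.mk'_surjective D
  have hDmem : ∀ x, q x = 1 ↔ x ∈ D := fun x => QuotientGroup.eq_one_iff x
  set P' := P.mapSurjective hqs with hP'
  have hP'mem : ∀ y, y ∈ P' ↔ ∃ a ∈ (P : Subgroup H), q a = y := fun y => Iff.rfl
  haveI hP'c : IsMulCommutative P' := by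
    refine ⟨⟨?_⟩⟩
    rintro ⟨_, a, ha, rfl⟩ ⟨_, b, hb, rfl⟩
    refine Subtype.ext (show q a * q b = q b * q a from ?_)
    rw [← commutatorElement_eq_one_iff_mul_comm, ← map_commutatorElement, hDmem]
    exact hcomm a ha b hb
  set C' := C.map q with hC'
  have hC'P : C' ≤ (P' : Subgroup (H ⧸ D)) := Subgroup.map_mono hCP
  let ϕ : (P' : Subgroup (H ⧸ D)) →* (P' : Subgroup (H ⧸ D)) ⧸ C'.subgroupOf (P' : Subgroup (H ⧸ D)) :=
    QuotientGroup.mk' _
  let τ := MonoidHom.transfer ϕ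
  have hfus : ∀ g x, x ∈ C' → g⁻¹ * x * g ∈ P' → g⁻¹ * x * g ∈ C' := by
    intro g x hx hy
    obtain ⟨m, hm, hm'⟩ := P'.conj_eq_normalizer_conj_of_mem x g (hC'P hx) hy
    obtain ⟨a, ha⟩ := hqs m⁻¹
    have hna : ∀ b ∈ (P : Subgroup H), a * b * a⁻¹ ∈ (P : Subgroup H) := by
      intro b hb
      have h1 : m⁻¹ * q b * m⁻¹⁻¹ ∈ (P' : Subgroup (H ⧸ D)) :=
        (Subgroup.mem_normalizer_iff.1 (inv_mem hm) (q b)).1 ⟨b, hb, rfl⟩
      rw [← ha, ← map_inv, ← map_mul, ← map_mul] at h1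
      obtain ⟨b', hb', he⟩ := h1
      have h2 : b'⁻¹ * (a * b * a⁻¹) ∈ D := by rw [← hDmem, map_mul, map_inv, he, inv_mul_cancel]
      rw [← mul_inv_cancel_left b' (a * b * a⁻¹)]
      exact mul_mem hb' (hCP (hDC h2))
    obtain ⟨c, hc, rfl⟩ := hx
    refine ⟨a * c * a⁻¹, hnorm a hna c hc, ?_⟩
    rw [hm', map_mul, map_mul, map_inv, ha, inv_inv]
  have hτC : C' ≤ τ.ker := by
    intro x hx
    rw [MonoidHom.mem_ker]
    haveI := Fintype.ofFinite (Quotient (MulAction.orbitRel (Subgroup.zpowers x) ((H ⧸ D) ⧸ (P' : Subgroup (H ⧸ D)))))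
    rw [MonoidHom.transfer_eq_prod_quotient_orbitRel_zpowers_quot]
    refine Finset.prod_eq_one fun o _ => ?_
    rw [QuotientGroup.mk'_apply, QuotientGroup.eq_one_iff, Subgroup.mem_subgroupOf]
    exact hfus _ _ (pow_mem hx _) (QuotientGroup.out_conj_pow_minimalPeriod_mem _ x o.out)
  have hτ : ∀ x : H, τ (q x) = 1 := by
    intro x
    have h1 : Subgroup.normalClosure (C : Set H) ≤ τ.ker.comap q :=
      Subgroup.normalClosure_le_normal fun c hc => hτC ⟨c, hc, rfl⟩
    rw [hgen] at h1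
    exact h1 (Subgroup.mem_top x)
  have hcentral : ∀ h : H ⧸ D, Commute (q z) h := fun h => by
    obtain ⟨h, rfl⟩ := hqs h
    rw [Commute, SemiconjBy, ← commutatorElement_eq_one_iff_mul_comm, ← map_commutatorElement, hDmem]
    exact hzc h
  have key : ∀ (k : ℕ) (g₀ : H ⧸ D), g₀⁻¹ * q z ^ k * g₀ ∈ (P' : Subgroup (H ⧸ D)) →
      g₀⁻¹ * q z ^ k * g₀ = q z ^ k := fun k g₀ _ => by
    rw [mul_assoc, ((hcentral g₀).pow_left k).eq, inv_mul_cancel_left]
  have h1 := hτ z
  rw [MonoidHom.transfer_eq_pow ϕ (q z) key, QuotientGroup.mk'_apply, QuotientGroup.eq_one_iff,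
    Subgroup.mem_subgroupOf] at h1
  obtain ⟨k, hk⟩ := P'.2 ⟨q z, z, hz, rfl⟩
  have hk' : q z ^ p ^ k = 1 := congrArg Subtype.val hk
  have hco : ((P' : Subgroup (H ⧸ D)).index).Coprime (orderOf (q z)) :=
    Nat.Coprime.coprime_dvd_right (orderOf_dvd_of_pow_eq_one hk')
      (Nat.Coprime.pow_right k ((Nat.Prime.coprime_iff_not_dvd hp.out).2 P'.not_dvd_index).symm)
  obtain ⟨j, hj⟩ := exists_pow_eq_self_of_coprime hco
  have h2 : q z ∈ C' := hj ▸ pow_mem h1 j
  obtain ⟨c, hc, he⟩ := h2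
  have h3 : c⁻¹ * z ∈ D := by rw [← hDmem, map_mul, map_inv, he, inv_mul_cancel]
  rw [← mul_inv_cancel_left c z]
  exact mul_mem hc (hDC h3)

end Cfsg.Agent.PushUp
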