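import Cfsg.Agent.Lib.PushUp.Critical

/-!
# There are no critical paths of three or more edges
-/

set_option autoImplicit false

open scoped commutatorElement

namespace Cfsg.Agent.PushUp

open Cfsg

universe u

variable {G : Type u} [Group G] {S : Subgroup G}

/-- All inner vertices of the path are turns. -/
def Turns (M : Subgroup G) (b : ℕ) (d : ℕ → Dart S) : Prop := ∀ i, i + 1 < b → Turn M (d i) (d (i + 1))

theorem Turns.reverse {M : Subgroup G} {b : ℕ} {d : ℕ → Dart S} (hd : Turns M b d) : Turns M b (revD b d) :=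
  fun i hi => by
  have h1 := (hd (b - 1 - (i + 1)) (by omega)).rev
  rwa [show b - 1 - (i + 1) + 1 = b - 1 - i by omega] at h1

theorem Turns.cons {M : Subgroup G} {b : ℕ} {e : Dart S} {d : ℕ → Dart S} (hd : Turns M b d)
    (he : Turn M e (d 0)) : Turns M b (consD e d) := fun i hi => by
  cases i with
  | zero => exact he
  | succ i => exact hd i (by omega)

theorem emb_shift (f : Amal S) (α β : MulAut ↥S) (g x : G) :
    emb (f * io α g) β x = emb f α g * emb f β x * (emb f α g)⁻¹ := by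
  simp only [emb_apply]
  group

theorem cenIn_normal {Y : Subgroup G} : (cenIn Y).Normal :=
  ⟨fun x hx g => by rwa [Subgroup.mem_center_iff.1 hx.2 g, mul_inv_cancel_right]⟩

variable {Q Y M : Subgroup G} {p q b : ℕ}

namespace PUp

variable (h : PUp S Q Y M p q) (hmin : ShortPaths Q Y b S) (hb : 2 ≤ b) [Finite G]
include h hmin hb

theorem exists_right {d : ℕ → Dart S} (hc : Crit Q Y b d) {g : G} (hg : g ∉ M) :
    ∃ e : Dart S, Turn M (d (b - 1)) e ∧ Crit Q Y b (fun i => if i + 1 < b then d (i + 1) else e) := by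
  obtain ⟨e, -, he, hce⟩ := h.exists_left hmin hb (h.crit_rev hmin hb hc) hg
  refine ⟨e.rev, by simpa [revD, Dart.rev] using he.rev, fun i hi => ?_, ?_⟩
  · show Link (if i + 1 < b then d (i + 1) else e.rev) (if i + 1 + 1 < b then d (i + 1 + 1) else e.rev)
    rw [if_pos hi]
    by_cases h2 : i + 1 + 1 < b
    · rw [if_pos h2]; exact hc.chain _ h2
    · rw [if_neg h2, show i + 1 = b - 1 by omega]
      simpa [revD, Dart.rev] using he.rev.link
  · have h1 := h.not_le' hmin hb hce
    show ¬ (if 0 + 1 < b then d (0 + 1) else e.rev).src Y ≤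
      (if b - 1 + 1 < b then d (b - 1 + 1) else e.rev).tgt Q
    rw [if_pos (by omega), if_neg (by omega)]
    rw [show b - 1 = (b - 2) + 1 by omega] at h1
    change ¬ (d (b - 1 - (b - 2))).rev.tgt Y ≤ e.src Q at h1
    rw [show b - 1 - (b - 2) = 1 by omega] at h1
    exact h1

/-- The commutator of the ends is central at the second vertex, if this is a turn. -/
theorem mid_comm {d : ℕ → Dart S} (hc : Crit Q Y b d) (ht : Turn M (d 0) (d 1)) {z w : Amal S}
    (hz : z ∈ (d 0).src Y) (hw : w ∈ (d (b - 1)).tgt Y) : ⁅z, w⁆ ∈ (d 0).tgt (cenIn Y) := by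
  obtain ⟨hl0, g, hg, hf0⟩ := ht
  obtain ⟨e, -, hce⟩ := h.exists_right hmin hb hc hg
  have h1 := h.left_comm hmin hb hce (e := d 0)
    (by rw [if_pos (show 0 + 1 < b by omega)]; exact ⟨hl0, g, hg, hf0⟩) hz (t := w)
    (by rw [if_pos (show b - 2 + 1 < b by omega), show b - 2 + 1 = b - 1 by omega]; exact hw)
  rw [if_pos (show 0 + 1 < b by omega)] at h1
  rwa [← (hc.link hb).src_eq cenIn_normal]

/-- Every critical path gives one in which all inner vertices are turns. -/
theorem exists_turns {d : ℕ → Dart S} (hc : Crit Q Y b d) {g : G} (hg : g ∉ M) :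
    ∃ d' : ℕ → Dart S, Crit Q Y b d' ∧ Turns M b d' := by
  have key : ∀ j, ∃ d' : ℕ → Dart S, Crit Q Y b d' ∧ ∀ i, i < j → i + 1 < b → Turn M (d' i) (d' (i + 1)) := by
    intro j
    induction j with
    | zero => exact ⟨d, hc, fun i hi => absurd hi (Nat.not_lt_zero i)⟩
    | succ j ih =>
      obtain ⟨d', hc', ht⟩ := ih
      obtain ⟨e, -, he, hce⟩ := h.exists_left hmin hb hc' hg
      refine ⟨_, hce, fun i hi hi' => ?_⟩
      cases i with
      | zero => exact he
      | succ i => exact ht i (by omega) (by omega)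
  obtain ⟨d', hc', ht⟩ := key b
  exact ⟨d', hc', fun i hi => ht i (by omega) hi⟩

omit hmin hb in
theorem conj_emb_mem (f : Amal S) (α : MulAut ↥S) (g : G) {X : Subgroup G} (hX : X.Normal) {x : Amal S}
    (hx : x ∈ X.map (emb f α)) : (emb f α g)⁻¹ * x * emb f α g ∈ X.map (emb f α) := by
  simpa using conj_mem_map hX hx (g := (emb f α g)⁻¹) (inv_mem ⟨g, rfl⟩)

/-- The second vertex is pushed into the inner Sylow subgroup by every element outside `M`. -/
theorem mate_le (hb3 : 3 ≤ b) {d : ℕ → Dart S} (hc : Crit Q Y b d) (ht : Turns M b d) {g : G} (hg : g ∉ M) :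
    Y.map (emb ((d 0).f * io (d 0).l g) (d 0).r) ≤ (d (b - 2)).tgt Q := by
  by_contra hle
  set e : Dart S := ⟨(d 0).f * io (d 0).l g, (d 0).r, (d 0).l⟩ with he
  have het : Turn M e (d 0) :=
    ⟨rfl, g⁻¹, fun hc' => hg (by simpa using inv_mem hc'), by simp [he, map_inv]⟩
  have hidx : b - 1 = (b - 2) + 1 := by omega
  have hc' : Crit Q Y b (consD e d) := by
    refine ⟨fun i hi => ?_, by rw [hidx]; exact hle⟩
    cases i with
    | zero => exact het.link
    | succ i => exact hc.chain i (by omega)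
  obtain ⟨z, hz, w, hw, hzw⟩ := h.exists_nontriv hmin hb hc'
  apply hzw
  -- central at the old first vertex
  have hc0 : ⁅z, w⁆ ∈ (d 0).src (cenIn Y) := h.left_comm hmin hb hc het hz (by rw [hidx] at hw; exact hw)
  -- central at the last vertex but one
  have hcL : ⁅z, w⁆ ∈ (d (b - 2)).src (cenIn Y) := by
    have h1 := h.mid_comm hmin hb (h.crit_rev hmin hb hc') ((ht.cons het).reverse 0 (by omega))
      (z := w) (w := z) (by show w ∈ (consD e d (b - 1 - 0)).rev.src Y; rw [Nat.sub_zero]; exact hw)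
      (by show z ∈ (consD e d (b - 1 - (b - 1))).rev.tgt Y; rw [Nat.sub_self]; exact hz)
    change ⁅w, z⁆ ∈ (consD e d (b - 1 - 0)).rev.tgt (cenIn Y) at h1
    rw [Nat.sub_zero, hidx] at h1
    rw [← commutatorElement_inv]
    exact inv_mem h1
  -- an element at the second vertex outside the core
  obtain ⟨gM, hgM, hd1⟩ := (ht 0 (by omega)).2
  obtain ⟨e', he', hcr⟩ := h.exists_right hmin hb hc hg
  obtain ⟨x, hx, hxS, hxQ⟩ := h.exists_w hmin hb hcr
  rw [if_neg (show ¬ (b - 1 + 1 < b) by omega)] at hx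
  rw [if_pos (show 0 + 1 < b by omega)] at hxS hxQ
  have hcomm : Commute ⁅z, w⁆ x := by
    refine commute_C hcL ?_
    by_cases hb4 : b = 3
    · subst hb4
      exact h.sh_range _ _ hxS
    · have hch : Chain 3 (fun i => if i + (b - 2) < b then d (i + (b - 2)) else e') := fun i hi => by
        show Link (if i + (b - 2) < b then d (i + (b - 2)) else e')
          (if i + 1 + (b - 2) < b then d (i + 1 + (b - 2)) else e')
        rw [if_pos (by omega)]
        rcases (show i = 0 ∨ i = 1 by omega) with rfl | rfl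
        · rw [if_pos (by omega), show 0 + 1 + (b - 2) = 0 + (b - 2) + 1 by omega]
          exact hc.chain _ (by omega)
        · rw [if_neg (by omega), show 1 + (b - 2) = b - 1 by omega]
          exact he'.link
      have h3 := hmin 3 (by norm_num) (by omega) _ hch.reverse (by
        show x ∈ (if 3 - 1 - 0 + (b - 2) < b then d (3 - 1 - 0 + (b - 2)) else e').rev.src Y
        rw [if_neg (by omega)]
        exact hx)
      change x ∈ (if 3 - 1 - (3 - 1) + (b - 2) < b then d (3 - 1 - (3 - 1) + (b - 2)) else e').rev.tgt Q at h3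
      rw [if_pos (by omega), show 3 - 1 - (3 - 1) + (b - 2) = b - 2 by omega] at h3
      exact Subgroup.map_le_range _ _ h3
  -- hence central at the second vertex
  have hzh : ⁅z, w⁆ ∈ zh (d 0).f := by
    obtain ⟨a, ha, hae⟩ := hc0
    rw [← h.Z_map _ (d 0).l]
    exact ⟨a, h.C_le ha, hae⟩
  have hzY : ⁅z, w⁆ ∈ (d 1).src Y := by
    rw [(hc.link hb).src_eq h.Yn]
    exact h.zh_le _ _ hzh
  have h1C : ⁅z, w⁆ ∈ (d 0).tgt (cenIn Y) := h.cap hgM hzh (hd1 ▸ h.sep' hzY hxS hxQ hcomm)
  obtain ⟨c1, hc1, hce⟩ := h1C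
  refine ⟨c1, hc1, ?_⟩
  show emb ((d 0).f * io (d 0).l g) (d 0).r c1 = _
  rw [emb_shift, hce, ← (commute_C hc0 (x := emb (d 0).f (d 0).l g) ⟨g, rfl⟩).eq, mul_inv_cancel_right]

/-- The first two vertices give a subgroup normal at the first vertex. -/
theorem pair_normal (hb3 : 3 ≤ b) {d : ℕ → Dart S} (hc : Crit Q Y b d) (ht : Turns M b d) :
    (emb (d 0).f (d 0).l).range ≤ Subgroup.normalizer (((d 0).src Y ⊔ (d 0).tgt Y : Subgroup (Amal S)) : Set (Amal S)) := by
  obtain ⟨g, hg, -⟩ := (ht 0 (by omega)).2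
  set A := (d 0).src Y ⊔ (d 0).tgt Y with hA
  set k := emb (d 0).f (d 0).l g with hk
  have hl := hc.chain (b - 2) (by omega)
  rw [show b - 2 + 1 = b - 1 by omega] at hl
  -- conjugates of the end elements normalize `A`
  have key : ∀ v ∈ (d (b - 1)).tgt Y, A ≤ A.comap (MulAut.conj (k⁻¹ * v * k)).toMonoidHom := by
    intro v hv
    have hvR : v ∈ (emb (d 0).f (d 0).l).range := h.sh_range _ _ (h.tgt_sh_first hmin hb hc hv)
    refine sup_le (fun x hx => Subgroup.mem_sup_left (conj_mem_map h.Yn hx ?_)) fun x hx => ?_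
    · exact mul_mem (mul_mem (inv_mem ⟨g, rfl⟩) hvR) ⟨g, rfl⟩
    · show k⁻¹ * v * k * x * (k⁻¹ * v * k)⁻¹ ∈ A
      have hkx : k * x * k⁻¹ ∈ Y.map (emb ((d 0).f * io (d 0).l g) (d 0).r) := by
        obtain ⟨a, ha, rfl⟩ := hx
        exact ⟨a, ha, emb_shift _ _ _ _ _⟩
      have hsh : k * x * k⁻¹ ∈ sh (d (b - 1)).f := by
        have h1 := h.mate_le hmin hb hb3 hc ht hg hkx
        rw [← hl.src_eq h.Qn] at h1
        exact h.Q_sh _ _ h1
      rw [show k⁻¹ * v * k * x * (k⁻¹ * v * k)⁻¹ = k⁻¹ * ⁅k * x * k⁻¹, v⁆⁻¹ * k * x by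
        simp only [commutatorElement_def]; group]
      exact mul_mem (Subgroup.mem_sup_left (h.conj_emb_mem _ _ g h.Yn (inv_mem (h.comm_shift hmin hb hc hsh hv))))
        (Subgroup.mem_sup_right hx)
  obtain ⟨w, hw, hwS, hwQ⟩ := h.exists_w hmin hb hc
  rw [← map_S _ (d 0).l] at hwS
  obtain ⟨s, hs, hsw⟩ := hwS
  have hgi : g⁻¹ ∉ M := fun hc' => hg (by simpa using inv_mem hc')
  have e1 : k⁻¹ * w * k = emb ((d 0).f * io (d 0).l g⁻¹) (d 0).l s := by
    rw [emb_mul, hk, ← hsw, ← map_inv, ← map_mul, ← map_mul, inv_inv]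
  refine h.gen hgi (w := k⁻¹ * w * k) ?_ ?_ ?_ ?_
  · rw [e1, ← map_S _ (d 0).l]
    exact ⟨s, hs, rfl⟩
  · intro hq
    refine hwQ ?_
    have := conj_mem_map h.Qn hq (g := k) ⟨g, rfl⟩
    simpa [mul_assoc] using this
  · refine le_trans (le_of_eq (map_S (d 0).f (d 0).l).symm) ?_
    rintro _ ⟨t, ht', rfl⟩
    have hT : ∀ β : MulAut ↥S, emb (d 0).f (d 0).l t ∈ (emb (d 0).f β).range := fun β => by
      exact ⟨_, (emb_mem_S (d 0).f (d 0).l β ⟨t, ht'⟩).symm⟩
    have hi : ∀ u : Amal S, (∀ β : MulAut ↥S, u ∈ (emb (d 0).f β).range) →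
        A ≤ A.comap (MulAut.conj u).toMonoidHom := fun u hu =>
      sup_le (fun x hx => Subgroup.mem_sup_left (conj_mem_map h.Yn hx (hu _)))
        (fun x hx => Subgroup.mem_sup_right (conj_mem_map h.Yn hx (hu _)))
    refine Subgroup.mem_normalizer_iff.2 fun x => ⟨fun hx => hi _ hT hx, fun hx => ?_⟩
    have h2 := hi _ (fun β => inv_mem (hT β)) hx
    simpa [mul_assoc] using h2
  · refine Subgroup.mem_normalizer_iff.2 fun x => ⟨fun hx => key w hw hx, fun hx => ?_⟩
    have h2 := key w⁻¹ (inv_mem hw) hx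
    simpa [mul_assoc] using h2

/-- No critical path has three or more edges. -/
theorem no_long (hb3 : 3 ≤ b) {d : ℕ → Dart S} (hc : Crit Q Y b d) : False := by
  obtain ⟨g₀, hg₀⟩ : ∃ g, g ∉ M := by
    by_contra hcon
    simp only [not_exists, not_not] at hcon
    exact h.M_ne (eq_top_iff.2 fun x _ => hcon x)
  obtain ⟨d, hc, ht⟩ := h.exists_turns hmin hb hc hg₀
  obtain ⟨e, -, he, hce⟩ := h.exists_left hmin hb hc hg₀
  -- a path ending with the new edge
  have key : ∀ j, j < b → ∃ d' : ℕ → Dart S, Crit Q Y b d' ∧ Turns M b d' ∧ d' j = e := by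
    intro j
    induction j with
    | zero => exact fun _ => ⟨_, hce, ht.cons he, rfl⟩
    | succ j ih =>
      intro hj
      obtain ⟨d', hc', ht', hj'⟩ := ih (by omega)
      obtain ⟨e', -, he', hce'⟩ := h.exists_left hmin hb hc' hg₀
      exact ⟨_, hce', ht'.cons he', hj'⟩
  obtain ⟨d', hc', ht', hlast⟩ := key (b - 1) (by omega)
  have hnorm := h.pair_normal hmin hb hb3 (h.crit_rev hmin hb hc') ht'.reverse
  have e0 : revD b d' 0 = e.rev := by show (d' (b - 1 - 0)).rev = _; rw [Nat.sub_zero, hlast]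
  rw [e0] at hnorm
  obtain ⟨hel, g, hg, hef⟩ := he.rev
  change e.r = (d 0).l at hel
  change e.f = (d 0).f * io (d 0).l g at hef
  set k := emb (d 0).f (d 0).l g with hk
  set A := e.rev.src Y ⊔ e.rev.tgt Y with hA
  set A' := (d 0).src Y ⊔ Y.map (emb (d 0).f e.l) with hA'
  have hkA : k ∈ Subgroup.normalizer (A : Set (Amal S)) := by
    refine hnorm ?_
    show k ∈ (emb e.f e.r).range
    rw [hel, hef, range_emb_mul]
    exact ⟨g, rfl⟩
  have hAmap : A ≤ A'.map (MulAut.conj k).toMonoidHom := by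
    refine sup_le ?_ ?_
    · intro x hx
      change x ∈ Y.map (emb e.f e.r) at hx
      rw [hel, hef, map_emb_mul h.Yn] at hx
      refine ⟨k⁻¹ * x * k, Subgroup.mem_sup_left ?_, by simp [mul_assoc]⟩
      exact h.conj_emb_mem _ _ g h.Yn hx
    · intro x hx
      change x ∈ Y.map (emb e.f e.l) at hx
      rw [hef] at hx
      obtain ⟨a, ha, rfl⟩ := hx
      exact ⟨_, Subgroup.mem_sup_right ⟨a, ha, rfl⟩, (emb_shift _ _ _ _ _).symm⟩
  have hsub : e.src Y ≤ A' := fun x hx => by
    obtain ⟨a, ha, hax⟩ := hAmap ((Subgroup.mem_normalizer_iff.1 hkA x).1 (Subgroup.mem_sup_right hx))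
    exact (MulAut.conj k).injective hax ▸ ha
  refine hce.not_le ?_
  rw [show b - 1 = (b - 2) + 1 by omega]
  show e.src Y ≤ (d (b - 2)).tgt Q
  refine hsub.trans (sup_le ?_ ?_)
  · have h1 := hmin (b - 1) (by omega) (by omega) d (hc.chain.mono (by omega))
    rwa [show b - 1 - 1 = b - 2 by omega] at h1
  · have hch : Chain (b - 1) (fun i => if i = 0 then ⟨(d 0).f, e.l, (d 0).r⟩ else d i) := fun i hi => by
      show Link (if i = 0 then _ else d i) (if i + 1 = 0 then _ else d (i + 1))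
      rw [if_neg (show i + 1 ≠ 0 by omega)]
      by_cases hi0 : i = 0
      · subst hi0
        rw [if_pos rfl]
        exact hc.link hb
      · rw [if_neg hi0]
        exact hc.chain i (by omega)
    have h1 := hmin (b - 1) (by omega) (by omega) _ hch
    simp only [if_true, show b - 1 - 1 = b - 2 by omega, if_neg (show b - 2 ≠ 0 by omega)] at h1
    exact h1

end PUp

end Cfsg.Agent.PushUp
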