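import Cfsg.Agent.Lib.PushUp.StrongFFNatural

/-!
# A natural `SL₂` subgroup whose normalizer holds a Sylow subgroup

Its root group `A` is weakly closed.  An element of a root group normalizing another one meets it in a subfield line, which
leaves only the field with four elements; otherwise the spread lemma puts every root group inside `L`.
-/

set_option autoImplicit false

namespace Cfsg.Agent.NatNormal

open Cfsg.Agent Cfsg.Agent.BestOff Cfsg.Agent.StrongFF

universe u v

variable {P : Type u} [Group P] {X : Type v} [AddCommGroup X] {p : ℕ}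

/-- The hypotheses: `A` is a root group of the natural `SL₂` subgroup `L` and `T` a Sylow subgroup in its normalizer. -/
structure Setup (ρ : P →* AddMonoid.End X) (A T L : Subgroup P) (p : ℕ) : Prop where
  exp : ∀ v : X, p • v = 0
  faithful : ∀ g, (∀ v, ρ g v = v) → g = 1
  A_ne : A ≠ ⊥
  A_le : A ≤ L
  syl : Fusion.SylIn p T ⊤
  A_T : A ≤ T
  T_norm : T ≤ Subgroup.normalizer (L : Set P)
  T_A : T ≤ Subgroup.normalizer (A : Set P)
  cardX : Nat.card X = Nat.card A * Nat.card A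
  cardFix : Nat.card (fixed ρ A) = Nat.card A
  free : ∀ a ∈ A, a ≠ 1 → ∀ v, ρ a v = v → v ∈ fixed ρ A
  quad : ∀ a ∈ A, ∀ v, ρ a v - v ∈ fixed ρ A
  fix_small : ∀ t ∈ T, (∀ v ∈ fixed ρ A, ρ t v = v) → t ∈ A
  small : ∀ U : Subgroup P, U ≤ T → (∀ x ∈ U, x ^ p = 1) → U ⊓ A = ⊥ → Nat.card U ≤ p
  odd_small : p ≠ 2 → Nat.card A = p * p → T = A
  lines : ∀ v : X, v ≠ 0 → ∃ c ∈ L, v ∈ fixed ρ (cA A c)
  genL : ∀ K : Subgroup P, (∀ c ∈ L, cA A c ≤ K) → L ≤ K

variable {ρ : P →* AddMonoid.End X} {A T L : Subgroup P} (D : Setup ρ A T L p)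
include D

theorem Setup.act_fixed (g : P) {v : X} (hv : v ∈ fixed ρ A) : ρ g v ∈ fixed ρ (cA A g) := by
  rintro _ ⟨a, ha, rfl⟩
  show ρ (g * a * g⁻¹) (ρ g v) = ρ g v
  rw [← act_mul, inv_mul_cancel_right, act_mul, hv a ha]

theorem Setup.act_fixed_inv (g : P) {v : X} (hv : v ∈ fixed ρ (cA A g)) : ρ g⁻¹ v ∈ fixed ρ A := fun a ha => by
  have h1 : ρ (g * a * g⁻¹) v = v := hv _ ⟨a, ha, rfl⟩
  conv_rhs => rw [← h1]
  rw [← act_mul, ← act_mul]
  congr 2
  group

theorem Setup.card_conj (g : P) : Nat.card (cA A g) = Nat.card A :=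
  (Nat.card_congr (A.equivMapOfInjective _ (MulEquiv.injective _)).toEquiv).symm

theorem Setup.card_fixed (g : P) : Nat.card (fixed ρ (cA A g)) = Nat.card A :=
  (Nat.card_congr
    { toFun := fun v : fixed ρ (cA A g) => (⟨ρ g⁻¹ v, D.act_fixed_inv g v.2⟩ : fixed ρ A)
      invFun := fun v => ⟨ρ g v, D.act_fixed g v.2⟩
      left_inv := fun v => Subtype.ext (act_self_inv ρ g v)
      right_inv := fun v => Subtype.ext (act_inv_self ρ g v) }).trans D.cardFix

theorem Setup.free_conj {g a : P} (ha : a ∈ cA A g) (ha1 : a ≠ 1) {v : X} (hv : ρ a v = v) :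
    v ∈ fixed ρ (cA A g) := by
  obtain ⟨b, hb, rfl⟩ := ha
  have hb1 : b ≠ 1 := fun e => ha1 (by rw [e]; simp)
  have h1 : ρ b (ρ g⁻¹ v) = ρ g⁻¹ v := by
    have hv' : ρ (g * b * g⁻¹) v = v := hv
    conv_rhs => rw [← hv']
    rw [← act_mul, ← act_mul]
    congr 2
    group
  have h2 := D.act_fixed g (D.free b hb hb1 _ h1)
  rwa [act_self_inv] at h2

theorem Setup.quad_conj {g a : P} (ha : a ∈ cA A g) (v : X) : ρ a v - v ∈ fixed ρ (cA A g) := by
  obtain ⟨b, hb, rfl⟩ := ha
  have h1 := D.act_fixed g (D.quad b hb (ρ g⁻¹ v))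
  show ρ (g * b * g⁻¹) v - v ∈ fixed ρ (cA A g)
  rwa [map_sub, act_self_inv, ← act_mul, ← act_mul] at h1

theorem Setup.pow_eq_one {g a : P} (ha : a ∈ cA A g) : a ^ p = 1 := D.faithful _ fun v => by
  have h1 : ∀ m : ℕ, ρ (a ^ m) v = v + m • (ρ a v - v) := by
    intro m
    induction m with
    | zero => rw [pow_zero, act_one, zero_smul, add_zero]
    | succ m im =>
      rw [pow_succ', act_mul, im, map_add, map_nsmul, D.quad_conj ha v a ha, succ_nsmul]
      abel
  rw [h1, D.exp, add_zero]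

theorem Setup.isPGroup (g : P) : IsPGroup p (cA A g) := fun a => ⟨1, Subtype.ext (by
  show (a : P) ^ p ^ 1 = 1
  rw [pow_one]
  exact D.pow_eq_one a.2)⟩

theorem Setup.norm_fixed {n : P} (hn : n ∈ Subgroup.normalizer (A : Set P)) {v : X} (hv : v ∈ fixed ρ A) :
    ρ n v ∈ fixed ρ A := fun a ha => by
  have h1 : n⁻¹ * a * n ∈ A := (Subgroup.mem_normalizer_iff''.1 hn a).1 ha
  rw [← act_mul, show a * n = n * (n⁻¹ * a * n) by group, act_mul, hv _ h1]

variable [hp : Fact p.Prime] [Finite P] [Finite X]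

/-- A `p`-subgroup fixing every vector of the fixed part of `A` is no larger than `A`. -/
theorem Setup.card_le_of_fix {U : Subgroup P} (hU : IsPGroup p U) (hN : U ≤ Subgroup.normalizer (A : Set P))
    (hfix : ∀ x ∈ U, ∀ v ∈ fixed ρ A, ρ x v = v) : Nat.card U ≤ Nat.card A := by
  have hsyl : Fusion.SylIn p T (Subgroup.normalizer (A : Set P)) := D.syl.mono D.T_A le_top
  obtain ⟨m, hm, hmT⟩ := hsyl.conj_le hU hN
  rw [← Fusion.card_cj U m]
  refine Subgroup.card_le_of_le fun x hx => D.fix_small x (hmT hx) fun v hv => ?_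
  obtain ⟨y, hy, rfl⟩ := hx
  show ρ (m * y * m⁻¹) v = v
  rw [act_mul, act_mul, hfix y hy _ (D.norm_fixed (inv_mem hm) hv), act_self_inv]

/-- The stabilizer of the fixed part of `A` normalizes `A`. -/
theorem Setup.norm_of_stab {g : P} (h : ∀ v ∈ fixed ρ A, ρ g v ∈ fixed ρ A) :
    g ∈ Subgroup.normalizer (A : Set P) := by
  have heq : fixed ρ (cA A g) = fixed ρ A := by
    refine AddSubgroup.eq_of_le_of_card_ge (fun v hv => ?_) (by rw [D.card_fixed, D.cardFix])
    have := h _ (D.act_fixed_inv g hv)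
    rwa [act_self_inv] at this
  set U := A ⊔ cA A g
  let S : Subgroup P :=
    { carrier := {l | l ∈ U ∧ ∀ v, ρ l v - v ∈ fixed ρ A}
      one_mem' := ⟨one_mem U, fun v => by rw [act_one, sub_self]; exact zero_mem _⟩
      mul_mem' := fun {a b} ha hb => ⟨mul_mem ha.1 hb.1, fun v => by
        rw [show ρ (a * b) v - v = (ρ a (ρ b v) - ρ b v) + (ρ b v - v) by rw [act_mul]; abel]
        exact add_mem (ha.2 _) (hb.2 v)⟩
      inv_mem' := fun {a} ha => ⟨inv_mem ha.1, fun v => by
        have h3 := ha.2 (ρ a⁻¹ v)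
        rw [act_self_inv] at h3
        rw [show ρ a⁻¹ v - v = -(v - ρ a⁻¹ v) by abel]
        exact neg_mem h3⟩ }
  have hfixU : ∀ v ∈ fixed ρ A, v ∈ fixed ρ U := fun v hv => fixed_sup ρ hv (heq.ge hv)
  have hUS : U ≤ S := sup_le (fun a ha => ⟨Subgroup.mem_sup_left ha, D.quad a ha⟩)
    (fun a ha => ⟨Subgroup.mem_sup_right ha, fun v => heq.le (D.quad_conj ha v)⟩)
  have hexpU : ∀ l ∈ U, ∀ v, ρ (l ^ p) v = v := fun l hl v => by
    have h1 : ∀ m : ℕ, ρ (l ^ m) v = v + m • (ρ l v - v) := by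
      intro m
      induction m with
      | zero => rw [pow_zero, act_one, zero_smul, add_zero]
      | succ m im =>
        rw [pow_succ', act_mul, im, map_add, map_nsmul, hfixU _ ((hUS hl).2 v) l hl, succ_nsmul]
        abel
    rw [h1, D.exp, add_zero]
  have hcomm : ∀ a ∈ U, ∀ b ∈ U, a * b = b * a := fun a ha b hb => by
    have key : ∀ x ∈ U, ∀ y ∈ U, ∀ w, ρ (x * y) w = w + (ρ x w - w) + (ρ y w - w) := fun x hx y hy w => by
      have h2 := hfixU _ ((hUS hy).2 w) x hx
      rw [map_sub, sub_eq_iff_eq_add] at h2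
      rw [act_mul, h2]
      abel
    refine (inv_mul_eq_one.1 (D.faithful ((b * a)⁻¹ * (a * b)) fun v => ?_)).symm
    rw [act_mul, key a ha b hb, show v + (ρ a v - v) + (ρ b v - v) = ρ (b * a) v by rw [key b hb a ha]; abel,
      act_inv_self]
  have hUn : U ≤ Subgroup.normalizer (A : Set P) := fun u hu => by
    rw [Subgroup.mem_normalizer_iff]
    intro a
    constructor
    · intro ha
      rwa [hcomm u hu a (Subgroup.mem_sup_left ha), mul_inv_cancel_right]
    · intro ha
      have h1 := hcomm u⁻¹ (inv_mem hu) _ (Subgroup.mem_sup_left ha)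
      have h2 : a = u * a * u⁻¹ := by
        calc a = u⁻¹ * (u * a * u⁻¹) * u := by group
          _ = u * a * u⁻¹ := by rw [h1]; group
      exact h2 ▸ ha
  have hcard := D.card_le_of_fix (U := U)
    (fun l => ⟨1, Subtype.ext (by
      rw [Subgroup.coe_pow, pow_one, Subgroup.coe_one]
      exact D.faithful _ (hexpU l l.2))⟩) hUn
    (fun x hx v hv => hfixU v hv x hx)
  have hA : A = U := Subgroup.eq_of_le_of_card_ge le_sup_left hcard
  have hgA : cA A g = A := Subgroup.eq_of_le_of_card_ge ((le_sup_right : cA A g ≤ U).trans_eq hA.symm) (D.card_conj g).ge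
  rw [Subgroup.mem_normalizer_iff]
  intro a
  constructor
  · exact fun ha => hgA.le ⟨a, ha, rfl⟩
  · intro ha
    have h3 := mem_cA.1 (hgA.ge ha)
    simpa [mul_assoc] using h3

/-- A root group element normalizing another root group. -/
theorem Setup.bad {g : P} (hg : g ∉ Subgroup.normalizer (A : Set P)) {a : P} (ha : a ∈ A) (ha1 : a ≠ 1)
    (hbad : g⁻¹ * a * g ∈ Subgroup.normalizer (A : Set P)) :
    p = 2 ∧ Nat.card A = 4 ∧ ∃ t ∈ T, t ∉ A := by
  classical
  set X0 := fixed ρ A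
  set Y := fixed ρ (cA A g)
  set B := cA A g
  have hnB : ∀ b ∈ B, a * b * a⁻¹ ∈ B := fun b hb => by
    rw [mem_cA] at hb ⊢
    have h1 := (Subgroup.mem_normalizer_iff.1 hbad _).1 hb
    simpa [mul_assoc] using h1
  have hnB' : ∀ b ∈ B, a⁻¹ * b * a ∈ B := fun b hb => by
    rw [mem_cA] at hb ⊢
    have h1 := (Subgroup.mem_normalizer_iff''.1 hbad _).1 hb
    simpa [mul_assoc] using h1
  have haY : ∀ v ∈ Y, ρ a v ∈ Y := fun v hv b hb => by
    rw [← act_mul, show b * a = a * (a⁻¹ * b * a) by group, act_mul, hv _ (hnB' b hb)]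
  have hne : ¬ X0 ≤ Y := fun hle => hg (D.norm_of_stab fun v hv => by
    have heq : X0 = Y := AddSubgroup.eq_of_le_of_card_ge hle (by rw [D.card_fixed, D.cardFix])
    exact heq.ge (D.act_fixed g hv))
  obtain ⟨β, hβ, hβn⟩ := SetLike.not_le_iff_exists.1 hne
  set I := X0 ⊓ Y
  -- the commutator map of `a` on `Y`
  let φ : Y →+ I := AddMonoidHom.mk' (fun v => (⟨ρ a v - v, D.quad a ha v, Y.sub_mem (haY v v.2) v.2⟩ : I))
    fun v w => Subtype.ext (by show ρ a ((v : X) + w) - (v + w) = (ρ a v - v) + (ρ a w - w); rw [map_add]; abel)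
  have hker : φ.ker ≤ I.addSubgroupOf Y := fun v hv =>
    ⟨D.free a ha ha1 v (sub_eq_zero.1 (congrArg Subtype.val hv)), v.2⟩
  have hYI : Nat.card A ≤ Nat.card I * Nat.card I := by
    have h0 := AddSubgroup.index_mul_card φ.ker
    rw [AddSubgroup.index_ker, D.card_fixed] at h0
    rw [← h0]
    refine Nat.mul_le_mul (AddSubgroup.card_le_card_addGroup _) ((AddSubgroup.card_le_of_le hker).trans_eq ?_)
    exact Nat.card_congr (AddSubgroup.addSubgroupOfEquivOfLe inf_le_right).toEquiv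
  -- evaluation at `β`
  let ev : B → Y := fun b => ⟨ρ b β - β, D.quad_conj b.2 β⟩
  have hev : Function.Bijective ev := by
    refine (Nat.bijective_iff_injective_and_card ev).2 ⟨fun b c e => ?_, by rw [D.card_conj, D.card_fixed]⟩
    by_contra hne'
    have e' : ρ b β = ρ c β := sub_left_injective (congrArg Subtype.val e)
    refine hβn (D.free_conj (mul_mem (inv_mem b.2) c.2) (fun h => hne' (Subtype.ext (inv_mul_eq_one.1 h))) ?_)
    rw [act_mul, ← e', act_inv_self]
  have hβa : ρ a β = β := hβ a ha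
  have hβa' : ρ a⁻¹ β = β := hβ _ (inv_mem ha)
  set C := B ⊓ Subgroup.centralizer ({a} : Set P) with hC
  have hmemC : ∀ b : P, b ∈ C ↔ b ∈ B ∧ a * b = b * a := fun b => by
    rw [hC, Subgroup.mem_inf, Subgroup.mem_centralizer_iff]
    exact and_congr_right fun _ => ⟨fun h => h a rfl, fun h y hy => by rw [Set.mem_singleton_iff.1 hy]; exact h⟩
  have hevC : ∀ b : B, ((ev b : X) ∈ X0 ↔ (b : P) ∈ C) := fun b => by
    have h1 : ρ a (ev b : X) = ev ⟨a * b * a⁻¹, hnB b b.2⟩ := by
      show ρ a (ρ b β - β) = ρ (a * b * a⁻¹) β - β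
      rw [map_sub, hβa, act_mul (ρ := ρ) (a * b), hβa', act_mul]
    constructor
    · intro h
      have h2 := h a ha
      rw [h1] at h2
      have h3 := congrArg Subtype.val (hev.1 (Subtype.ext h2))
      exact (hmemC b).2 ⟨b.2, mul_inv_eq_iff_eq_mul.1 h3⟩
    · intro h
      refine D.free a ha ha1 _ ?_
      rw [h1]
      exact congrArg (fun x : B => ((ev x : Y) : X)) (Subtype.ext (mul_inv_eq_iff_eq_mul.2 ((hmemC b).1 h).2))
  have hcardC : Nat.card C = Nat.card I := Nat.card_congr (Equiv.ofBijective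
    (fun b : C => (⟨ev ⟨b, b.2.1⟩, (hevC _).2 b.2, (ev ⟨b, b.2.1⟩).2⟩ : I))
    ⟨fun b c e => by
      have := congrArg Subtype.val (hev.1 (Subtype.ext (congrArg (fun x : I => (x : X)) e) : ev ⟨b, b.2.1⟩ = ev ⟨c, c.2.1⟩))
      exact Subtype.ext this,
    fun v => by
      obtain ⟨b, hb⟩ := hev.2 ⟨v, v.2.2⟩
      have hb' : ((ev b : Y) : X) = v := congrArg Subtype.val hb
      exact ⟨⟨b, (hevC b).1 (hb' ▸ v.2.1)⟩, Subtype.ext hb'⟩⟩)
  have hCN : C ≤ Subgroup.normalizer (A : Set P) := fun b hb => D.norm_of_stab fun v hv => by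
    refine D.free a ha ha1 _ ?_
    rw [← act_mul, ((hmemC b).1 hb).2, act_mul, hv a ha]
  -- move `C` into `T`
  have hsyl : Fusion.SylIn p T (Subgroup.normalizer (A : Set P)) := D.syl.mono D.T_A le_top
  obtain ⟨m, hm, hmT⟩ := hsyl.conj_le ((D.isPGroup g).to_le inf_le_left) hCN
  have hCA : Fusion.cj C m ⊓ A = ⊥ := by
    refine eq_bot_iff.2 fun x hx => ?_
    obtain ⟨⟨b, hb, rfl⟩, hxA⟩ := hx
    rw [Subgroup.mem_bot]
    suffices b = 1 by rw [this]; simp
    by_contra hb1
    refine hβn (D.free_conj hb.1 hb1 ?_)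
    have h1 : ρ (m * b * m⁻¹) (ρ m β) = ρ m β := (D.norm_fixed hm hβ) _ hxA
    rw [← act_mul, inv_mul_cancel_right, act_mul] at h1
    have h2 := congrArg (ρ m⁻¹) h1
    rwa [act_inv_self, act_inv_self] at h2
  have hCp : Nat.card C ≤ p := by
    rw [← Fusion.card_cj C m]
    refine D.small _ hmT ?_ hCA
    rintro _ ⟨b, hb, rfl⟩
    rw [← map_pow, D.pow_eq_one hb.1, map_one]
  -- so the field has `p ^ 2` elements
  obtain ⟨e, he⟩ := IsPGroup.iff_card.1 (D.isPGroup (1 : P))
  rw [D.card_conj] at he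
  have hI0 : Nat.card I ≠ 1 := by
    intro h
    rw [h, mul_one] at hYI
    have : 2 ≤ Nat.card A := by
      haveI := (Subgroup.nontrivial_iff_ne_bot A).2 D.A_ne
      exact Finite.one_lt_card
    omega
  have hIdvd : Nat.card I ∣ p ^ e := by
    rw [← he, ← D.cardFix]
    exact AddSubgroup.card_dvd_of_le inf_le_left
  obtain ⟨i, hie, hi⟩ := (Nat.dvd_prime_pow hp.out).1 hIdvd
  have hp2 := hp.out.two_le
  have hi1 : i = 1 := by
    rw [hcardC, hi] at hCp
    rcases Nat.lt_trichotomy i 1 with h | h | h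
    · exact absurd (by rw [hi, show i = 0 by omega, pow_zero]) hI0
    · exact h
    · exfalso
      have h1 : p ^ 2 ≤ p ^ i := Nat.pow_le_pow_right hp.out.pos h
      nlinarith
  rw [hi, hi1, pow_one] at hYI
  have hlt : Nat.card I < Nat.card A := by
    refine lt_of_le_of_ne ?_ fun h => hne ?_
    · rw [← D.cardFix]; exact AddSubgroup.card_le_of_le inf_le_left
    · have : I = X0 := AddSubgroup.eq_of_le_of_card_ge inf_le_left (by rw [h, D.cardFix])
      exact this ▸ inf_le_right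
  rw [hi, hi1, pow_one, he] at hlt
  have he2 : e = 2 := by
    have h1 : e ≤ 2 := (Nat.pow_le_pow_iff_right hp.out.one_lt).1 (by rw [← he, pow_two]; exact hYI)
    have h2 : 1 < e := (Nat.pow_lt_pow_iff_right hp.out.one_lt).1 (by rwa [pow_one])
    omega
  have hA2 : Nat.card A = p * p := by rw [he, he2, pow_two]
  have hCcard : Nat.card (Fusion.cj C m) = p := by rw [Fusion.card_cj, hcardC, hi, hi1, pow_one]
  have hpeq : p = 2 := by
    by_contra hodd
    have hTA := D.odd_small hodd hA2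
    have h1 : Fusion.cj C m ≤ ⊥ := hCA ▸ le_inf le_rfl (hTA ▸ hmT)
    rw [le_bot_iff.1 h1, Subgroup.card_bot] at hCcard
    omega
  refine ⟨hpeq, by rw [hA2, hpeq], ?_⟩
  by_contra hcon
  simp only [not_exists, not_and, not_not] at hcon
  have h1 : Fusion.cj C m ≤ ⊥ := hCA ▸ le_inf le_rfl fun x hx => hcon x (hmT hx)
  rw [le_bot_iff.1 h1, Subgroup.card_bot] at hCcard
  omega

/-- Outside the exceptional field the subgroup is normal. -/
theorem Setup.normal_or : L.Normal ∨ (p = 2 ∧ Nat.card A = 4 ∧ ∃ t ∈ T, t ∉ A) := by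
  classical
  by_contra hcon
  simp only [not_or] at hcon
  obtain ⟨hnn, hexc⟩ := hcon
  set N := Subgroup.normalizer (A : Set P)
  have hpA : IsPGroup p A := by
    have := D.isPGroup 1
    rwa [cA_one] at this
  have SF : StrongFF.Pack ρ A N p := StrongFF.Pack.mk' D.exp D.faithful Subgroup.le_normalizer hpA D.A_ne D.quad
    (by rw [D.cardX, D.cardFix]) fun g hg a ha ha1 hga => hexc (D.bad (g := g⁻¹) (fun h => hg (by simpa using inv_mem h))
      ha ha1 (by simpa using hga))
  refine hnn ⟨fun l hl x => ?_⟩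
  have hK : L ≤ L.comap (MulAut.conj x).toMonoidHom := by
    refine D.genL _ fun c hc => ?_
    intro y hy
    show x * y * x⁻¹ ∈ L
    have hy' : x * y * x⁻¹ ∈ cA A (x * c) := mem_cA.2 (by have := mem_cA.1 hy; simpa [mul_assoc] using this)
    obtain ⟨v, hv, hv0⟩ : ∃ v ∈ fixed ρ (cA A (x * c)), v ≠ 0 := by
      have h1 : 1 < Nat.card (fixed ρ (cA A (x * c))) := by
        rw [D.card_fixed]
        haveI := (Subgroup.nontrivial_iff_ne_bot A).2 D.A_ne
        exact Finite.one_lt_card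
      haveI := Finite.one_lt_card_iff_nontrivial.1 h1
      obtain ⟨v, hv⟩ := exists_ne (0 : fixed ρ (cA A (x * c)))
      exact ⟨v, v.2, fun e => hv (Subtype.ext e)⟩
    obtain ⟨d, hd, hvd⟩ := D.lines v hv0
    have hin : (x * c)⁻¹ * d ∈ N := by
      by_contra hout
      obtain ⟨-, hidx, -⟩ := SF.pair (x * c) d hout
      have h2 := AddSubgroup.index_mul_card (fixed ρ (cA A (x * c)) ⊓ fixed ρ (cA A d))
      rw [hidx, D.cardX] at h2
      have hcard1 : Nat.card ↥(fixed ρ (cA A (x * c)) ⊓ fixed ρ (cA A d)) = 1 := by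
        have hpos : 0 < Nat.card A * Nat.card A := Nat.mul_pos Nat.card_pos Nat.card_pos
        exact Nat.eq_of_mul_eq_mul_left hpos (h2.trans (mul_one _).symm)
      have h3 := (AddSubgroup.card_eq_one.1 hcard1).le ⟨hv, hvd⟩
      exact hv0 h3
    have h4 : d⁻¹ * (x * y * x⁻¹) * d ∈ A := by
      have h5 := (Subgroup.mem_normalizer_iff''.1 hin _).1 (mem_cA.1 hy')
      simpa [mul_assoc] using h5
    have h6 := mul_mem (mul_mem hd (D.A_le h4)) (inv_mem hd)
    simpa [mul_assoc] using h6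
  exact hK hl

end Cfsg.Agent.NatNormal
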