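import Cfsg.Agent.Lib.PushUp.NaturalNormal
import Cfsg.Agent.Lib.LocalEven.NaturalSL2

/-!
# A Sylow subgroup in the normalizer of a natural `SL₂`

Inside the normalizer of a natural `SL₂(F)` a `p`-element fixing the line of the transvections `(1 a; 0 1)` is semilinear,
and is one of these transvections when it is linear.
-/

set_option autoImplicit false

namespace Cfsg.Agent.NatNormal

open Cfsg.Agent Cfsg.Agent.BestOff Cfsg.Agent.StrongFF Matrix

universe u v w

/-- The Weyl element. -/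
def wel (F : Type w) [Field F] : Matrix.SpecialLinearGroup (Fin 2) F :=
  ⟨!![0, -1; 1, 0], by simp [Matrix.det_fin_two]⟩

/-- The coordinates. -/
structure Co {P : Type u} [Group P] {X : Type v} [AddCommGroup X] {F : Type w} [Field F]
    (ρ : P →* AddMonoid.End X) (j : Matrix.SpecialLinearGroup (Fin 2) F →* P) (e : X ≃+ (Fin 2 → F))
    (T : Subgroup P) (p : ℕ) : Prop where
  exp : ∀ v : X, p • v = 0
  faithful : ∀ g, (∀ v, ρ g v = v) → g = 1
  inj : Function.Injective j
  act : ∀ M v, e (ρ (j M) v) = (M : Matrix (Fin 2) (Fin 2) F).mulVec (e v)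
  syl : Fusion.SylIn p T ⊤
  A_T : (NatSL2.uni F).map j ≤ T
  T_norm : T ≤ Subgroup.normalizer (j.range : Set P)

variable {P : Type u} [Group P] {X : Type v} [AddCommGroup X] {F : Type w} [Field F] {p : ℕ}
  {ρ : P →* AddMonoid.End X} {j : Matrix.SpecialLinearGroup (Fin 2) F →* P} {e : X ≃+ (Fin 2 → F)}
  {T : Subgroup P} (D : Co ρ j e T p)

/-- The action on the fixed line. -/
def fc (ρ : P →* AddMonoid.End X) (e : X ≃+ (Fin 2 → F)) (t : P) (x : F) : F := e (ρ t (e.symm ![x, 0])) 0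

/-- The action on the quotient by the fixed line. -/
def hc (ρ : P →* AddMonoid.End X) (e : X ≃+ (Fin 2 → F)) (t : P) (y : F) : F := e (ρ t (e.symm ![0, y])) 1

theorem fc_add (t : P) (x y : F) : fc ρ e t (x + y) = fc ρ e t x + fc ρ e t y := by
  rw [fc, fc, fc, show (![x + y, 0] : Fin 2 → F) = ![x, 0] + ![y, 0] by simp, map_add, map_add, map_add]
  rfl

theorem fc_one (x : F) : fc ρ e (1 : P) x = x := by
  rw [fc, act_one, e.apply_symm_apply]; rfl

theorem hc_one (y : F) : hc ρ e (1 : P) y = y := by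
  rw [hc, act_one, e.apply_symm_apply]; rfl

include D

theorem Co.coord_u (a : F) (v : X) : e (ρ (j (NatSL2.u a)) v) = ![e v 0 + a * e v 1, e v 1] := by
  rw [D.act]
  funext i
  fin_cases i <;> simp [NatSL2.u, Matrix.mulVec, dotProduct, Fin.sum_univ_two]

theorem Co.mem_fixed {v : X} : v ∈ fixed ρ ((NatSL2.uni F).map j) ↔ e v 1 = 0 := by
  constructor
  · intro h
    have h1 := congrArg (fun w => e w 0) (h _ ⟨_, ⟨1, rfl⟩, rfl⟩)
    simpa [D.coord_u] using h1
  · rintro h _ ⟨_, ⟨a, rfl⟩, rfl⟩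
    refine e.injective ?_
    rw [D.coord_u, h, mul_zero, add_zero]
    funext i; fin_cases i
    · rfl
    · exact h.symm

variable [hp : Fact p.Prime] [Finite P] [Fintype F]

omit D hp [Finite P] in
instance finite_ringAut : Finite (F ≃+* F) :=
  Finite.of_injective (fun σ : F ≃+* F => (σ : F → F)) DFunLike.coe_injective

theorem Co.charP : CharP F p := by
  obtain ⟨r, hr⟩ := CharP.exists F
  have h1 := D.exp (e.symm fun _ => (1 : F))
  have h2 := congrArg (fun w => e w 0) h1
  simp only [map_nsmul, e.apply_symm_apply, map_zero, Pi.smul_apply, Pi.zero_apply, nsmul_one] at h2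
  rcases (Nat.dvd_prime hp.out).1 ((CharP.cast_eq_zero_iff F r p).1 h2) with h | h
  · exact absurd h (CharP.ringChar_ne_one (R := F) ∘ fun h' => by rw [ringChar.eq F r, h'])
  · exact h ▸ hr

theorem Co.inter : T ⊓ j.range ≤ (NatSL2.uni F).map j := by
  haveI := D.charP
  obtain ⟨n, -, hn⟩ := FiniteField.card F p
  obtain ⟨S, hS⟩ := NatSL2.uni_sylow (F := F) (p := p) hn
  rintro _ ⟨hT, M, rfl⟩
  have h1 : T.comap j = (S : Subgroup _) := S.is_maximal'
    (D.syl.isPGroup.comap_of_injective j D.inj) (fun N hN => by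
      rw [hS] at hN
      exact D.A_T ⟨N, hN, rfl⟩)
  exact ⟨M, hS ▸ h1 ▸ hT, rfl⟩

theorem Co.T_A : T ≤ Subgroup.normalizer (((NatSL2.uni F).map j : Subgroup P) : Set P) := by
  have key : ∀ t ∈ T, ∀ a ∈ (NatSL2.uni F).map j, t * a * t⁻¹ ∈ (NatSL2.uni F).map j := by
    intro t ht a ha
    refine D.inter ⟨T.mul_mem (T.mul_mem ht (D.A_T ha)) (T.inv_mem ht), ?_⟩
    obtain ⟨M, -, rfl⟩ := ha
    exact (Subgroup.mem_normalizer_iff.1 (D.T_norm ht) _).1 ⟨M, rfl⟩
  intro t ht
  rw [Subgroup.mem_normalizer_iff]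
  intro a
  refine ⟨key t ht a, fun h => ?_⟩
  have h1 := key t⁻¹ (inv_mem ht) _ h
  simpa [mul_assoc] using h1

theorem Co.act_line {t : P} (ht : t ∈ T) (x : F) : ρ t (e.symm ![x, 0]) = e.symm ![fc ρ e t x, 0] := by
  refine e.injective ?_
  rw [e.apply_symm_apply]
  have h1 : ρ t (e.symm ![x, 0]) ∈ fixed ρ ((NatSL2.uni F).map j) := fun a ha => by
    have h2 : t⁻¹ * a * t ∈ (NatSL2.uni F).map j := (Subgroup.mem_normalizer_iff''.1 (D.T_A ht) a).1 ha
    have h3 : e.symm ![x, 0] ∈ fixed ρ ((NatSL2.uni F).map j) :=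
      D.mem_fixed.2 (by rw [e.apply_symm_apply]; rfl)
    rw [← act_mul, show a * t = t * (t⁻¹ * a * t) by group, act_mul, h3 _ h2]
  funext i
  fin_cases i
  · rfl
  · exact D.mem_fixed.1 h1

/-- A vector is moved componentwise. -/
theorem Co.act_vec {t : P} (ht : t ∈ T) (v : X) : e (ρ t v) 1 = hc ρ e t (e v 1) := by
  have h1 : v = e.symm ![e v 0, 0] + e.symm ![0, e v 1] := by
    rw [← map_add, e.eq_symm_apply]
    funext i; fin_cases i <;> simp
  conv_lhs => rw [h1, map_add, map_add, Pi.add_apply, D.act_line ht, e.apply_symm_apply]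
  simp [hc]

theorem Co.fc_mul {s t : P} (ht : t ∈ T) (x : F) : fc ρ e (s * t) x = fc ρ e s (fc ρ e t x) := by
  rw [fc, fc, act_mul, D.act_line ht]

theorem Co.hc_mul {s t : P} (hs : s ∈ T) (y : F) : hc ρ e (s * t) y = hc ρ e s (hc ρ e t y) := by
  rw [hc, act_mul, D.act_vec hs]
  rfl

theorem Co.twist {t : P} (ht : t ∈ T) (a : F) :
    ∃ a' : F, (t * j (NatSL2.u a) * t⁻¹ = j (NatSL2.u a')) ∧ ∀ y, fc ρ e t (a * y) = a' * hc ρ e t y := by
  obtain ⟨-, ⟨a', rfl⟩, ha'⟩ := (Subgroup.mem_normalizer_iff.1 (D.T_A ht) _).1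
    (⟨_, ⟨a, rfl⟩, rfl⟩ : j (NatSL2.u a) ∈ (NatSL2.uni F).map j)
  refine ⟨a', ha'.symm, fun y => ?_⟩
  set w := e.symm ![0, y]
  have h1 : ρ (t * j (NatSL2.u a)) w = ρ (j (NatSL2.u a') * t) w := by rw [ha', inv_mul_cancel_right]
  rw [act_mul, act_mul] at h1
  have h2 : ρ (j (NatSL2.u a)) w = w + e.symm ![a * y, 0] := by
    refine e.injective ?_
    rw [D.coord_u, map_add, e.apply_symm_apply, e.apply_symm_apply]
    funext i; fin_cases i <;> simp
  rw [h2, map_add, D.act_line ht] at h1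
  have h3 := congrArg (fun v => e v 0) h1
  simp only [map_add, e.apply_symm_apply, Pi.add_apply, D.coord_u, Matrix.cons_val_zero] at h3
  exact add_left_cancel h3

theorem Co.hc_ne {t : P} (ht : t ∈ T) : hc ρ e t 1 ≠ 0 := by
  intro h
  have h1 : ρ t⁻¹ (ρ t (e.symm ![0, 1])) = e.symm ![0, 1] := act_inv_self ρ t _
  have h2 := congrArg (fun v => e v 1) h1
  simp only [D.act_vec (inv_mem ht), e.apply_symm_apply] at h2
  have h3 : hc ρ e t⁻¹ 0 = 0 := by
    rw [hc, show (![0, 0] : Fin 2 → F) = 0 by simp, map_zero, map_zero, map_zero]; rfl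
  rw [show e (ρ t (e.symm ![0, 1])) 1 = 0 from h, h3] at h2
  simp at h2

theorem Co.fc_ne {t : P} (ht : t ∈ T) : fc ρ e t 1 ≠ 0 := by
  intro h
  have h1 := congrArg (fun x => fc ρ e t⁻¹ x) h
  rw [← D.fc_mul ht, inv_mul_cancel, fc_one] at h1
  have h2 : fc ρ e t⁻¹ 0 = 0 := by
    rw [fc, show (![0, 0] : Fin 2 → F) = 0 by simp, map_zero, map_zero, map_zero]; rfl
  exact one_ne_zero (h1.trans h2)

/-- Both components are the same semilinear map up to scalars. -/
theorem Co.semilinear {t : P} (ht : t ∈ T) (a y : F) :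
    fc ρ e t (a * y) * fc ρ e t 1 = fc ρ e t a * fc ρ e t y ∧
      fc ρ e t y * hc ρ e t 1 = fc ρ e t 1 * hc ρ e t y := by
  obtain ⟨a', -, ha⟩ := D.twist ht a
  obtain ⟨o', -, ho⟩ := D.twist ht 1
  have h1 := ha y
  have h2 := ha 1
  have h3 := ho y
  have h4 := ho 1
  rw [mul_one] at h2 h4
  rw [one_mul] at h3
  constructor
  · rw [h1, h2, h3, h4]; ring
  · rw [h3, h4]; ring

/-- The field automorphism of an element of `T`. -/
noncomputable def Co.sigma {t : P} (ht : t ∈ T) : F →+* F where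
  toFun y := fc ρ e t y / fc ρ e t 1
  map_one' := div_self (D.fc_ne ht)
  map_mul' a y := by
    have h := D.fc_ne ht
    field_simp
    exact (D.semilinear ht a y).1
  map_zero' := by
    have h2 : fc ρ e t 0 = 0 := by
      rw [fc, show (![0, 0] : Fin 2 → F) = 0 by simp, map_zero, map_zero, map_zero]; rfl
    rw [h2, zero_div]
  map_add' x y := by rw [fc_add, add_div]

theorem Co.sigma_mul {s t : P} (hs : s ∈ T) (ht : t ∈ T) (y : F) :
    D.sigma (mul_mem hs ht) y = D.sigma hs (D.sigma ht y) := by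
  have key : ∀ x, fc ρ e s x = fc ρ e s 1 * D.sigma hs x := fun x =>
    (mul_div_cancel₀ _ (D.fc_ne hs)).symm
  show fc ρ e (s * t) y / fc ρ e (s * t) 1 = D.sigma hs (fc ρ e t y / fc ρ e t 1)
  rw [D.fc_mul ht, D.fc_mul ht, key, key (fc ρ e t 1), map_div₀, mul_div_mul_left _ _ (D.fc_ne hs)]

/-- An element of `T` acting linearly is a transvection. -/
theorem Co.mem_of_linear {t : P} (ht : t ∈ T) (h : ∀ y, D.sigma ht y = y) : t ∈ (NatSL2.uni F).map j := by
  haveI := D.charP
  have hf : ∀ x, fc ρ e t x = fc ρ e t 1 * x := fun x => by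
    have h0 : fc ρ e t x / fc ρ e t 1 = x := h x
    rw [div_eq_iff (D.fc_ne ht)] at h0
    rw [h0]; ring
  have hh : ∀ y, hc ρ e t y = hc ρ e t 1 * y := fun y => by
    have h0 := (D.semilinear ht 1 y).2
    rw [hf y] at h0
    exact mul_left_cancel₀ (D.fc_ne ht) (by rw [← h0]; ring)
  obtain ⟨k, hk⟩ := D.syl.isPGroup ⟨t, ht⟩
  have hk' : t ^ p ^ k = 1 := congrArg Subtype.val hk
  have hone : fc ρ e t 1 = 1 ∧ hc ρ e t 1 = 1 := by
    have hpow : ∀ m : ℕ, fc ρ e (t ^ m) 1 = fc ρ e t 1 ^ m ∧ hc ρ e (t ^ m) 1 = hc ρ e t 1 ^ m := by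
      intro m
      induction m with
      | zero => simp [fc_one, hc_one]
      | succ m im =>
        constructor
        · rw [pow_succ', D.fc_mul (pow_mem ht m), im.1, hf, pow_succ']
        · rw [pow_succ', D.hc_mul ht, im.2, hh, pow_succ']
    have h0 := hpow (p ^ k)
    rw [hk', fc_one, hc_one] at h0
    exact ⟨(ExpChar.pow_prime_pow_mul_eq_one_iff p k 1 _).1 (by rw [mul_one]; exact h0.1.symm) |> (by simpa using ·),
      (ExpChar.pow_prime_pow_mul_eq_one_iff p k 1 _).1 (by rw [mul_one]; exact h0.2.symm) |> (by simpa using ·)⟩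
  -- the image of the second coordinate line
  obtain ⟨M, hM⟩ : t * j (wel F) * t⁻¹ ∈ j.range :=
    (Subgroup.mem_normalizer_iff.1 (D.T_norm ht) _).1 ⟨wel F, rfl⟩
  have hline : ∀ y, e (ρ t (e.symm ![0, y])) = ![M.1 0 0 * y, M.1 1 0 * y] := by
    intro y
    have h1 : e.symm ![0, y] = ρ (j (wel F)) (e.symm ![y, 0]) := by
      refine e.injective ?_
      rw [D.act, e.apply_symm_apply, e.apply_symm_apply]
      funext i; fin_cases i <;> simp [wel, Matrix.mulVec, dotProduct, Fin.sum_univ_two]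
    rw [h1, ← act_mul, show t * j (wel F) = j M * t by rw [hM, inv_mul_cancel_right], act_mul, D.act,
      D.act_line ht, hf, hone.1, one_mul, e.apply_symm_apply]
    funext i; fin_cases i <;> simp [Matrix.mulVec, dotProduct, Fin.sum_univ_two]
  have hM1 : M.1 1 0 = 1 := by
    have h1 : hc ρ e t 1 = e (ρ t (e.symm ![0, 1])) 1 := rfl
    rw [hone.2, hline 1] at h1
    simpa using h1.symm
  refine ⟨NatSL2.u (M.1 0 0), ⟨_, rfl⟩, ?_⟩
  have hact : ∀ v, ρ t v = ρ (j (NatSL2.u (M.1 0 0))) v := by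
    intro v
    refine e.injective ?_
    have h1 : v = e.symm ![e v 0, 0] + e.symm ![0, e v 1] := by
      rw [← map_add, e.eq_symm_apply]
      funext i; fin_cases i <;> simp
    rw [D.coord_u]
    conv_lhs => rw [h1, map_add, map_add, D.act_line ht, hf, hone.1, one_mul, hline, hM1, one_mul,
      e.apply_symm_apply]
    funext i; fin_cases i <;> simp
  refine (inv_mul_eq_one.1 (D.faithful (t⁻¹ * j (NatSL2.u (M.1 0 0))) fun v => ?_)).symm
  rw [act_mul, ← hact, act_inv_self]

/-- The field automorphisms of the elements of `T`. -/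
noncomputable def Co.sigmaHom : T →* (F ≃+* F) :=
  MonoidHom.mk' (fun t => RingEquiv.ofBijective (D.sigma t.2)
      (Finite.injective_iff_bijective.1 (D.sigma t.2).injective))
    fun s t => RingEquiv.ext fun y => D.sigma_mul s.2 t.2 y

theorem Co.mem_of_sigmaHom {t : T} (h : D.sigmaHom t = 1) : (t : P) ∈ (NatSL2.uni F).map j :=
  D.mem_of_linear t.2 fun y => DFunLike.congr_fun h y

/-- The Galois group in which the automorphisms live. -/
theorem Co.aut_bound : IsCyclic (F ≃+* F) ∧ ∀ n, Fintype.card F = p ^ n → Nat.card (F ≃+* F) ≤ n := by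
  haveI := D.charP
  letI := ZMod.algebra F p
  let φ : (F ≃+* F) →* (F ≃ₐ[ZMod p] F) :=
    MonoidHom.mk' (fun σ => AlgEquiv.ofRingEquiv (f := σ) fun x =>
      RingHom.congr_fun (RingHom.ext_zmod ((σ : F →+* F).comp (algebraMap (ZMod p) F)) (algebraMap (ZMod p) F)) x)
      fun σ τ => AlgEquiv.ext fun _ => rfl
  have hφ : Function.Injective φ := fun σ τ h => RingEquiv.ext fun x => DFunLike.congr_fun h x
  refine ⟨isCyclic_of_injective φ hφ, fun n hn => (Nat.card_le_card_of_injective φ hφ).trans ?_⟩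
  rw [IsGalois.card_aut_eq_finrank]
  refine le_of_eq (Nat.pow_right_injective hp.out.two_le ?_)
  show p ^ Module.finrank (ZMod p) F = p ^ n
  rw [← hn, Module.card_eq_pow_finrank (K := ZMod p), ZMod.card]

theorem Co.card_A : Nat.card ((NatSL2.uni F).map j) = Fintype.card F := by
  rw [← NatSL2.card_uni]
  exact (Nat.card_congr ((NatSL2.uni F).equivMapOfInjective j D.inj).toEquiv).symm

theorem Co.card_T_le {n : ℕ} (hn : Fintype.card F = p ^ n) : Nat.card T ≤ Fintype.card F * n := by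
  rw [← Subgroup.card_mul_index D.sigmaHom.ker, Subgroup.index_ker]
  refine Nat.mul_le_mul ?_ ((Subgroup.card_le_card_group _).trans (D.aut_bound.2 n hn))
  rw [← D.card_A, ← Nat.card_congr (D.sigmaHom.ker.equivMapOfInjective T.subtype T.subtype_injective).toEquiv.symm]
  refine Subgroup.card_le_of_le ?_
  rintro _ ⟨t, ht, rfl⟩
  exact D.mem_of_sigmaHom ht

theorem Co.cent {t : P} (ht : t ∈ T) (hc' : ∀ a ∈ (NatSL2.uni F).map j, t * a = a * t) :
    t ∈ (NatSL2.uni F).map j := by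
  refine D.mem_of_linear ht fun a => ?_
  obtain ⟨a', ha', hy⟩ := D.twist ht a
  obtain ⟨o', ho', hy'⟩ := D.twist ht 1
  have key : ∀ a a' : F, t * j (NatSL2.u a) * t⁻¹ = j (NatSL2.u a') → a' = a := fun a a' h => by
    rw [hc' _ ⟨_, ⟨a, rfl⟩, rfl⟩, mul_inv_cancel_right] at h
    exact (NatSL2.u_inj (D.inj h)).symm
  have e1 := key a a' ha'
  have e2 := key 1 o' ho'
  have h1 := hy 1
  have h2 := hy' 1
  rw [mul_one, e1] at h1
  rw [mul_one, e2, one_mul] at h2
  show fc ρ e t a / fc ρ e t 1 = a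
  rw [h1, h2, mul_div_assoc, div_self (D.hc_ne ht), mul_one]

theorem Co.setup [Finite X] : Setup ρ ((NatSL2.uni F).map j) T j.range p := by
  classical
  haveI := D.charP
  set A := (NatSL2.uni F).map j
  have hA : Nat.card A = Fintype.card F := D.card_A
  have hAne : A ≠ ⊥ := fun h => by
    rw [h, Subgroup.card_bot] at hA
    have := Fintype.one_lt_card (α := F)
    omega
  refine ⟨D.exp, D.faithful, hAne, (Subgroup.map_mono le_top).trans_eq j.range_eq_map.symm, D.syl, D.A_T,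
    D.T_norm, D.T_A, ?_, ?_, ?_, ?_, ?_, ?_, ?_, ?_, ?_⟩
  · rw [hA, Nat.card_congr e.toEquiv, Nat.card_pi, Fin.prod_univ_two, Nat.card_eq_fintype_card]
  · rw [hA, ← Nat.card_eq_fintype_card]
    exact Nat.card_congr
      { toFun := fun v : fixed ρ A => e v 0
        invFun := fun x => ⟨e.symm ![x, 0], D.mem_fixed.2 (by rw [e.apply_symm_apply]; rfl)⟩
        left_inv := fun v => Subtype.ext (by
          show e.symm ![e v 0, 0] = v
          rw [e.symm_apply_eq]
          funext i; fin_cases i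
          · rfl
          · exact (D.mem_fixed.1 v.2).symm)
        right_inv := fun x => by simp }
  · rintro _ ⟨_, ⟨a, rfl⟩, rfl⟩ ha1 v hv
    refine D.mem_fixed.2 ?_
    have h1 := congrArg (fun w => e w 0) hv
    simp only [D.coord_u, Matrix.cons_val_zero, add_eq_left, mul_eq_zero] at h1
    refine h1.resolve_left fun h0 => ha1 ?_
    rw [h0, show NatSL2.u (0 : F) = 1 by ext i k; fin_cases i <;> fin_cases k <;> simp [NatSL2.u], map_one]
  · rintro _ ⟨_, ⟨a, rfl⟩, rfl⟩ v
    refine D.mem_fixed.2 ?_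
    rw [map_sub, D.coord_u]
    simp
  · intro t ht hfix
    refine D.mem_of_linear ht fun y => ?_
    have hf : ∀ x, fc ρ e t x = x := fun x => by
      rw [fc, hfix _ (D.mem_fixed.2 (by rw [e.apply_symm_apply]; rfl)), e.apply_symm_apply]; rfl
    show fc ρ e t y / fc ρ e t 1 = y
    rw [hf, hf, div_one]
  · intro U hU hexp hUA
    haveI := D.aut_bound.1
    haveI := Fintype.ofFinite (F ≃+* F)
    let φ : U →* (F ≃+* F) := D.sigmaHom.comp (Subgroup.inclusion hU)
    have hφ : Function.Injective φ := by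
      rw [← MonoidHom.ker_eq_bot_iff, eq_bot_iff]
      intro x hx
      have h1 : (x : P) ∈ U ⊓ A := ⟨x.2, D.mem_of_sigmaHom hx⟩
      rw [hUA, Subgroup.mem_bot] at h1
      exact Subgroup.mem_bot.2 (Subtype.ext h1)
    let φ' : U → {σ : F ≃+* F // σ ^ p = 1} := fun x => ⟨φ x, by
      rw [← map_pow, show x ^ p = 1 from Subtype.ext (hexp x x.2), map_one]⟩
    refine (Nat.card_le_card_of_injective φ' fun a b h => hφ (congrArg Subtype.val h)).trans ?_
    rw [Nat.card_eq_fintype_card, Fintype.card_subtype]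
    exact IsCyclic.card_pow_eq_one_le hp.out.pos
  · intro hodd hq
    refine le_antisymm (fun t ht => D.mem_of_sigmaHom (t := ⟨t, ht⟩) ?_) D.A_T
    have hle := D.aut_bound.2 2 (by rw [pow_two, ← hA, hq])
    obtain ⟨k, hk⟩ := D.syl.isPGroup ⟨t, ht⟩
    set σ := D.sigmaHom ⟨t, ht⟩
    have h1 : σ ^ p ^ k = 1 := by rw [← map_pow, hk, map_one]
    have h2 : σ ^ Nat.card (F ≃+* F) = 1 := pow_card_eq_one'
    have hg := pow_gcd_eq_one.2 ⟨h1, h2⟩
    have hco : Nat.gcd (p ^ k) (Nat.card (F ≃+* F)) = 1 := by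
      refine Nat.Coprime.pow_left k ((Nat.Prime.coprime_iff_not_dvd hp.out).2 fun hd => ?_)
      have h3 := Nat.le_of_dvd Nat.card_pos hd
      have := hp.out.two_le
      omega
    rwa [hco, pow_one] at hg
  · intro v hv
    have hev : e v ≠ 0 := fun h => hv (e.injective (h.trans (map_zero e).symm))
    obtain ⟨M, hM⟩ : ∃ M : Matrix.SpecialLinearGroup (Fin 2) F, (M : Matrix (Fin 2) (Fin 2) F).mulVec ![1, 0] = e v := by
      by_cases h0 : e v 0 = 0
      · have h1 : e v 1 ≠ 0 := fun h1 => hev (funext fun i => by fin_cases i <;> assumption)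
        refine ⟨⟨!![0, -(e v 1)⁻¹; e v 1, 0], by simp [Matrix.det_fin_two, h1]⟩, ?_⟩
        funext i; fin_cases i <;> simp [Matrix.mulVec, dotProduct, Fin.sum_univ_two, h0]
      · refine ⟨⟨!![e v 0, 0; e v 1, (e v 0)⁻¹], by simp [Matrix.det_fin_two, h0]⟩, ?_⟩
        funext i; fin_cases i <;> simp [Matrix.mulVec, dotProduct, Fin.sum_univ_two]
    refine ⟨j M, ⟨M, rfl⟩, ?_⟩
    rintro _ ⟨a, ha, rfl⟩
    show ρ (j M * a * (j M)⁻¹) v = v
    have h1 : v = ρ (j M) (e.symm ![1, 0]) := e.injective (by rw [D.act, e.apply_symm_apply, hM])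
    have h2 : e.symm ![1, 0] ∈ fixed ρ A := D.mem_fixed.2 (by rw [e.apply_symm_apply]; rfl)
    rw [h1, ← act_mul, inv_mul_cancel_right, act_mul, h2 a ha]
  · intro K hK
    rintro _ ⟨M, rfl⟩
    refine Matrix.SL2.transvection_induction (fun M => j M ∈ K) (fun i k hik c => ?_)
      (fun M N hM hN => by rw [map_mul]; exact mul_mem hM hN) M
    have h1 : ∀ a, j (NatSL2.u a) ∈ K := fun a => hK 1 (one_mem _) (by
      rw [cA_one]; exact ⟨_, ⟨a, rfl⟩, rfl⟩)
    have h2 : ∀ a, j (wel F * NatSL2.u a * (wel F)⁻¹) ∈ K := fun a =>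
      hK (j (wel F)) ⟨_, rfl⟩ (mem_cA.2 ⟨_, ⟨a, rfl⟩, by simp [mul_assoc]⟩)
    fin_cases i <;> fin_cases k
    · exact absurd rfl hik
    · convert h1 c using 2
      ext a b
      fin_cases a <;> fin_cases b <;> simp [NatSL2.u, Matrix.SpecialLinearGroup.transvection_coe, Matrix.single]
    · convert h2 (-c) using 2
      rw [eq_mul_inv_iff_mul_eq]
      refine Matrix.SpecialLinearGroup.ext _ _ fun a b => ?_
      rw [Matrix.SpecialLinearGroup.coe_mul, Matrix.SpecialLinearGroup.coe_mul]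
      fin_cases a <;> fin_cases b <;>
        simp [NatSL2.u, wel, Matrix.SpecialLinearGroup.transvection_coe, Matrix.single,
          Matrix.mul_apply, Fin.sum_univ_two]
    · exact absurd rfl hik

theorem Co.isSimpleGroup_range (h4 : Fintype.card F = 4) (hp2 : p = 2) : IsSimpleGroup j.range := by
  haveI := D.charP
  subst hp2
  have hc : Subgroup.center (Matrix.SpecialLinearGroup (Fin 2) F) = ⊥ := by
    refine eq_bot_iff.2 fun M hM => ?_
    obtain ⟨r, hr, hM⟩ := Matrix.SpecialLinearGroup.mem_center_iff.1 hM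
    have h1 : r = 1 := by
      have h2 : (r - 1) ^ 2 = 0 := by rw [sub_pow_char, one_pow, ← Fintype.card_fin 2, hr, sub_self]
      exact sub_eq_zero.1 (pow_eq_zero_iff two_ne_zero |>.1 h2)
    subst h1
    exact Subgroup.mem_bot.2 (Subtype.ext (by rw [← hM]; simp))
  haveI := Matrix.ProjectiveSpecialLinearGroup.rank_two_simple (F := F) (by rw [Nat.card_eq_fintype_card, h4])
  let e1 : Matrix.SpecialLinearGroup (Fin 2) F ≃* Matrix.ProjectiveSpecialLinearGroup (Fin 2) F :=
    MulEquiv.ofBijective (QuotientGroup.mk' _) ⟨(MonoidHom.ker_eq_bot_iff _).1 (by rw [QuotientGroup.ker_mk', hc]),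
      QuotientGroup.mk'_surjective _⟩
  exact ((j.ofInjective D.inj).symm.trans e1).isSimpleGroup

end Cfsg.Agent.NatNormal
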