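import Cfsg.Agent.Lib.PushUp.NaturalNormal
import Cfsg.Agent.Lib.Solv.SetMul

/-!
# The field with four elements

A group of automorphisms of a group of order 16 with a natural `SL₂(4)` whose normalizer holds a Sylow 2-subgroup of order 8 either
normalizes it or has order 2520, so is the alternating group of degree 7.
-/

set_option autoImplicit false

namespace Cfsg.Agent.NatNormal

open Cfsg.Agent Cfsg.Agent.BestOff Cfsg.Agent.StrongFF

universe u v

/-- Even permutations fixing a point act evenly on the other points. -/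
theorem exists_hom_compl {H : Type u} [Group H] {Q : Type v} [Fintype Q] [DecidableEq Q] (θ : H →* Equiv.Perm Q)
    (hθ : Function.Injective θ) {a : Q} (hfa : ∀ g, θ g a = a) (heven : ∀ g, Equiv.Perm.sign (θ g) = 1) :
    ∃ ψ : H →* alternatingGroup {x : Q // x ≠ a}, Function.Injective ψ := by
  have hfix : ∀ g : H, ∀ x : Q, θ g x ≠ a ↔ x ≠ a := fun g x =>
    not_congr ⟨fun e => (θ g).injective (e.trans (hfa g).symm), fun e => e ▸ hfa g⟩
  refine ⟨MonoidHom.mk' (fun g => ⟨(θ g).subtypePerm (hfix g), Equiv.Perm.mem_alternatingGroup.2 ?_⟩) ?_, ?_⟩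
  · exact (Equiv.Perm.sign_subtypePerm (p := fun x : Q => x ≠ a) (θ g) (hfix g)
      (fun x hx (e : x = a) => hx (e.symm ▸ hfa g))).trans (heven g)
  · exact fun g k => Subtype.ext (Equiv.ext fun x => Subtype.ext (by
      show θ (g * k) x.1 = θ g (θ k x.1)
      rw [map_mul]; rfl))
  · intro g k e
    refine hθ (Equiv.ext fun x => ?_)
    by_cases hx : x = a
    · subst hx
      rw [hfa g, hfa k]
    · exact congrArg (fun σ : alternatingGroup {x : Q // x ≠ a} => ((σ.1 ⟨x, hx⟩ : {x : Q // x ≠ a}) : Q)) e

/-- A subgroup of order 2520 of the alternating group of degree 8. -/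
theorem seven_of_card {P : Type u} [Group P] [Finite P] (f : P →* alternatingGroup (Fin 8))
    (hf : Function.Injective f) (h : Nat.card P = 2520) : Nonempty (P ≃* alternatingGroup (Fin 7)) := by
  classical
  haveI : IsSimpleGroup (alternatingGroup (Fin 8)) := alternatingGroup.isSimpleGroup (by simp)
  set H := f.range
  have hH : Nat.card H = 2520 := by rw [← h]; exact (Nat.card_congr (f.ofInjective hf).toEquiv).symm
  have hA8 : Nat.card (alternatingGroup (Fin 8)) = 20160 := by
    rw [nat_card_alternatingGroup, Nat.card_eq_fintype_card, Fintype.card_fin]; rfl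
  have hidx : H.index = 8 := by
    have h1 := H.index_mul_card
    rw [hH, hA8] at h1
    omega
  set Q := alternatingGroup (Fin 8) ⧸ H
  have hQ : Fintype.card Q = 8 := by rw [← Nat.card_eq_fintype_card, ← Subgroup.index_eq_card, hidx]
  set θ := MulAction.toPermHom (alternatingGroup (Fin 8)) Q
  have hθ : Function.Injective θ := by
    rw [← MonoidHom.ker_eq_bot_iff, ← Subgroup.normalCore_eq_ker]
    refine (Subgroup.Normal.eq_bot_or_eq_top inferInstance).resolve_right fun e => ?_
    have h1 : H = ⊤ := top_le_iff.1 (e.ge.trans H.normalCore_le)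
    rw [h1, Subgroup.index_top] at hidx
    exact absurd hidx (by norm_num)
  haveI : Nontrivial Q := Fintype.one_lt_card_iff_nontrivial.1 (by omega)
  have hrange : θ.range = alternatingGroup Q := by
    refine Equiv.Perm.eq_alternatingGroup_of_index_eq_two ?_
    have h1 := θ.range.index_mul_card
    rw [show Nat.card θ.range = 20160 from hA8 ▸ (Nat.card_congr (θ.ofInjective hθ).toEquiv).symm,
      Nat.card_perm, Nat.card_eq_fintype_card, hQ] at h1
    norm_num [Nat.factorial] at h1
    omega
  set a : Q := QuotientGroup.mk (1 : alternatingGroup (Fin 8))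
  have hfa : ∀ g : H, θ g a = a := fun g => by
    show (g : alternatingGroup (Fin 8)) • a = a
    rw [← MulAction.mem_stabilizer_iff, MulAction.stabilizer_quotient]
    exact g.2
  obtain ⟨ψ, hψ⟩ := exists_hom_compl (θ.comp H.subtype) (hθ.comp H.subtype_injective) hfa fun g =>
    Equiv.Perm.mem_alternatingGroup.1 (hrange.le ⟨g, rfl⟩)
  have h7 : Fintype.card {x : Q // x ≠ a} = 7 := by
    rw [Fintype.card_subtype_compl, Fintype.card_subtype_eq, hQ]
  haveI : Nontrivial {x : Q // x ≠ a} := Fintype.one_lt_card_iff_nontrivial.1 (by omega)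
  have hbij : Function.Bijective ψ := (Nat.bijective_iff_injective_and_card ψ).2 ⟨hψ, by
    rw [hH, nat_card_alternatingGroup, Nat.card_eq_fintype_card, h7]; rfl⟩
  exact ⟨((f.ofInjective hf).trans (MulEquiv.ofBijective ψ hbij)).trans
    (Fintype.equivFinOfCardEq h7).altCongrHom⟩

variable {P : Type u} [Group P] {X : Type v} [AddCommGroup X] [Finite P] [Finite X]
  {ρ : P →* AddMonoid.End X} {A T L : Subgroup P}

/-- The exceptional case. -/
theorem Setup.seven (D : Setup ρ A T L 2) (hA : Nat.card A = 4) (hL : Nat.card L = 60) [IsSimpleGroup L]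
    (hT : Nat.card T = 8) (hcent : ∀ t ∈ T, (∀ a ∈ A, t * a = a * t) → t ∈ A)
    (f : P →* alternatingGroup (Fin 8)) (hf : Function.Injective f) (hnn : ¬ L.Normal) :
    Nonempty (P ≃* alternatingGroup (Fin 7)) := by
  classical
  haveI : Fact (Nat.Prime 2) := ⟨Nat.prime_two⟩
  set NL := Subgroup.normalizer (L : Set P) with hNL
  -- a subgroup of `NL` normal in `P` does not contain `L`
  have hcontain : ∀ K : Subgroup P, K.Normal → K ≤ NL → L ≤ K → False := by
    intro K hKn hKNL hLK
    refine hnn ⟨fun l hl x => ?_⟩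
    have hall : ∀ h : P, cA A h ≤ L := by
      intro h
      have hB : cA A h ≤ NL := by
        rintro _ ⟨a, ha, rfl⟩
        exact hKNL (hKn.conj_mem a (hLK (D.A_le ha)) h)
      obtain ⟨n, hn, hnT⟩ := (D.syl.mono D.T_norm le_top).conj_le (D.isPGroup h) hB
      have hB' : cA A (n * h) ≤ T := fun y hy => hnT (Fusion.mem_cj.2 (mem_cA.2 (by
        have := mem_cA.1 hy
        simpa [mul_assoc] using this)))
      obtain ⟨y, hyA, hyB, hy1⟩ : ∃ y, y ∈ A ∧ y ∈ cA A (n * h) ∧ y ≠ 1 := by
        by_contra hcon
        simp only [not_exists, not_and, not_not] at hcon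
        have hinj : Function.Injective (fun z : A × cA A (n * h) =>
            (⟨z.1 * z.2, mul_mem (D.A_T z.1.2) (hB' z.2.2)⟩ : T)) := by
          rintro ⟨a, b⟩ ⟨a', b'⟩ e
          have e' : (a : P) * b = a' * b' := congrArg Subtype.val e
          have h1 : (a' : P)⁻¹ * a = b' * (b : P)⁻¹ := by
            rw [eq_mul_inv_iff_mul_eq, mul_assoc, e', inv_mul_cancel_left]
          have h2 := hcon _ (mul_mem (inv_mem a'.2) a.2) (h1 ▸ mul_mem b'.2 (inv_mem b.2))
          have h3 : a = a' := Subtype.ext (inv_mul_eq_one.1 h2).symm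
          subst h3
          exact Prod.ext rfl (Subtype.ext (mul_left_cancel e'))
        have h4 := Nat.card_le_card_of_injective _ hinj
        rw [Nat.card_prod, D.card_conj, hA, hT] at h4
        omega
      have hnh : n * h ∈ Subgroup.normalizer (A : Set P) := D.norm_of_stab fun v hv => by
        have h1 : fixed ρ A = fixed ρ (cA A (n * h)) :=
          AddSubgroup.eq_of_le_of_card_ge (fun w hw => D.free_conj hyB hy1 (hw y hyA))
            (by rw [D.card_fixed, D.cardFix])
        exact h1.ge (D.act_fixed _ hv)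
      intro z hz
      have h5 : n * z * n⁻¹ ∈ A := by
        have := (Subgroup.mem_normalizer_iff.1 hnh _).1 (mem_cA.1 hz)
        simpa [mul_assoc] using this
      exact (Subgroup.mem_normalizer_iff.1 hn z).2 (D.A_le h5)
    have hK' : L ≤ L.comap (MulAut.conj x).toMonoidHom := D.genL _ fun c hc y hy =>
      hall (x * c) (mem_cA.2 (by
        have := mem_cA.1 hy
        simpa [mul_assoc] using this) : x * y * x⁻¹ ∈ cA A (x * c))
    exact hK' hl
  have hLNL : L ≤ NL := Subgroup.le_normalizer
  have h120 : 120 ∣ Nat.card NL := by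
    have h1 := Subgroup.card_dvd_of_le hLNL
    have h2 := Subgroup.card_dvd_of_le (show T ≤ NL from D.T_norm)
    rw [hL] at h1
    rw [hT] at h2
    omega
  have hne : Nat.card NL ≠ Nat.card P := fun e => hnn (Subgroup.normalizer_eq_top_iff.1
    (Subgroup.eq_top_of_card_eq NL e))
  have hA8 : Nat.card (alternatingGroup (Fin 8)) = 20160 := by
    rw [nat_card_alternatingGroup, Nat.card_eq_fintype_card, Fintype.card_fin]; rfl
  have hdiv : Nat.card P ∣ 20160 := hA8 ▸ Subgroup.card_dvd_of_injective f hf
  obtain ⟨m, hm, hmodd⟩ : ∃ m, Nat.card P = 8 * m ∧ ¬ 2 ∣ m := by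
    refine ⟨T.index, by rw [← hT, Subgroup.card_mul_index], ?_⟩
    have := D.syl.not_dvd
    rwa [Subgroup.relIndex_top_right] at this
  have hNP := Subgroup.card_subgroup_dvd_card NL
  have hPle : Nat.card P ≤ 20160 := Nat.le_of_dvd (by norm_num) hdiv
  obtain ⟨k, hk⟩ := h120
  have hk0 : 0 < k := Nat.pos_of_ne_zero fun h => by
    have := Nat.card_pos (α := NL)
    rw [hk, h] at this
    omega
  obtain ⟨n, hn⟩ := hNP
  have hn1 : n ≠ 1 := fun h => hne (by rw [hn, h, mul_one])
  have hm15 : m ∣ 2520 := Nat.dvd_of_mul_dvd_mul_left (show 0 < 8 by norm_num) (hm ▸ hdiv)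
  have hP120 : 15 * (k * n) = m := by
    rw [hm, hk] at hn
    nlinarith
  have hcases : m = 15 ∨ m = 45 ∨ m = 105 ∨ m = 315 := by
    have h1 : m ∣ 8 * 315 := hm15
    have h2 : m ∣ 315 := ((Nat.Coprime.pow_right 3 ((Nat.prime_two.coprime_iff_not_dvd.2 hmodd).symm)).dvd_of_dvd_mul_left h1)
    rw [← hP120] at h2
    have h3 : k * n ∈ Nat.divisors 21 :=
      Nat.mem_divisors.2 ⟨Nat.dvd_of_mul_dvd_mul_left (show 0 < 15 by norm_num) h2, by norm_num⟩
    rw [show Nat.divisors 21 = {1, 3, 7, 21} by decide] at h3
    simp only [Finset.mem_insert, Finset.mem_singleton] at h3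
    omega
  rcases hcases with rfl | rfl | rfl | rfl
  · exfalso
    have : k * n = 1 := by omega
    exact hn1 (Nat.eq_one_of_mul_eq_one_left this)
  rotate_left
  rotate_left
  · exact seven_of_card f hf (by rw [hm])
  all_goals exfalso
  all_goals
    have hkn : k = 1 ∧ (n = 3 ∨ n = 7) := by
      have hkn : k * n = 3 ∨ k * n = 7 := by omega
      rcases hkn with e | e
      · rcases (Nat.dvd_prime (by norm_num)).1 (⟨n, e.symm⟩ : k ∣ 3) with rfl | rfl
        · omega
        · omega
      · rcases (Nat.dvd_prime (by norm_num)).1 (⟨n, e.symm⟩ : k ∣ 7) with rfl | rfl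
        · omega
        · omega
    obtain ⟨rfl, hn37⟩ := hkn
    rw [mul_one] at hk
    set K := NL.normalCore
    have hKle : K ≤ NL := Subgroup.normalCore_le NL
    have hKL : (K.subgroupOf L) = ⊥ := by
      haveI : (K.subgroupOf L).Normal := Subgroup.Normal.subgroupOf (Subgroup.normalCore_normal NL) L
      refine (Subgroup.Normal.eq_bot_or_eq_top inferInstance).resolve_right fun e => ?_
      exact hcontain K (Subgroup.normalCore_normal NL) hKle (Subgroup.subgroupOf_eq_top.1 e)
    have hKcard : Nat.card K * 60 ∣ 120 := by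
      have hdisj : Disjoint (K.subgroupOf NL) (L.subgroupOf NL) := by
        rw [disjoint_iff, eq_bot_iff]
        intro z hz
        have h1 : (⟨(z : P), hz.2⟩ : L) ∈ K.subgroupOf L := hz.1
        rw [hKL, Subgroup.mem_bot] at h1
        exact Subgroup.mem_bot.2 (Subtype.ext (congrArg Subtype.val h1 :))
      haveI : (K.subgroupOf NL).Normal := Subgroup.Normal.subgroupOf (Subgroup.normalCore_normal NL) NL
      have h2 := Subgroup.card_subgroup_dvd_card (K.subgroupOf NL ⊔ L.subgroupOf NL)
      have h3 := Solv.card_mul_set_mul_card_inf (K.subgroupOf NL) (L.subgroupOf NL)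
      rw [← Subgroup.normal_mul, hdisj.eq_bot, Subgroup.card_bot, mul_one,
        Nat.card_congr (Subgroup.subgroupOfEquivOfLe hKle).toEquiv,
        Nat.card_congr (Subgroup.subgroupOfEquivOfLe hLNL).toEquiv, hL] at h3
      rw [hk] at h2
      exact h3 ▸ h2
    have hK1 : K = ⊥ := by
      have hK2 : Nat.card K ∣ 2 := Nat.dvd_of_mul_dvd_mul_right (show 0 < 60 by norm_num) hKcard
      rcases (Nat.dvd_prime Nat.prime_two).1 hK2 with h | h
      · exact Subgroup.eq_bot_of_card_eq K h
      · exfalso
        have hKp : IsPGroup 2 K := IsPGroup.of_card (n := 1) (by rw [h, pow_one])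
        have hKn := Subgroup.normalCore_normal NL
        obtain ⟨c, -, hcT⟩ := D.syl.conj_le hKp le_top
        haveI : K.Normal := hKn
        rw [Fusion.cj_of_normal K c] at hcT
        obtain ⟨z, hz, hz1⟩ := K.bot_or_exists_ne_one.resolve_left (fun e => by
          rw [e, Subgroup.card_bot] at h; omega)
        have hzA : z ∈ A := hcent z (hcT hz) fun a ha => by
          have hz' := hKn.conj_mem z hz a
          obtain ⟨u, w, hne2, huniv⟩ := Nat.card_eq_two_iff.1 h
          by_contra hne3
          have hne4 : a * z * a⁻¹ ≠ 1 := fun e => hz1 (conj_eq_one_iff.1 e)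
          have hall : ∀ x : K, x = 1 ∨ x = ⟨z, hz⟩ := by
            intro x
            have hx := huniv.ge (Set.mem_univ x)
            have ho := huniv.ge (Set.mem_univ (1 : K))
            have hzz := huniv.ge (Set.mem_univ (⟨z, hz⟩ : K))
            simp only [Set.mem_insert_iff, Set.mem_singleton_iff] at hx ho hzz
            have hzne : (⟨z, hz⟩ : K) ≠ 1 := fun e => hz1 (congrArg Subtype.val e)
            rcases hx with rfl | rfl <;> rcases ho with ho | ho <;> rcases hzz with hzz | hzz <;>
              simp_all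
          rcases hall ⟨_, hz'⟩ with e | e
          · exact hne4 (congrArg Subtype.val e)
          · have e' : a * z * a⁻¹ = z := congrArg Subtype.val e
            exact hne3 (mul_inv_eq_iff_eq_mul.1 e').symm
        have h1 : (⟨z, D.A_le hzA⟩ : L) ∈ K.subgroupOf L := hz
        rw [hKL, Subgroup.mem_bot] at h1
        exact hz1 (congrArg Subtype.val h1)
    -- a faithful action on at most seven points
    set θ := MulAction.toPermHom P (P ⧸ NL)
    have hθ : Function.Injective θ := by
      rw [← MonoidHom.ker_eq_bot_iff, ← Subgroup.normalCore_eq_ker]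
      exact hK1
    have hcard : Nat.card (P ⧸ NL) = n := by
      have h1 := NL.index_mul_card
      rw [hk, hn, hk, Subgroup.index_eq_card] at h1
      omega
    have hle := Nat.card_le_card_of_injective θ hθ
    rw [Nat.card_perm, hcard, hn, hk] at hle
    rcases hn37 with rfl | rfl
    · norm_num [Nat.factorial] at hle
    haveI := Fintype.ofFinite (P ⧸ NL)
    have h7 : Fintype.card (P ⧸ NL) = 7 := by rw [← Nat.card_eq_fintype_card, hcard]
    haveI : Nontrivial (P ⧸ NL) := Fintype.one_lt_card_iff_nontrivial.1 (by omega)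
    haveI : IsSimpleGroup (alternatingGroup (P ⧸ NL)) := alternatingGroup.isSimpleGroup (by omega)
    set R := θ.range.subgroupOf (alternatingGroup (P ⧸ NL))
    have hR : R.index ≤ 6 := by
      have h1 : (θ.range.index : ℕ) = 6 := by
        have h1 := θ.range.index_mul_card
        rw [show Nat.card θ.range = 840 by
          rw [← (Nat.card_congr (θ.ofInjective hθ).toEquiv), hn, hk], Nat.card_perm, hcard] at h1
        norm_num [Nat.factorial] at h1
        omega
      rw [← h1, ← Subgroup.relIndex_top_right θ.range]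
      exact Subgroup.relIndex_le_of_le_right le_top (by rw [Subgroup.relIndex_top_right, h1]; norm_num)
    have hRne : R ≠ ⊤ := fun e => by
      have h1 := Subgroup.card_dvd_of_le (Subgroup.subgroupOf_eq_top.1 e)
      rw [nat_card_alternatingGroup, Nat.card_eq_fintype_card, h7,
        ← (Nat.card_congr (θ.ofInjective hθ).toEquiv), hn, hk] at h1
      norm_num [Nat.factorial] at h1
    set φ := MulAction.toPermHom (alternatingGroup (P ⧸ NL)) (alternatingGroup (P ⧸ NL) ⧸ R)
    have hφ : Function.Injective φ := by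
      rw [← MonoidHom.ker_eq_bot_iff, ← Subgroup.normalCore_eq_ker]
      refine (Subgroup.Normal.eq_bot_or_eq_top inferInstance).resolve_right fun e => hRne ?_
      exact top_le_iff.1 (e.ge.trans R.normalCore_le)
    have hle' := Nat.card_le_card_of_injective φ hφ
    rw [Nat.card_perm, ← Subgroup.index_eq_card, nat_card_alternatingGroup, Nat.card_eq_fintype_card, h7] at hle'
    have h6 := Nat.factorial_le hR
    norm_num [Nat.factorial] at hle' h6
    omega

end Cfsg.Agent.NatNormal
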