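import Cfsg.Agent.Lib.PushUp.BTwoMoves
import Cfsg.Agent.Lib.PushUp.YSection
import Cfsg.Prelude.Def_TwoFusion

/-!
# Recognition of `Qd(q)` when an automorphic image of `Y` leaves the core
-/

set_option autoImplicit false

open scoped commutatorElement

namespace Cfsg.Agent.PushUp

open Cfsg Cfsg.Agent.Small

universe u w

variable {G : Type u} [Group G] [Finite G] {S Q Y M : Subgroup G} {p q : ℕ}

namespace PUp

variable (h : PUp S Q Y M p q)
include h

/-- `S = σY · Y · (Q ∩ σQ)`, with the last factor commuting with the others. -/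
theorem one_split {σ : MulAut ↥S} (hσ : ¬ mate S Y σ ≤ Q) :
    (∀ s ∈ S, ∃ x ∈ mate S Y σ, ∃ y ∈ Y, ∃ r ∈ Q ⊓ mate S Q σ, s = x * y * r) ∧
      (∀ x ∈ mate S Y σ, ∀ r ∈ Q ⊓ mate S Q σ, Commute x r) ∧
      ∀ a ∈ mate S Y σ, ∀ b ∈ mate S Y σ, Commute a b := by
  haveI := h.Qn; haveI := h.Yn
  refine ⟨fun s hs => ?_, fun x hx r hr => ?_, fun a ha b hb => ?_⟩
  · obtain ⟨x, hx, w, hw, rfl⟩ := Subgroup.mem_sup_of_normal_right.1 ((h.mate_sup_eq hσ).ge hs)
    obtain ⟨a, ha, b, hb, e⟩ := Subgroup.mem_sup_of_normal_right.1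
      ((h.mate_sup_eq (h.mate_inv_not_le hσ)).ge (σ⁻¹ ⟨w, h.Q_le hw⟩).2)
    obtain ⟨c, hc, rfl⟩ := mem_mate.1 ha
    have e' : σ⁻¹ c * ⟨b, h.Q_le hb⟩ = σ⁻¹ ⟨w, h.Q_le hw⟩ := Subtype.ext e
    have e2 := congrArg σ e'
    rw [map_mul, MulAut.apply_inv_self, MulAut.apply_inv_self] at e2
    have e3 : (c : G) * (σ ⟨b, h.Q_le hb⟩ : ↥S) = w := congrArg Subtype.val e2
    refine ⟨x, hx, c, hc, (σ ⟨b, h.Q_le hb⟩ : ↥S), ⟨?_, apply_mem_mate_iff.2 hb⟩, by rw [mul_assoc, e3]⟩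
    exact (Subgroup.mul_mem_cancel_left _ (h.Y_le hc)).1 (e3.symm ▸ hw)
  · obtain ⟨u, hu, rfl⟩ := mem_mate.1 hx
    obtain ⟨w, hw, rfl⟩ := mem_mate.1 hr.2
    exact commute_aut (h.commute_Y' hu hw)
  · obtain ⟨u, hu, rfl⟩ := mem_mate.1 ha
    obtain ⟨w, hw, rfl⟩ := mem_mate.1 hb
    exact commute_aut (h.commute_Y' hu (h.Y_le hw))

/-- The derived group of the core is invariant under an automorphism moving `Y` out of it. -/
theorem derived_invariant {σ : MulAut ↥S} (hσ : ¬ mate S Y σ ≤ Q) :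
    ∀ x : ↥S, (x : G) ∈ Q.lowerCentralSeries 1 → (σ x : G) ∈ Q.lowerCentralSeries 1 := by
  haveI := h.Qn
  obtain ⟨-, hXR, hXX⟩ := h.one_split hσ
  have hXQ : mate S Y σ ≤ mate S Q σ := mate_mono h.Y_le σ
  have key : Q.lowerCentralSeries 1 ≤ (((Q.lowerCentralSeries 1).subgroupOf S).comap σ.toMonoidHom).map S.subtype := by
    show ⁅Q, Q⁆ ≤ _
    refine Subgroup.commutator_le.2 fun a ha b hb => ?_
    refine ⟨⁅(⟨a, h.Q_le ha⟩ : ↥S), ⟨b, h.Q_le hb⟩⁆, ?_, rfl⟩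
    have hsplit : ∀ c (hc : c ∈ Q), ∃ x ∈ mate S Y σ, ∃ r ∈ Q ⊓ mate S Q σ,
        (σ ⟨c, h.Q_le hc⟩ : G) = x * r := by
      intro c hc
      obtain ⟨x, hx, w, hw, e⟩ := Subgroup.mem_sup_of_normal_right.1 ((h.mate_sup_eq hσ).ge (σ ⟨c, h.Q_le hc⟩).2)
      exact ⟨x, hx, w, ⟨hw, (Subgroup.mul_mem_cancel_left _ (hXQ hx)).1
        (e.symm ▸ apply_mem_mate_iff.2 hc)⟩, e.symm⟩
    obtain ⟨x, hx, r, hr, e1⟩ := hsplit a ha
    obtain ⟨x', hx', r', hr', e2⟩ := hsplit b hb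
    show ((σ ⁅(⟨a, h.Q_le ha⟩ : ↥S), ⟨b, h.Q_le hb⟩⁆ : ↥S) : G) ∈ Q.lowerCentralSeries 1
    rw [map_commutatorElement]
    show ⁅((σ ⟨a, h.Q_le ha⟩ : ↥S) : G), ((σ ⟨b, h.Q_le hb⟩ : ↥S) : G)⁆ ∈ ⁅Q, Q⁆
    rw [e1, e2, show ⁅x * r, x' * r'⁆ = ⁅r, r'⁆ by
      have c1 : ⁅r, x' * r'⁆ = ⁅r, r'⁆ := by
        rw [show ⁅r, x' * r'⁆ = ⁅r, x'⁆ * (x' * ⁅r, r'⁆ * x'⁻¹) by simp only [commutatorElement_def]; group,
          commutatorElement_eq_one_iff_commute.2 (hXR x' hx' r hr).symm, one_mul]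
        have hc : Commute x' ⁅r, r'⁆ := by
          rw [commutatorElement_def]
          exact (((hXR x' hx' r hr).mul_right (hXR x' hx' r' hr')).mul_right (hXR x' hx' r hr).inv_right).mul_right
            (hXR x' hx' r' hr').inv_right
        rw [hc.eq, mul_inv_cancel_right]
      have c2 : Commute x (x' * r') := (hXX x hx x' hx').mul_right (hXR x hx r' hr')
      have c3 : Commute x ⁅r, r'⁆ := by
        rw [commutatorElement_def]
        exact (((hXR x hx r hr).mul_right (hXR x hx r' hr')).mul_right (hXR x hx r hr).inv_right).mul_right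
          (hXR x hx r' hr').inv_right
      rw [show ⁅x * r, x' * r'⁆ = x * ⁅r, x' * r'⁆ * x⁻¹ * ⁅x, x' * r'⁆ by simp only [commutatorElement_def]; group,
        c1, c3.eq, mul_inv_cancel_right, commutatorElement_eq_one_iff_commute.2 c2, mul_one]]
    exact Subgroup.commutator_mem_commutator hr.1 hr'.1
  intro x hx
  obtain ⟨w, hw, hwx⟩ := key hx
  obtain rfl : w = x := Subtype.ext hwx
  exact hw

end PUp

theorem mem_qdOver {F : Type w} [Field F] (A : Matrix.SpecialLinearGroup (Fin 3) F) :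
    A ∈ qdOver F ↔ A.1 2 0 = 0 ∧ A.1 2 1 = 0 ∧ A.1 2 2 = 1 := by
  refine ⟨fun hM => ?_, fun hM => Subgroup.subset_closure hM⟩
  unfold qdOver at hM
  induction hM using Subgroup.closure_induction with
  | mem x hx => exact hx
  | one => simp
  | mul a b _ _ ha hb =>
    rw [Matrix.SpecialLinearGroup.coe_mul]
    simp [Matrix.mul_apply, Fin.sum_univ_three, ha.1, ha.2.1, ha.2.2, hb.1, hb.2.1, hb.2.2]
  | inv a _ ha =>
    have hd := a.2
    rw [Matrix.det_fin_three, ha.1, ha.2.1, ha.2.2] at hd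
    rw [Matrix.SpecialLinearGroup.coe_inv, Matrix.adjugate_fin_three]
    simp [ha.1, ha.2.1, ha.2.2]
    linear_combination hd

/-- An affine matrix. -/
def affineM {F : Type w} [Field F] (A : Matrix.SpecialLinearGroup (Fin 2) F) (v : Fin 2 → F) :
    ↥(qdOver F) :=
  ⟨⟨!![A.1 0 0, A.1 0 1, v 0; A.1 1 0, A.1 1 1, v 1; 0, 0, 1], by
    have hd := A.2
    rw [Matrix.det_fin_two] at hd
    simp [Matrix.det_fin_three]
    linear_combination hd⟩, (mem_qdOver _).2 (by simp)⟩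

theorem affineM_mul {F : Type w} [Field F] (A B : Matrix.SpecialLinearGroup (Fin 2) F) (v w : Fin 2 → F) :
    affineM A v * affineM B w = affineM (A * B) (v + (A : Matrix (Fin 2) (Fin 2) F).mulVec w) := by
  apply Subtype.ext
  apply Subtype.ext
  show (affineM A v).1.1 * (affineM B w).1.1 = (affineM (A * B) _).1.1
  ext i j
  fin_cases i <;> fin_cases j <;>
    simp [affineM, Matrix.mul_apply, Matrix.mulVec, dotProduct, Fin.sum_univ_three, Fin.sum_univ_two] <;> ring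

theorem affineM_inj {F : Type w} [Field F] {A B : Matrix.SpecialLinearGroup (Fin 2) F} {v w : Fin 2 → F}
    (he : affineM A v = affineM B w) : A = B ∧ v = w := by
  have e := congrArg (fun m : ↥(qdOver F) => m.1.1) he
  have key : ∀ i j, (affineM A v).1.1 i j = (affineM B w).1.1 i j := fun i j => congrFun (congrFun e i) j
  refine ⟨?_, funext fun i => ?_⟩
  · apply Subtype.ext
    ext i j
    fin_cases i <;> fin_cases j
    · simpa [affineM] using key 0 0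
    · simpa [affineM] using key 0 1
    · simpa [affineM] using key 1 0
    · simpa [affineM] using key 1 1
  · fin_cases i
    · simpa [affineM] using key 0 2
    · simpa [affineM] using key 1 2

theorem affineM_surj {F : Type w} [Field F] (m : ↥(qdOver F)) :
    ∃ (A : Matrix.SpecialLinearGroup (Fin 2) F) (v : Fin 2 → F), affineM A v = m := by
  obtain ⟨m, hm⟩ := m
  obtain ⟨h0, h1, h2⟩ := (mem_qdOver m).1 hm
  have hd := m.2
  rw [Matrix.det_fin_three, h0, h1, h2] at hd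
  refine ⟨⟨!![m.1 0 0, m.1 0 1; m.1 1 0, m.1 1 1], by rw [Matrix.det_fin_two_of]; linear_combination hd⟩,
    ![m.1 0 2, m.1 1 2], ?_⟩
  apply Subtype.ext
  apply Subtype.ext
  show _ = m.1
  ext i j
  fin_cases i <;> fin_cases j <;> simp [affineM, h0, h1, h2]

/-- A central subgroup of exponent `p` meets the kernel of the transfer into an abelian Sylow subgroup trivially. -/
theorem exists_central_complement {K : Type*} [Group K] [Finite K] {p : ℕ} [hp : Fact p.Prime]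
    (P : Sylow p K) (hP : ∀ a ∈ (P : Subgroup K), ∀ b ∈ (P : Subgroup K), Commute a b) (E : Subgroup K)
    (hEc : ∀ e ∈ E, ∀ x : K, Commute e x) (hEp : ∀ e ∈ E, e ^ p = 1) :
    ∃ L : Subgroup K, L.Normal ∧ L ⊓ E = ⊥ ∧ ∀ a b : K, ⁅a, b⁆ ∈ L := by
  letI : CommGroup ↥(P : Subgroup K) :=
    { (inferInstance : Group ↥(P : Subgroup K)) with mul_comm := fun a b => Subtype.ext (hP _ a.2 _ b.2).eq }
  let τ : K →* ↥(P : Subgroup K) := MonoidHom.transfer (MonoidHom.id ↥(P : Subgroup K))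
  refine ⟨τ.ker, inferInstance, (Subgroup.eq_bot_iff_forall _).2 fun e he => ?_, fun a b => ?_⟩
  · have key : ∀ (k : ℕ) (g₀ : K), g₀⁻¹ * e ^ k * g₀ ∈ (P : Subgroup K) → g₀⁻¹ * e ^ k * g₀ = e ^ k := by
      intro k g₀ _
      rw [mul_assoc, ((hEc e he.2 g₀).pow_left k).eq, inv_mul_cancel_left]
    have hτ : τ e = 1 := he.1
    have h1 := MonoidHom.transfer_eq_pow (MonoidHom.id ↥(P : Subgroup K)) e key
    rw [show τ e = _ from h1] at hτ
    exact orderOf_eq_one_iff.1 (Nat.eq_one_of_dvd_coprimes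
      ((Nat.Prime.coprime_iff_not_dvd hp.out).2 P.not_dvd_index)
      (orderOf_dvd_of_pow_eq_one (hEp e he.2)) (orderOf_dvd_of_pow_eq_one (congrArg Subtype.val hτ)))
  · rw [MonoidHom.mem_ker, map_commutatorElement]
    exact commutatorElement_eq_one_iff_commute.2 (mul_comm _ _)

namespace PUp

variable (h : PUp S Q Y M p q) {g s₁ : G} {F : Type w} [Field F] [Fintype F]
  {RY : G →* Matrix.SpecialLinearGroup (Fin 2) F} {cY : G → Fin 2 → F}
include h

/-- `G` is perfect modulo the core. -/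
theorem perfect_mod (hR : Coord S Q M g s₁ RY) (hker : RY.ker = Q) (hg : g ∉ M) (h3 : (3 : F) ≠ 0)
    (h2 : (2 : F) ≠ 0) (J : Subgroup G) [J.Normal] (hQJ : Q ≤ J) (hcomm : ∀ a b : G, ⁅a, b⁆ ∈ J) : J = ⊤ := by
  have hSJ : S ≤ J := by
    intro s hs
    obtain ⟨a, ha⟩ := hR.upper s hs
    obtain ⟨t, ht, hta⟩ := hR.exists_upper (a / 3)
    obtain ⟨d, hd⟩ := hR.surj ⟨!![(2 : F), 0; 0, 2⁻¹], by simp [Matrix.det_fin_two, h2]⟩
    have hdM : d ∈ M := (hR.mem_M d).2 (by rw [hd]; simp)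
    have h1 : RY (s⁻¹ * ⁅d, t⁆) = 1 := by
      rw [show ⁅d, t⁆ = d * t * d⁻¹ * t⁻¹ by rw [commutatorElement_def], map_mul, map_inv, map_mul, map_inv,
        hR.conj_upper hdM hta, hta, ha, inv_mul_eq_one]
      rw [eq_mul_inv_iff_mul_eq, NatSL2.u_mul]
      congr 1
      rw [hd]
      simp
      field_simp
      ring
    have := hQJ (hker.le h1)
    rw [show s = ⁅d, t⁆ * (s⁻¹ * ⁅d, t⁆)⁻¹ by group]
    exact mul_mem (hcomm d t) (inv_mem this)
  refine h.top J hSJ fun hle => h.conj_S_not_le hg ?_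
  rintro _ ⟨s, hs, rfl⟩
  exact hle ((inferInstance : J.Normal).conj_mem s (hSJ hs) g)

theorem exists_qd [hp : Fact p.Prime] (hp5 : 5 ≤ p) (hchar : (p : F) = 0) (hg : g ∉ M)
    (hR : Coord S Q M g s₁ RY) (hker : RY.ker = Q) (hcY : NatSect Y (cenIn Y) RY cY) (hQp : IsPGroup p Q)
    (hS : ∀ T : Subgroup G, IsPGroup p T → ∃ x : G, ∀ t ∈ T, x * t * x⁻¹ ∈ S)
    {σ : MulAut ↥S} (hσ : ¬ mate S Y σ ≤ Q) (hQc : ∀ a ∈ Q, ∀ b ∈ Q, Commute a b) :
    ∃ G₀ E : Subgroup G, IsInternalDirectProduct G₀ E ⊤ ∧ IsElementaryAbelian p E ∧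
      Nonempty (↥G₀ ≃* ↥(qdOver F)) := by
  classical
  haveI := h.Qn; haveI := h.Yn
  obtain ⟨-, -, -, hexp⟩ := h.one_class hσ
  have hp2 : p ≠ 2 := by omega
  have hQexp : ∀ a ∈ Q, a ^ p = 1 := fun a ha => hexp hp2 a (h.Q_le ha)
  obtain ⟨hsplit, hXR, hXX⟩ := h.one_split hσ
  obtain ⟨hHS, N, hN, hNQ, hNY⟩ := h.mate_facts hσ
  haveI := hN
  obtain ⟨k₂, hk₂⟩ := hp.out.odd_of_ne_two hp2
  have h2 : (2 : F) ≠ 0 := fun e => by
    have h1 := hchar
    rw [hk₂, Nat.cast_add, Nat.cast_mul, Nat.cast_ofNat, e, zero_mul, zero_add, Nat.cast_one] at h1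
    exact one_ne_zero h1
  have h3 : (3 : F) ≠ 0 := fun e => by
    have hr : ringChar F = p :=
      ((Nat.dvd_prime hp.out).1 ((CharP.cast_eq_zero_iff F (ringChar F) p).1 hchar)).resolve_left CharP.ringChar_ne_one
    have h5 : ringChar F ∣ 3 := (CharP.cast_eq_zero_iff F (ringChar F) 3).1 (by exact_mod_cast e)
    rw [hr] at h5
    have := Nat.le_of_dvd (by norm_num) h5
    omega
  obtain ⟨m, hm⟩ : ∃ m, 2 * m = p + 1 := ⟨k₂ + 1, by omega⟩
  have hQG : ∀ x : G, ∀ w ∈ Q, x * w * x⁻¹ ∈ Q := fun x w hw => h.Qn.conj_mem w hw x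
  -- the involution
  obtain ⟨x₀, hx₀⟩ := hR.surj ⟨!![(-1 : F), 0; 0, -1], by simp [Matrix.det_fin_two]⟩
  obtain ⟨z, hzdef⟩ : ∃ z, z = x₀ ^ p := ⟨_, rfl⟩
  have hzR : (RY z : Matrix (Fin 2) (Fin 2) F) = -1 := by
    have e : (RY x₀ : Matrix (Fin 2) (Fin 2) F) = -1 := by
      rw [hx₀]
      ext i j
      fin_cases i <;> fin_cases j <;> simp
    rw [hzdef, map_pow, Matrix.SpecialLinearGroup.coe_pow, e, Odd.neg_one_pow ⟨k₂, hk₂⟩]
  have hz2 : z * z = 1 := by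
    have hxQ : x₀ * x₀ ∈ Q := hker.le (Subtype.ext (by
      rw [map_mul, Matrix.SpecialLinearGroup.coe_mul, Matrix.SpecialLinearGroup.coe_one, hx₀]
      ext i j
      fin_cases i <;> fin_cases j <;> simp [Matrix.mul_apply, Fin.sum_univ_two]))
    rw [hzdef, ← pow_add, ← two_mul, pow_mul, pow_two]
    exact hQexp _ hxQ
  have hzi : z⁻¹ = z := inv_eq_of_mul_eq_one_right hz2
  have hRzc : ∀ x : G, RY z * RY x = RY x * RY z := fun x => by
    apply Subtype.ext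
    simp only [Matrix.SpecialLinearGroup.coe_mul, hzR, neg_mul, one_mul, mul_neg, mul_one]
  have hzcY : ∀ y ∈ Y, cY (z * y * z⁻¹) = -cY y := fun y hy => by
    rw [hcY.conj z y hy, hzR, Matrix.neg_mulVec, Matrix.one_mulVec]
  -- the two eigenspaces
  let Qm : Subgroup G :=
  { carrier := {w | w ∈ Q ∧ z * w * z⁻¹ = w⁻¹}
    one_mem' := ⟨one_mem Q, by simp⟩
    mul_mem' := fun {a b} ha hb => ⟨mul_mem ha.1 hb.1, by
      rw [show z * (a * b) * z⁻¹ = (z * a * z⁻¹) * (z * b * z⁻¹) by group, ha.2, hb.2, mul_inv_rev,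
        ((hQc a ha.1 b hb.1).inv_inv).eq]⟩
    inv_mem' := fun {a} ha => ⟨inv_mem ha.1, by
      rw [show z * a⁻¹ * z⁻¹ = (z * a * z⁻¹)⁻¹ by group, ha.2]⟩ }
  set K : Subgroup G := Subgroup.centralizer ({z} : Set G)
  have hK : ∀ {x : G}, x ∈ K ↔ Commute z x := fun {x} =>
    ⟨fun hx => (Subgroup.mem_centralizer_singleton_iff.1 hx).symm,
      fun hx => Subgroup.mem_centralizer_singleton_iff.2 hx.eq.symm⟩
  set E : Subgroup G := Q ⊓ K
  have hQmE : ∀ w ∈ Qm, w ∈ K → w = 1 := by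
    intro w hw hwK
    have h1 : z * w * z⁻¹ = w := by rw [(hK.1 hwK).eq, mul_inv_cancel_right]
    have h3' : w ^ 2 = 1 := by rw [sq]; exact mul_eq_one_iff_eq_inv.2 (h1.symm.trans hw.2)
    have h5 : w = (w ^ 2) ^ m := by rw [← pow_mul, hm, pow_succ, hQexp w hw.1, one_mul]
    rw [h5, h3', one_pow]
  have hQdec : ∀ w ∈ Q, ∃ a ∈ Qm, ∃ e ∈ E, w = a * e := by
    intro w hw
    set w' := z * w * z⁻¹ with hw'
    have hw'Q : w' ∈ Q := hQG z w hw
    have hzw' : z * w' * z⁻¹ = w := by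
      rw [hw', show z * (z * w * z⁻¹) * z⁻¹ = (z * z) * w * (z * z)⁻¹ by group, hz2]; simp
    have hc := hQc w hw w' hw'Q
    refine ⟨(w * w'⁻¹) ^ m, ⟨pow_mem (mul_mem hw (inv_mem hw'Q)) m, ?_⟩, (w * w') ^ m,
      ⟨pow_mem (mul_mem hw hw'Q) m, hK.2 ?_⟩, ?_⟩
    · rw [← conj_pow, ← inv_pow]
      congr 1
      rw [show z * (w * w'⁻¹) * z⁻¹ = (z * w * z⁻¹) * (z * w' * z⁻¹)⁻¹ by group, hzw', ← hw', mul_inv_rev,
        inv_inv]
    · refine Commute.pow_right ?_ m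
      refine mul_inv_eq_iff_eq_mul.1 ?_
      rw [show z * (w * w') * z⁻¹ = (z * w * z⁻¹) * (z * w' * z⁻¹) by group, hzw', ← hw', hc.eq]
    · have hcm : Commute (w * w'⁻¹) (w * w') :=
        ((Commute.refl w).mul_right hc).mul_left (hc.symm.inv_left.mul_right (Commute.refl w').inv_left)
      rw [← hcm.mul_pow, show w * w'⁻¹ * (w * w') = w * (w'⁻¹ * w) * w' by group, ← hc.inv_right.eq,
        show w * (w * w'⁻¹) * w' = w * w by group, ← pow_two, ← pow_mul, hm, pow_succ, hQexp w hw, one_mul]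
  -- every element is a product of an element of `Qm` and a centralizing one
  have hsplitG : ∀ x : G, ∃ a ∈ Qm, ∃ k ∈ K, x = a * k := by
    intro x
    set t := z⁻¹ * (x * z * x⁻¹) with ht
    have htQ : t ∈ Q := hker.le (by
      rw [MonoidHom.mem_ker, ht, map_mul, map_mul, map_mul, map_inv, map_inv, ← hRzc x, mul_inv_cancel_right,
        inv_mul_cancel])
    have hinv : z * t * z⁻¹ = t⁻¹ := by
      have e1 : (x * z * x⁻¹) * (x * z * x⁻¹) = 1 := by
        rw [show (x * z * x⁻¹) * (x * z * x⁻¹) = x * (z * z) * x⁻¹ by group, hz2]; simp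
      have e2 : t⁻¹ = (x * z * x⁻¹) * z := by
        rw [ht, mul_inv_rev, inv_inv, inv_eq_of_mul_eq_one_right e1]
      rw [e2, ht, hzi, ← mul_assoc, hz2, one_mul]
    have hta : ((t ^ m)⁻¹) ∈ Qm := inv_mem (⟨pow_mem htQ m, by rw [← conj_pow, hinv, inv_pow]⟩ : t ^ m ∈ Qm)
    set a := (t ^ m)⁻¹
    refine ⟨a, hta, a⁻¹ * x, hK.2 ?_, (mul_inv_cancel_left a x).symm⟩
    have e : a * z * a⁻¹ = x * z * x⁻¹ := by
      have h1 : z⁻¹ * a * z = a⁻¹ := by rw [← hta.2, hzi]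
      rw [show a * z * a⁻¹ = z * ((z⁻¹ * a * z) * a⁻¹) by group, h1, show x * z * x⁻¹ = z * t by
        rw [ht]; group, ← mul_inv_rev, inv_inj.symm]
      simp only [a, mul_inv_rev, inv_inv, ← pow_add, ← two_mul, hm, pow_succ, hQexp t htQ, one_mul]
    show z * (a⁻¹ * x) = a⁻¹ * x * z
    calc z * (a⁻¹ * x) = a⁻¹ * (a * z * a⁻¹) * x := by group
      _ = a⁻¹ * x * z := by rw [e]; group
  have hQmY : ∀ w ∈ Qm, w ∈ Y := by
    intro w hw
    obtain ⟨l, hl, x, hx, e⟩ := Subgroup.mem_sup_of_normal_left.1 (hNQ.ge (Subgroup.mem_top z))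
    have h1 : ⁅z, w⁆ = ⁅l, w⁆ := by
      rw [← e, show ⁅l * x, w⁆ = l * ⁅x, w⁆ * l⁻¹ * ⁅l, w⁆ by simp only [commutatorElement_def]; group,
        commutatorElement_eq_one_iff_commute.2 (hQc x hx w hw.1)]
      simp
    have h3' : ⁅z, w⁆ = (w ^ 2)⁻¹ := by
      rw [commutatorElement_def, hw.2, sq, mul_inv_rev]
    have h4 : w ^ 2 ∈ Y := by
      have := hNY l hl w hw.1
      rw [← h1, h3'] at this
      simpa using inv_mem this
    have h5 : w = (w ^ 2) ^ m := by rw [← pow_mul, hm, pow_succ, hQexp w hw.1, one_mul]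
    rw [h5]
    exact pow_mem h4 m
  have hQmn : Qm.Normal := by
    refine ⟨fun w hw x => ?_⟩
    obtain ⟨a, ha, k, hk, rfl⟩ := hsplitG x
    have hkw : k * w * k⁻¹ ∈ Qm := ⟨hQG k w hw.1, by
      show z * (k * w * k⁻¹) * z⁻¹ = (k * w * k⁻¹)⁻¹
      rw [show z * (k * w * k⁻¹) * z⁻¹ = (z * k) * w * (z * k)⁻¹ by group, (hK.1 hk).eq,
        show k * z * w * (k * z)⁻¹ = k * (z * w * z⁻¹) * k⁻¹ by group, hw.2]
      group⟩
    rw [show a * k * w * (a * k)⁻¹ = a * (k * w * k⁻¹) * a⁻¹ by group, (hQc a ha.1 _ hkw.1).eq, mul_inv_cancel_right]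
    exact hkw
  -- the fixed part is central
  have hEQ : ∀ e ∈ E, e ∈ Q := fun e he => he.1
  have hEY : ∀ e ∈ E, e ∈ Y → e ∈ cenIn Y := by
    intro e he heY
    refine (hcY.zero e heY).1 (funext fun i => ?_)
    have h1 := hzcY e heY
    rw [(hK.1 he.2).eq, mul_inv_cancel_right] at h1
    have h4 : (2 : F) * cY e i = 0 := by
      have := congrFun h1 i
      simp only [Pi.neg_apply] at this
      linear_combination this
    exact (mul_eq_zero.1 h4).resolve_left h2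
  have hEcomm : ∀ e ∈ E, ∀ x : G, ⁅x, e⁆ ∈ cenIn Y := by
    intro e he x
    obtain ⟨a, ha, k, hk, rfl⟩ := hsplitG x
    have hke : ⁅k, e⁆ ∈ cenIn Y := by
      refine hEY _ ⟨?_, hK.2 ?_⟩ ?_
      · rw [commutatorElement_def]; exact Q.mul_mem (hQG k e he.1) (Q.inv_mem he.1)
      · rw [commutatorElement_def]
        exact (((hK.1 hk).mul_right (hK.1 he.2)).mul_right (hK.1 hk).inv_right).mul_right (hK.1 he.2).inv_right
      · obtain ⟨l, hl, w, hw, e'⟩ := Subgroup.mem_sup_of_normal_left.1 (hNQ.ge (Subgroup.mem_top k))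
        rw [← e', show ⁅l * w, e⁆ = l * ⁅w, e⁆ * l⁻¹ * ⁅l, e⁆ by simp only [commutatorElement_def]; group,
          commutatorElement_eq_one_iff_commute.2 (hQc w hw e he.1)]
        simpa using hNY l hl e he.1
    rw [show ⁅a * k, e⁆ = a * ⁅k, e⁆ * a⁻¹ * ⁅a, e⁆ by simp only [commutatorElement_def]; group,
      commutatorElement_eq_one_iff_commute.2 (hQc a ha.1 e he.1), mul_one]
    exact cenIn_normal.conj_mem _ hke a
  have hEc : ∀ e ∈ E, e ∈ Subgroup.center G := by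
    intro e he
    have hcc : ∀ x y : G, Commute ⁅x, e⁆ y := fun x y => (Subgroup.mem_center_iff.1 (hEcomm e he x).2 y).symm
    let f : G →* G := MonoidHom.mk' (fun x => ⁅x, e⁆) fun x y => by
      rw [show ⁅x * y, e⁆ = x * ⁅y, e⁆ * x⁻¹ * ⁅x, e⁆ by simp only [commutatorElement_def]; group,
        ← (hcc y x).eq, mul_inv_cancel_right, (hcc y ⁅x, e⁆).eq]
    have htop := h.perfect_mod hR hker hg h3 h2 f.ker (fun x hx => by
      show ⁅x, e⁆ = 1
      exact commutatorElement_eq_one_iff_commute.2 (hQc x hx e he.1)) fun a b => by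
      rw [MonoidHom.mem_ker, map_commutatorElement]
      exact commutatorElement_eq_one_iff_commute.2 (hcc a (f b))
    refine Subgroup.mem_center_iff.2 fun x => ?_
    exact commutatorElement_eq_one_iff_mul_comm.1 (htop.ge (Subgroup.mem_top x) : f x = 1)
  -- `p`-subgroups of the centralizer are abelian
  have hSQm : ∀ a ∈ S, ∀ b ∈ S, ⁅a, b⁆ ∈ Qm := by
    intro a ha b hb
    have hYS : ∀ y ∈ Y, ∀ s : G, ⁅y, s⁆ ∈ Qm := by
      intro y hy s
      obtain ⟨w, hw, e, he, rfl⟩ := hQdec y (h.Y_le hy)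
      rw [show ⁅w * e, s⁆ = w * ⁅e, s⁆ * w⁻¹ * ⁅w, s⁆ by simp only [commutatorElement_def]; group,
        commutatorElement_eq_one_iff_commute.2 (show Commute e s from (Subgroup.mem_center_iff.1 (hEc e he) s).symm)]
      simp only [mul_one, mul_inv_cancel, one_mul]
      rw [commutatorElement_def, mul_assoc w, mul_assoc w]
      exact mul_mem hw (hQmn.conj_mem _ (inv_mem hw) s)
    haveI := hQmn
    set π := QuotientGroup.mk' Qm
    have hπ : ∀ x, π x = 1 ↔ x ∈ Qm := fun x => QuotientGroup.eq_one_iff x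
    rw [← hπ, map_commutatorElement, commutatorElement_eq_one_iff_commute]
    have hY' : ∀ y ∈ Y, ∀ s : G, Commute (π y) (π s) := fun y hy s => by
      rw [← commutatorElement_eq_one_iff_commute, ← map_commutatorElement, hπ]
      exact hYS y hy s
    obtain ⟨x, hx, y, hy, r, hr, rfl⟩ := hsplit a ha
    obtain ⟨x', hx', y', hy', r', hr', rfl⟩ := hsplit b hb
    simp only [map_mul]
    have e1 : Commute (π x) (π x' * π y' * π r') :=
      (((hXX x hx x' hx').map π).mul_right (hY' y' hy' x).symm).mul_right ((hXR x hx r' hr').map π)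
    have e2 : Commute (π y) (π x' * π y' * π r') :=
      ((hY' y hy x').mul_right (hY' y hy y')).mul_right (hY' y hy r')
    have e3 : Commute (π r) (π x' * π y' * π r') :=
      ((((hXR x' hx' r hr).map π).symm).mul_right (hY' y' hy' r).symm).mul_right ((hQc r hr.1 r' hr'.1).map π)
    exact (e1.mul_left e2).mul_left e3
  -- the complement in the centralizer
  obtain ⟨L, hLK, hLE, hKL⟩ : ∃ L : Subgroup G, L ≤ K ∧ L ⊓ E = ⊥ ∧ K ≤ L ⊔ E := by
    obtain ⟨P⟩ : Nonempty (Sylow p ↥K) := inferInstance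
    obtain ⟨x, hx⟩ := hS _ (P.2.map K.subtype)
    have hP : ∀ a ∈ (P : Subgroup ↥K), ∀ b ∈ (P : Subgroup ↥K), Commute a b := fun a ha b hb => by
      refine Subtype.ext ?_
      show (a : G) * (b : G) = (b : G) * (a : G)
      rw [← commutatorElement_eq_one_iff_mul_comm]
      have h1 := hSQm _ (hx _ ⟨a, ha, rfl⟩) _ (hx _ ⟨b, hb, rfl⟩)
      have h4 : ⁅(a : G), (b : G)⁆ ∈ Qm := by
        have h5 := hQmn.conj_mem _ h1 x⁻¹
        simpa [commutatorElement_def, mul_assoc] using h5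
      exact hQmE _ h4 (⁅a, b⁆ : ↥K).2
    obtain ⟨L₀, hL₀n, hL₀E, hL₀c⟩ := exists_central_complement P hP (E.subgroupOf K)
      (fun e he y => Subtype.ext (Subgroup.mem_center_iff.1 (hEc _ he) (y : G)).symm)
      (fun e he => Subtype.ext (hQexp _ (he : (e : G) ∈ E).1))
    set L := L₀.map K.subtype
    refine ⟨L, Subgroup.map_subtype_le _, ?_, ?_⟩
    · refine (Subgroup.eq_bot_iff_forall _).2 ?_
      rintro _ ⟨⟨l, hl, rfl⟩, he⟩
      have : l ∈ L₀ ⊓ E.subgroupOf K := ⟨hl, he⟩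
      rw [hL₀E, Subgroup.mem_bot] at this
      rw [this]
      rfl
    · set J := L ⊔ Q
      have hJK : ∀ (l : G), l ∈ L → ∀ k ∈ K, k * l * k⁻¹ ∈ J := by
        rintro _ ⟨l, hl, rfl⟩ k hk
        exact Subgroup.mem_sup_left ⟨⟨k, hk⟩ * l * ⟨k, hk⟩⁻¹, hL₀n.conj_mem l hl _, rfl⟩
      haveI : J.Normal := by
        refine Subgroup.normalizer_eq_top_iff.1 (eq_top_iff.2 fun x _ => mem_normalizer_iff_cj_le.2 ?_)
        obtain ⟨a, ha, k, hk, rfl⟩ := hsplitG x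
        refine Subgroup.map_le_iff_le_comap.2 (sup_le (fun l hl => ?_) fun w hw =>
          Subgroup.mem_sup_right (hQG _ w hw))
        show a * k * l * (a * k)⁻¹ ∈ J
        have haJ : a ∈ J := Subgroup.mem_sup_right ha.1
        rw [show a * k * l * (a * k)⁻¹ = a * (k * l * k⁻¹) * a⁻¹ by group]
        exact mul_mem (mul_mem haJ (hJK l hl k hk)) (inv_mem haJ)
      have htop := h.perfect_mod hR hker hg h3 h2 J le_sup_right fun a b => by
        obtain ⟨a₀, ha₀, k, hk, rfl⟩ := hsplitG a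
        obtain ⟨b₀, hb₀, k', hk', rfl⟩ := hsplitG b
        set π := QuotientGroup.mk' J
        have hπ : ∀ x, π x = 1 ↔ x ∈ J := fun x => QuotientGroup.eq_one_iff x
        rw [← hπ, map_commutatorElement, map_mul, map_mul, (hπ a₀).2 (Subgroup.mem_sup_right ha₀.1),
          (hπ b₀).2 (Subgroup.mem_sup_right hb₀.1), one_mul, one_mul, ← map_commutatorElement, hπ]
        exact Subgroup.mem_sup_left ⟨⁅(⟨k, hk⟩ : ↥K), ⟨k', hk'⟩⁆, hL₀c _ _, rfl⟩
      intro k hk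
      obtain ⟨l, hl, w, hw, rfl⟩ := Subgroup.mem_sup_of_normal_right.1 (htop.ge (Subgroup.mem_top k))
      exact Subgroup.mul_mem_sup hl
        ⟨hw, (Subgroup.mul_mem_cancel_left _ (Subgroup.map_subtype_le _ hl)).1 hk⟩
  haveI := hQmn
  set G₀ := Qm ⊔ L
  have hdec0 : ∀ x : ↥G₀, ∃ w ∈ Qm, ∃ l ∈ L, (x : G) = w * l := fun x => by
    obtain ⟨w, hw, l, hl, e⟩ := Subgroup.mem_sup_of_normal_left.1 x.2
    exact ⟨w, hw, l, hl, e.symm⟩
  choose fw hfw fl hfl hfe using hdec0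
  have huniq : ∀ w ∈ Qm, ∀ l ∈ L, ∀ w' ∈ Qm, ∀ l' ∈ L, w * l = w' * l' → w = w' ∧ l = l' := by
    intro w hw l hl w' hw' l' hl' e
    have h1 : w'⁻¹ * w = l' * l⁻¹ := by
      rw [eq_mul_inv_iff_mul_eq, mul_assoc, e, inv_mul_cancel_left]
    have h4 : w'⁻¹ * w = 1 := hQmE _ (mul_mem (inv_mem hw') hw) (h1 ▸ mul_mem (hLK hl') (inv_mem (hLK hl)))
    rw [inv_mul_eq_one] at h4
    subst h4
    exact ⟨rfl, mul_left_cancel e⟩
  let Φ : ↥G₀ →* ↥(qdOver F) := MonoidHom.mk' (fun x => affineM (RY (fl x)) (cY (fw x))) fun x y => by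
    have hc : fl x * fw y * (fl x)⁻¹ ∈ Qm := hQmn.conj_mem _ (hfw y) _
    obtain ⟨e1, e2⟩ := huniq _ (hfw (x * y)) _ (hfl (x * y)) _ (mul_mem (hfw x) hc) _ (mul_mem (hfl x) (hfl y))
      (by rw [← hfe, Subgroup.coe_mul, hfe x, hfe y]; group)
    rw [affineM_mul, e1, e2, map_mul, hcY.mul _ (hQmY _ (hfw x)) _ (hQmY _ hc), hcY.conj _ _ (hQmY _ (hfw y))]
  have hQeq : ∀ w ∈ Qm, cY w = 0 → w = 1 := by
    intro w hw hc
    have hwC := (hcY.zero w (hQmY w hw)).1 hc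
    exact hQmE w hw (hK.2 (Subgroup.mem_center_iff.1 hwC.2 z))
  have hbij : Function.Bijective Φ := by
    refine ⟨(injective_iff_map_eq_one Φ).2 fun x hx => ?_, fun mx => ?_⟩
    · have e1 : affineM (RY (fl x)) (cY (fw x)) = affineM 1 0 := by
        refine (show affineM (RY (fl x)) (cY (fw x)) = 1 from hx).trans ?_
        apply Subtype.ext
        apply Subtype.ext
        show (1 : Matrix (Fin 3) (Fin 3) F) = (affineM (1 : Matrix.SpecialLinearGroup (Fin 2) F) 0).1.1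
        ext i j
        fin_cases i <;> fin_cases j <;> simp [affineM]
      obtain ⟨e2, e3⟩ := affineM_inj e1
      have hl : fl x = 1 := by
        have h1 : fl x ∈ L ⊓ E := ⟨hfl x, hker.le e2, hLK (hfl x)⟩
        rwa [hLE, Subgroup.mem_bot] at h1
      apply Subtype.ext
      rw [hfe x, hl, hQeq _ (hfw x) e3, mul_one]
      rfl
    · obtain ⟨A, v, rfl⟩ := affineM_surj mx
      obtain ⟨y, hy, rfl⟩ := hcY.onto v
      obtain ⟨w, hw, e, he, rfl⟩ := hQdec y (h.Y_le hy)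
      obtain ⟨x, rfl⟩ := hR.surj A
      obtain ⟨a, ha, k, hk, rfl⟩ := hsplitG x
      obtain ⟨l, hl, e', he', rfl⟩ :=
        (@Subgroup.mem_sup_of_normal_right _ _ _ E (⟨fun a ha x => by rwa [Subgroup.mem_center_iff.1 (hEc a ha) x, mul_inv_cancel_right]⟩) k).1 (hKL hk)
      refine ⟨⟨w * l, Subgroup.mul_mem_sup hw hl⟩, ?_⟩
      obtain ⟨e1, e2⟩ := huniq _ (hfw ⟨w * l, Subgroup.mul_mem_sup hw hl⟩) _ (hfl _) w hw l hl (hfe _).symm
      show affineM (RY (fl _)) (cY (fw _)) = _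
      have heY : e ∈ Y := (Subgroup.mul_mem_cancel_left _ (hQmY w hw)).1 hy
      rw [e1, e2, hcY.mul w (hQmY w hw) e heY, (hcY.zero e heY).2 (hEY e he heY), add_zero, map_mul, map_mul,
        hR.Q_one a ha.1, hR.Q_one e' he'.1, one_mul, mul_one]
  refine ⟨G₀, E, ⟨le_top, le_top, fun a _ b hb => Subgroup.mem_center_iff.1 (hEc b hb) a, ?_, ?_⟩,
    ⟨⟨⟨fun a b => Subtype.ext (hQc _ a.2.1 _ b.2.1).eq⟩⟩, fun a ha => hQexp a ha.1⟩,
    ⟨MulEquiv.ofBijective Φ hbij⟩⟩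
  · refine (Subgroup.eq_bot_iff_forall _).2 fun x hx => ?_
    obtain ⟨w, hw, l, hl, rfl⟩ := Subgroup.mem_sup_of_normal_left.1 hx.1
    have hwK : w ∈ K := (Subgroup.mul_mem_cancel_right _ (hLK hl)).1 hx.2.2
    rw [hQmE w hw hwK, one_mul]
    have h1 : l ∈ L ⊓ E := ⟨hl, by have := hx.2; rwa [hQmE w hw hwK, one_mul] at this⟩
    rwa [hLE, Subgroup.mem_bot] at h1
  · refine eq_top_iff.2 fun x _ => ?_
    obtain ⟨a, ha, k, hk, rfl⟩ := hsplitG x
    exact mul_mem (Subgroup.mem_sup_left (Subgroup.mem_sup_left ha))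
      ((sup_le (le_sup_of_le_left le_sup_right) le_sup_right : L ⊔ E ≤ G₀ ⊔ E) (hKL hk))

end PUp

end Cfsg.Agent.PushUp
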