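import Cfsg.Agent.Lib.PushUp.RankOneClass
import Cfsg.Agent.Lib.PushUp.OneQd

/-!
# A maximal local subgroup which is not pushed up
-/

set_option autoImplicit false

open scoped commutatorElement

namespace Cfsg.Agent.PushUp

open Cfsg Cfsg.Agent.Small Cfsg.Agent.Fusion

universe u

theorem pushed_up_qd {H : Type u} [Group H] [Finite H] {p : ℕ} [hp : Fact p.Prime] (hp5 : 5 ≤ p) (G : Subgroup H)
    (hmax : ∀ R : Subgroup H, IsPGroup p ↥R → R ≠ ⊥ → G ≤ Subgroup.normalizer (R : Set H) →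
      Subgroup.normalizer (R : Set H) = G)
    {S : Sylow p ↥G} {F : Type} [Field F] [Fintype F] {n : ℕ}
    {φ : ↥G →* Matrix.ProjectiveSpecialLinearGroup (Fin 2) F} (R : Setting p n S F φ)
    (hN : ¬ Subgroup.normalizer (((S : Subgroup ↥G).map G.subtype : Subgroup H) : Set H) ≤ G) :
    ∃ G₀ E : Subgroup H, IsInternalDirectProduct G₀ E G ∧ IsElementaryAbelian p E ∧
      Nonempty (↥G₀ ≃* ↥(qdOver F)) := by
  classical
  set SS := (S : Subgroup ↥G)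
  set SH := SS.map G.subtype
  let NH := Subgroup.normalizer (SH : Set H)
  -- the automorphisms induced by the normalizer
  let em : ↥SS ≃* ↥SH := SS.equivMapOfInjective G.subtype G.subtype_injective
  let aut : ↥NH → MulAut ↥SS := fun γ =>
    em.trans ((MulAut.conjNormal (H := SH.subgroupOf NH) γ |> fun c =>
      ((Subgroup.subgroupOfEquivOfLe (Subgroup.le_normalizer (H := SH))).symm.trans c).trans
        (Subgroup.subgroupOfEquivOfLe (Subgroup.le_normalizer (H := SH)))).trans em.symm)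
  have haut : ∀ (γ : ↥NH) (x : ↥SS), (((aut γ x : ↥SS) : ↥G) : H) = (γ : H) * ((x : ↥G) : H) * (γ : H)⁻¹ := by
    intro γ x
    have h1 : ∀ y : ↥SH, (((em.symm y : ↥SS) : ↥G) : H) = (y : H) := fun y => by
      conv_rhs => rw [← em.apply_symm_apply y]
      rfl
    show (((em.symm _ : ↥SS) : ↥G) : H) = _
    rw [h1]
    rfl
  -- no nontrivial normal subgroup of `G` is invariant under an element outside `G`
  have hkey : ∀ (T : Subgroup ↥G), T.Normal → T ≤ SS → ∀ γ : ↥NH, (γ : H) ∉ G →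
      (∀ x : ↥SS, (x : ↥G) ∈ T → (aut γ x : ↥G) ∈ T) → T = ⊥ := by
    intro T hT hTS γ hγ hinv
    by_contra hne
    have h1 := hmax (T.map G.subtype) ((S.2.to_le hTS).map G.subtype)
      (fun h0 => hne ((Subgroup.map_eq_bot_iff_of_injective _ G.subtype_injective).1 h0)) fun x hx =>
      mem_normalizer_iff_cj_le.2 (by
        rintro _ ⟨_, ⟨t, ht, rfl⟩, rfl⟩
        exact ⟨⟨x, hx⟩ * t * ⟨x, hx⟩⁻¹, hT.conj_mem t ht _, rfl⟩)
    refine hγ (h1.le (mem_normalizer_iff_cj_le.2 ?_))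
    rintro _ ⟨_, ⟨t, ht, rfl⟩, rfl⟩
    exact ⟨_, hinv ⟨t, hTS ht⟩ ht, haut γ ⟨t, hTS ht⟩⟩
  obtain ⟨γ₀, hγ₀, hγ₀G⟩ := SetLike.not_le_iff_exists.1 hN
  have hd : ∀ T : Subgroup ↥SS, T ≠ ⊥ → T.Characteristic → ¬ (T.map SS.subtype).Normal := by
    intro T hne hT hn
    refine hne ((Subgroup.map_eq_bot_iff_of_injective _ SS.subtype_injective).1
      (hkey _ hn (Subgroup.map_subtype_le T) ⟨γ₀, hγ₀⟩ hγ₀G fun x hx => ?_))
    obtain ⟨y, hy, hyx⟩ := hx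
    obtain rfl : y = x := Subtype.ext hyx
    exact ⟨aut ⟨γ₀, hγ₀⟩ y, (Subgroup.characteristic_iff_le_comap.1 hT (aut ⟨γ₀, hγ₀⟩)) hy, rfl⟩
  set Q := pCore p ↥G
  set Y := yS SS
  set h : PUp SS Q Y R.M p (p ^ n) := R.pUp hd
  obtain ⟨σ₀, hσ₀⟩ := R.exists_mate_of_five_le hp5 hd
  obtain ⟨-, N, -, hNQ, hNY⟩ := h.mate_facts hσ₀
  haveI := h.Qn; haveI := h.Yn
  obtain ⟨γ, hγ⟩ : ∃ γ : ↥NH, ¬ mate SS Y (aut γ) ≤ Q := by
    by_contra hcon
    simp only [not_exists, not_not] at hcon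
    set U := ⨆ γ : ↥NH, mate SS Y (aut γ)
    have hUQ : U ≤ Q := iSup_le hcon
    have hYU : Y ≤ U := fun y hy => Subgroup.mem_iSup_of_mem (1 : ↥NH)
      (mem_mate.2 ⟨⟨y, h.Y_S hy⟩, hy, Subtype.ext (by rw [haut]; simp)⟩)
    have hSU : SS ≤ Subgroup.normalizer (U : Set ↥G) := fun s hs => mem_normalizer_iff_cj_le.2 (by
      rw [Subgroup.map_iSup]
      refine iSup_le fun γ => le_trans ?_ (le_iSup _ γ)
      rintro _ ⟨x, hx, rfl⟩
      obtain ⟨a, ha, rfl⟩ := mem_mate.1 hx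
      refine mem_mate.2 ⟨(aut γ)⁻¹ ⟨s, hs⟩ * a * ((aut γ)⁻¹ ⟨s, hs⟩)⁻¹, h.Yn.conj_mem _ ha _, ?_⟩
      simp)
    have hUn : U.Normal := by
      refine Subgroup.normalizer_eq_top_iff.1 (top_le_iff.1 (hNQ ▸ sup_le (fun l hl => mem_normalizer_iff_cj_le.2 ?_)
        (h.Q_le.trans hSU)))
      rintro _ ⟨x, hx, rfl⟩
      show l * x * l⁻¹ ∈ U
      rw [show l * x * l⁻¹ = ⁅l, x⁆ * x by simp only [commutatorElement_def]; group]
      exact mul_mem (hYU (hNY l hl x (hUQ hx))) hx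
    refine h.Y_not_le_zS fun y hy => ?_
    have h0 := hkey U hUn (hUQ.trans h.Q_le) ⟨γ₀, hγ₀⟩ hγ₀G fun x hx => by
      have key : U ≤ ((U.subgroupOf SS).comap (aut ⟨γ₀, hγ₀⟩).toMonoidHom).map SS.subtype := iSup_le fun γ => by
        rintro _ ⟨_, ⟨a, ha, rfl⟩, rfl⟩
        refine ⟨aut γ a, Subgroup.mem_iSup_of_mem (⟨γ₀, hγ₀⟩ * γ) (mem_mate.2 ⟨a, ha, Subtype.ext ?_⟩), rfl⟩
        show ((aut _ a : ↥G) : H) = ((aut ⟨γ₀, hγ₀⟩ (aut γ a) : ↥G) : H)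
        rw [haut, haut, haut, Subgroup.coe_mul]
        group
      obtain ⟨w, hw, hwx⟩ := key hx
      obtain rfl : w = x := Subtype.ext hwx
      exact hw
    have h2 : y = 1 := Subgroup.mem_bot.1 (h0 ▸ hYU hy)
    rw [h2]
    exact one_mem _
  have hγG : (γ : H) ∉ G := fun hc => hγ fun x hx => by
    obtain ⟨a, ha, rfl⟩ := mem_mate.1 hx
    have e : (aut γ a : ↥G) = ⟨γ, hc⟩ * (a : ↥G) * ⟨γ, hc⟩⁻¹ := Subtype.ext (by rw [haut]; rfl)
    rw [e]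
    exact h.Qn.conj_mem _ (h.Y_le ha) _
  have hQ' := hkey (Q.lowerCentralSeries 1) inferInstance ((Q.lowerCentralSeries_le_self 1).trans h.Q_le) γ hγG
    (h.derived_invariant hγ)
  have hQc : ∀ a ∈ Q, ∀ b ∈ Q, Commute a b := fun a ha b hb => commutatorElement_eq_one_iff_commute.1
    (Subgroup.mem_bot.1 (hQ' ▸ (Subgroup.commutator_mem_commutator ha hb : ⁅a, b⁆ ∈ Q.lowerCentralSeries 1)))
  obtain ⟨⟨g, s₁, RY, cY, hg, -, -, hRY, hcY, hker⟩, -⟩ := R.rank_one_core hd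
  have hchar : (p : F) = 0 := by
    have h1 : ((p ^ n : ℕ) : F) = 0 := R.hF ▸ FiniteField.cast_card_eq_zero F
    rw [Nat.cast_pow] at h1
    exact eq_zero_of_pow_eq_zero h1
  obtain ⟨G₀, E, ⟨-, -, hcomm, hinf, hsup⟩, ⟨hEc, hEp⟩, ⟨iso⟩⟩ := h.exists_qd hp5 hchar hg hRY hker hcY
    (isPGroup_pCore p ↥G) (fun T hT => by
      obtain ⟨P, hP⟩ := hT.exists_le_sylow
      obtain ⟨x, hx⟩ := MulAction.exists_smul_eq ↥G P S
      refine ⟨x, fun t ht => ?_⟩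
      show x * t * x⁻¹ ∈ (S : Subgroup ↥G)
      rw [← hx, Sylow.coe_subgroup_smul]
      exact ⟨t, hP ht, rfl⟩) hγ hQc
  refine ⟨G₀.map G.subtype, E.map G.subtype, ⟨Subgroup.map_subtype_le _, Subgroup.map_subtype_le _, ?_, ?_, ?_⟩,
    ⟨isMulCommutative_map _ hEc, ?_⟩, ⟨(G₀.equivMapOfInjective G.subtype G.subtype_injective).symm.trans iso⟩⟩
  · rintro _ ⟨a, ha, rfl⟩ _ ⟨b, hb, rfl⟩
    rw [← map_mul, ← map_mul, hcomm a ha b hb]
  · rw [← Subgroup.map_inf _ _ _ G.subtype_injective, hinf, Subgroup.map_bot]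
  · rw [← Subgroup.map_sup, hsup, ← MonoidHom.range_eq_map, Subgroup.range_subtype]
  · rintro _ ⟨a, ha, rfl⟩
    rw [← map_pow, hEp a ha, map_one]

end Cfsg.Agent.PushUp
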