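import Cfsg.Agent.Lib.PushUp.Groups
import Cfsg.Agent.Lib.PushUp.Displacement
import Cfsg.Agent.Lib.Classical.Dickson.Tools

/-!
# Pushing up in a group with a quotient `L₂(q)`: the subgroup `Z(J(S))`
-/

set_option autoImplicit false

open scoped commutatorElement

namespace Cfsg.Agent.PushUp

open Cfsg Cfsg.Agent.Fusion

universe u

variable {G : Type u} [Group G]

/-- `Z(S)` inside the group. -/
abbrev zS (S : Subgroup G) : Subgroup G := S ⊓ Subgroup.centralizer (S : Set G)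

/-- `C_S(Z(J(S)))`. -/
abbrev cZJ (S : Subgroup G) : Subgroup G := S ⊓ Subgroup.centralizer (centerThompsonAOf S : Set G)

/-- The abelian subgroups of largest order. -/
abbrev maxAb (S : Subgroup G) : Set (Subgroup G) := maxIn (fun A : Subgroup G => IsMulCommutative A) S

/-- `Y = ⟨Z(S)^G⟩`. -/
abbrev yS (S : Subgroup G) : Subgroup G := Subgroup.normalClosure (zS S : Set G)

/-- `W = ⟨Z(J(S))^G⟩`. -/
abbrev wS (S : Subgroup G) : Subgroup G := Subgroup.normalClosure (centerThompsonAOf S : Set G)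

/-- The elements acting trivially on `W / Y`. -/
abbrev krS (S : Subgroup G) : Subgroup G :=
  (Subgroup.centralizer ((wS S).map (QuotientGroup.mk' (yS S)) : Set (G ⧸ yS S))).comap
    (QuotientGroup.mk' (yS S))

/-- `T = [Z(J(S)), O_p(G)]`. -/
abbrev tS (p : ℕ) (S : Subgroup G) : Subgroup G := ⁅centerThompsonAOf S, pCore p G⁆

/-- The situation: a quotient `L₂(q)` and a Sylow subgroup in a unique maximal subgroup. -/
structure Setting (p n : ℕ) (S : Sylow p G) (F : Type) [Field F] [Fintype F]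
    (φ : G →* Matrix.ProjectiveSpecialLinearGroup (Fin 2) F) : Prop where
  char : Subgroup.centralizer (pCore p G : Set G) ≤ pCore p G
  uniq : ∃! M : Subgroup G, IsCoatom M ∧ (S : Subgroup G) ≤ M
  hn : 1 ≤ n
  hF : Fintype.card F = p ^ n
  surj : Function.Surjective φ

theorem Setting.of_iso {p n : ℕ} {S : Sylow p G} {F : Type} [Field F] [Fintype F]
    (hE₁ : Subgroup.centralizer (pCore p G : Set G) ≤ pCore p G)
    (hE₂ : ∃! M : Subgroup G, IsCoatom M ∧ (S : Subgroup G) ≤ M) (K : Subgroup G) [K.Normal]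
    (hn : 1 ≤ n) (hF : Fintype.card F = p ^ n)
    (iso : G ⧸ K ≃* Matrix.ProjectiveSpecialLinearGroup (Fin 2) F) :
    Setting p n S F (iso.toMonoidHom.comp (QuotientGroup.mk' K)) :=
  ⟨hE₁, hE₂, hn, hF, iso.surjective.comp (QuotientGroup.mk'_surjective K)⟩

variable [Finite G] {p n : ℕ} [hp : Fact p.Prime] {S : Sylow p G} {F : Type} [Field F] [Fintype F]
  {φ : G →* Matrix.ProjectiveSpecialLinearGroup (Fin 2) F}

omit hp in
theorem mem_normalizer_iff_cj_le {H : Subgroup G} {g : G} :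
    g ∈ Subgroup.normalizer (H : Set G) ↔ H.map (MulAut.conj g).toMonoidHom ≤ H := by
  rw [mem_normalizer_iff_cj]
  refine ⟨fun h => h.le, fun h => Subgroup.eq_of_le_of_card_ge h ?_⟩
  rw [Subgroup.card_map_of_injective (f := (MulAut.conj g).toMonoidHom) (MulAut.conj g).injective]

/-- An abelian subgroup of the centralizer joins an abelian subgroup to an abelian one. -/
theorem comm_sup {A B : Subgroup G} (hA : IsMulCommutative A) (hB : IsMulCommutative B)
    (h : B ≤ Subgroup.centralizer (A : Set G)) : IsMulCommutative (A ⊔ B : Subgroup G) := by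
  have h1 : A ≤ Subgroup.centralizer (A : Set G) := fun x hx => Subgroup.mem_centralizer_iff.2 fun y hy =>
    congrArg Subtype.val (hA.1.1 ⟨y, hy⟩ ⟨x, hx⟩)
  have h2 : B ≤ Subgroup.centralizer (B : Set G) := fun x hx => Subgroup.mem_centralizer_iff.2 fun y hy =>
    congrArg Subtype.val (hB.1.1 ⟨y, hy⟩ ⟨x, hx⟩)
  have h3 : A ⊔ B ≤ Subgroup.centralizer ((A ⊔ B : Subgroup G) : Set G) := by
    refine sup_le ?_ ?_ <;> rw [Subgroup.le_centralizer_iff]
    · exact sup_le h1 h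
    · exact sup_le (Subgroup.le_centralizer_iff.1 h) h2
  exact ⟨⟨fun x y => Subtype.ext ((Subgroup.mem_centralizer_iff.1 (h3 x.2) y y.2).symm)⟩⟩

omit [Finite G] hp in
theorem card_sup_normal (W X : Subgroup G) [W.Normal] :
    Nat.card (W ⊔ X : Subgroup G) = W.relIndex X * Nat.card W := by
  have h := Subgroup.relIndex_mul_relIndex ⊥ W (W ⊔ X) bot_le le_sup_left
  rw [Subgroup.relIndex_bot_left, Subgroup.relIndex_bot_left, sup_comm W X, Subgroup.relIndex_sup_right] at h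
  rw [sup_comm W X, ← h, mul_comm]

omit hp in
theorem relIndex_ne_zero' (H K : Subgroup G) : H.relIndex K ≠ 0 :=
  Subgroup.index_ne_zero_of_finite (H := H.subgroupOf K)

omit hp in
/-- If `X` and `W` have the same index over their meets with `A`, then `W = X (W ⊓ A)`. -/
theorem exists_mul_of_relIndex {X W A : Subgroup G} [X.Normal] (hXW : X ≤ W)
    (h : A.relIndex W ≤ A.relIndex X) {w : G} (hw : w ∈ W) : ∃ x ∈ X, ∃ a ∈ W ⊓ A, w = x * a := by
  set U := X ⊔ (W ⊓ A)
  have hUW : U ≤ W := sup_le hXW inf_le_left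
  have e : A ⊓ U = A ⊓ W :=
    le_antisymm (inf_le_inf_left _ hUW) (le_inf inf_le_left (by rw [inf_comm]; exact le_sup_right))
  have h1 : (A ⊓ U).relIndex U * U.relIndex W = (A ⊓ U).relIndex W :=
    Subgroup.relIndex_mul_relIndex _ _ _ inf_le_right hUW
  have h2 : (A ⊓ U).relIndex W = (A ⊓ W).relIndex W := by rw [e]
  rw [h2, Subgroup.inf_relIndex_right, Subgroup.inf_relIndex_right] at h1
  have h3 : A.relIndex X ≤ A.relIndex U := Subgroup.relIndex_le_of_le_right le_sup_left (relIndex_ne_zero' _ _)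
  have h4 : U.relIndex W = 1 := by
    have h6 := Nat.pos_of_ne_zero (relIndex_ne_zero' U W)
    by_contra hne
    have h7 : A.relIndex U * 2 ≤ A.relIndex U * U.relIndex W := Nat.mul_le_mul_left _ (by omega)
    have h8 := Nat.pos_of_ne_zero (relIndex_ne_zero' A U)
    omega
  obtain ⟨x, hx, a, ha, rfl⟩ := Subgroup.mem_sup_of_normal_left.1 (Subgroup.relIndex_eq_one.1 h4 hw)
  exact ⟨x, hx, a, ha, rfl⟩

namespace Setting

variable (R : Setting p n S F φ)
include R

theorem eq_top {H : Subgroup G} (hS : (S : Subgroup G) ≤ H)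
    (h : ∀ M : Subgroup G, IsCoatom M → (S : Subgroup G) ≤ M → ¬ H ≤ M) : H = ⊤ := by
  rcases eq_top_or_exists_le_coatom H with h1 | ⟨M, hM, hHM⟩
  · exact h1
  · exact absurd hHM (h M hM (hS.trans hHM))

theorem exists_M : ∃ M : Subgroup G, IsCoatom M ∧ (S : Subgroup G) ≤ M ∧
    ∀ H : Subgroup G, (S : Subgroup G) ≤ H → ¬ H ≤ M → H = ⊤ := by
  obtain ⟨M, ⟨hM, hSM⟩, huniq⟩ := R.uniq
  refine ⟨M, hM, hSM, fun H hS hH => ?_⟩
  rcases eq_top_or_exists_le_coatom H with h1 | ⟨M', hM', hHM⟩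
  · exact h1
  · exact absurd (huniq M' ⟨hM', hS.trans hHM⟩ ▸ hHM) hH

/-- The maximal subgroup containing `S`. -/
noncomputable def M : Subgroup G := R.exists_M.choose

theorem M_coatom : IsCoatom R.M := R.exists_M.choose_spec.1

theorem le_M : (S : Subgroup G) ≤ R.M := R.exists_M.choose_spec.2.1

theorem top_of_not_le {H : Subgroup G} (hS : (S : Subgroup G) ≤ H) (h : ¬ H ≤ R.M) : H = ⊤ :=
  R.exists_M.choose_spec.2.2 H hS h

theorem Q_le : pCore p G ≤ (S : Subgroup G) := pCore_le_sylow S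

/-- A subgroup centralized by `S` and by a normal subgroup outside the maximal subgroup is central. -/
theorem mem_center {N : Subgroup G} (hN : ¬ N ≤ R.M) {t : G}
    (hNt : ∀ g ∈ N, g * t = t * g) (hSt : ∀ g ∈ (S : Subgroup G), g * t = t * g) : t ∈ Subgroup.center G := by
  have hle : ∀ X : Subgroup G, (∀ g ∈ X, g * t = t * g) → X ≤ Subgroup.centralizer ({t} : Set G) :=
    fun X hX g hg => Subgroup.mem_centralizer_iff.2 fun y hy => by
      rw [Set.mem_singleton_iff.1 hy]; exact (hX g hg).symm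
  have h := R.top_of_not_le (hle _ hSt) fun hc => hN ((hle _ hNt).trans hc)
  refine Subgroup.mem_center_iff.2 fun g => ?_
  exact (Subgroup.mem_centralizer_iff.1 (h.symm ▸ Subgroup.mem_top g : g ∈ Subgroup.centralizer ({t} : Set G))
    t rfl).symm

/-- A normal subgroup inside the maximal subgroup meets `S` in a normal subgroup. -/
theorem inf_normal {N : Subgroup G} [N.Normal] (hN : N ≤ R.M) : ((S : Subgroup G) ⊓ N).Normal := by
  obtain ⟨P, hP⟩ := exists_sylow_inf S N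
  have h := Sylow.normalizer_sup_eq_top P
  rw [hP, Subgroup.subgroupOf_map_subtype] at h
  refine Subgroup.normalizer_eq_top_iff.1 (R.top_of_not_le ?_ fun hc => ?_)
  · intro g hg
    refine mem_normalizer_iff_cj_le.2 ?_
    rintro _ ⟨x, hx, rfl⟩
    exact ⟨mul_mem (mul_mem hg hx.1) ((S : Subgroup G).inv_mem hg), Subgroup.Normal.conj_mem inferInstance x hx.2 g⟩
  · exact R.M_coatom.1 (top_le_iff.1 (h ▸ sup_le hc hN))

theorem inf_le_Q {N : Subgroup G} [N.Normal] (hN : N ≤ R.M) : (S : Subgroup G) ⊓ N ≤ pCore p G := by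
  haveI := R.inf_normal hN
  exact le_pCore (S.2.to_le inf_le_left)

/-- The kernel lies in the maximal subgroup. -/
theorem ker_le : φ.ker ≤ R.M := by
  by_contra hK
  have htop := R.top_of_not_le (H := (S : Subgroup G) ⊔ φ.ker) le_sup_left fun h => hK (le_sup_right.trans h)
  have h1 : (S : Subgroup G).map φ = ⊤ := by
    rw [← Subgroup.map_top_of_surjective φ R.surj, ← htop, Subgroup.map_sup,
      (Subgroup.map_eq_bot_iff _).2 le_rfl, sup_bot_eq]
  have hP : IsPGroup p (Matrix.ProjectiveSpecialLinearGroup (Fin 2) F) := by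
    intro x
    obtain ⟨s, hs, rfl⟩ := (h1 ▸ Subgroup.mem_top x : x ∈ (S : Subgroup G).map φ)
    obtain ⟨k, hk⟩ := S.2 ⟨s, hs⟩
    exact ⟨k, by rw [← map_pow, show s ^ p ^ k = 1 from congrArg Subtype.val hk, map_one]⟩
  haveI : Finite (Matrix.ProjectiveSpecialLinearGroup (Fin 2) F) := Finite.of_surjective φ R.surj
  obtain ⟨j, hj⟩ := IsPGroup.iff_card.1 hP
  have h2 := Classical.Dickson.card_psl F
  rw [hj, R.hF] at h2
  have hcop : Nat.Coprime (p ^ j) ((p ^ n) ^ 2 - 1) := by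
    refine Nat.Coprime.pow_left j ((Nat.Prime.coprime_iff_not_dvd hp.out).2 fun hd => ?_)
    have h4 : p ∣ (p ^ n) ^ 2 := (dvd_pow_self p (by have := R.hn; omega)).trans (dvd_pow_self _ two_ne_zero)
    have h5 := Nat.dvd_sub h4 hd
    rw [Nat.sub_sub_self (Nat.one_le_pow _ _ (Nat.pow_pos hp.out.pos))] at h5
    exact hp.out.not_dvd_one h5
  have h6 : (p ^ n) ^ 2 - 1 ∣ Nat.gcd 2 (p ^ n - 1) :=
    hcop.symm.dvd_of_dvd_mul_left ⟨p ^ n, by rw [mul_comm _ (p ^ n)]; exact h2⟩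
  have h7 := Nat.le_of_dvd (Nat.gcd_pos_of_pos_left _ two_pos) h6
  have h8 := Nat.gcd_le_left (p ^ n - 1) two_pos
  have h9 : 2 ≤ p ^ n := le_trans hp.out.two_le (Nat.le_self_pow (by have := R.hn; omega) p)
  have h10 : 4 ≤ (p ^ n) ^ 2 := le_trans (by norm_num) (Nat.pow_le_pow_left h9 2)
  omega

/-- Elements of `S` outside `O_p(G)` survive in the quotient. -/
theorem map_ne_one {x : G} (hx : x ∈ (S : Subgroup G)) (hxQ : x ∉ pCore p G) : φ x ≠ 1 :=
  fun h => hxQ (R.inf_le_Q R.ker_le ⟨hx, h⟩)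

theorem relIndex_S_le : (pCore p G).relIndex (S : Subgroup G) ≤ p ^ n := by
  haveI : Finite (Matrix.ProjectiveSpecialLinearGroup (Fin 2) F) := Finite.of_surjective φ R.surj
  have h1 : (pCore p G).relIndex (S : Subgroup G) ≤ Nat.card ((S : Subgroup G).map φ) := by
    have h2 : φ.ker.relIndex (S : Subgroup G) = Nat.card ((S : Subgroup G).map φ) :=
      Subgroup.relIndex_ker _ φ
    rw [← h2, ← Subgroup.inf_relIndex_right φ.ker]
    exact Subgroup.relIndex_le_of_le_left (inf_comm φ.ker _ ▸ R.inf_le_Q R.ker_le) (relIndex_ne_zero' _ _)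
  refine h1.trans (Nat.le_of_dvd (Nat.pow_pos hp.out.pos) ?_)
  have h3 : Nat.card ((S : Subgroup G).map φ) ∣ p ^ n * ((p ^ n) ^ 2 - 1) := by
    rw [← R.hF, ← Classical.Dickson.card_psl F]
    exact dvd_mul_of_dvd_left (Subgroup.card_subgroup_dvd_card _) _
  obtain ⟨j, hj⟩ := IsPGroup.iff_card.1 (S.2.map φ)
  rw [hj] at h3 ⊢
  refine Nat.Coprime.dvd_of_dvd_mul_right (Nat.Coprime.pow_left j
    ((Nat.Prime.coprime_iff_not_dvd hp.out).2 fun hd => ?_)) h3
  have h4 : p ∣ (p ^ n) ^ 2 := (dvd_pow_self p (by have := R.hn; omega)).trans (dvd_pow_self _ two_ne_zero)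
  have h5 := Nat.dvd_sub h4 hd
  rw [Nat.sub_sub_self (Nat.one_le_pow _ _ (Nat.pow_pos hp.out.pos))] at h5
  exact hp.out.not_dvd_one h5

/-- For `q > p` a normal subgroup inside the maximal subgroup lies in the kernel. -/
theorem normal_le_ker (h2 : 2 ≤ n) {N : Subgroup G} [N.Normal] (hN : N ≤ R.M) : N ≤ φ.ker := by
  haveI : IsSimpleGroup (Matrix.ProjectiveSpecialLinearGroup (Fin 2) F) :=
    S0810.psl_simple_big (by
      rw [R.hF]
      exact le_trans (Nat.pow_le_pow_left hp.out.two_le 2) (Nat.pow_le_pow_right hp.out.pos h2))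
  rcases (Subgroup.Normal.map (inferInstance : N.Normal) φ R.surj).eq_bot_or_eq_top with h | h
  · exact (Subgroup.map_eq_bot_iff _).1 h
  · exfalso
    have h3 : N ⊔ φ.ker = ⊤ := by rw [← Subgroup.comap_map_eq, h, Subgroup.comap_top]
    exact R.M_coatom.1 (top_le_iff.1 (h3 ▸ sup_le hN R.ker_le))

theorem disp {V : Subgroup G} [V.Normal] (hVp : IsPGroup p V)
    (hV : Subgroup.centralizer (V : Set G) ≤ R.M) {x : G} (hx : x ∈ (S : Subgroup G)) (hxQ : x ∉ pCore p G) :
    p ^ n ≤ (V ⊓ Subgroup.centralizer ({x} : Set G)).relIndex V := by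
  obtain ⟨k, hk⟩ := S.2 ⟨x, hx⟩
  exact displacement hVp R.hn R.hF φ R.surj (fun h2 => R.normal_le_ker h2 hV)
    (show x ^ p ^ k = 1 from congrArg Subtype.val hk) (R.map_ne_one hx hxQ)
    fun hc => hxQ (R.inf_le_Q hV ⟨hx, hc⟩)

/-! ### The normal closure of the centre of `S` -/

omit R in
theorem zS_le_maxAb {A : Subgroup G} (hA : A ∈ maxAb (S : Subgroup G)) :
    zS (S : Subgroup G) ≤ A := fun z hz =>
  mem_of_maxIn hA hz.1 (isMulCommutative_closure_insert hA.2.1 fun a ha =>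
    (Subgroup.mem_centralizer_iff.1 hz.2 a (hA.1 ha)).symm)

omit R in
theorem Z_mem_iff {z : G} : z ∈ centerThompsonAOf (S : Subgroup G) ↔
    z ∈ (S : Subgroup G) ∧ ∀ A ∈ maxAb (S : Subgroup G), z ∈ A := by
  rw [← zFam_comm_eq]
  exact and_congr_right fun _ => Subgroup.mem_sInf

omit R in
theorem zS_le_Z : zS (S : Subgroup G) ≤ centerThompsonAOf (S : Subgroup G) :=
  fun _ hz => Z_mem_iff.2 ⟨hz.1, fun _ hA => zS_le_maxAb hA hz⟩

omit R in
theorem maxAb_le_C {A : Subgroup G} (hA : A ∈ maxAb (S : Subgroup G)) : A ≤ cZJ (S : Subgroup G) :=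
  fun a ha => ⟨hA.1 ha, Subgroup.mem_centralizer_iff.2 fun z hz =>
    congrArg Subtype.val (hA.2.1.1.1 ⟨z, (Z_mem_iff.1 hz).2 A hA⟩ ⟨a, ha⟩)⟩

omit R in
theorem map_maxAb {A : Subgroup G} (hA : A ∈ maxAb (S : Subgroup G)) (g : G)
    (h : A.map (MulAut.conj g).toMonoidHom ≤ (S : Subgroup G)) :
    A.map (MulAut.conj g).toMonoidHom ∈ maxAb (S : Subgroup G) :=
  ⟨h, isMulCommutative_map _ hA.2.1, fun B hB hB' => by
    rw [Subgroup.card_map_of_injective (f := (MulAut.conj g).toMonoidHom) (MulAut.conj g).injective]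
    exact hA.2.2 B hB hB'⟩

/-- The centre of `S` lies in `O_p(G)`. -/
theorem zS_le_Q : zS (S : Subgroup G) ≤ pCore p G := fun _ hz =>
  R.char (Subgroup.centralizer_le R.Q_le hz.2)

theorem Y_le_Q : (yS (S : Subgroup G)) ≤ pCore p G :=
  haveI : (pCore p G).Normal := inferInstance
  Subgroup.normalClosure_le_normal R.zS_le_Q

theorem Q_le_CY : pCore p G ≤ Subgroup.centralizer ((yS (S : Subgroup G)) : Set G) := by
  rw [Subgroup.le_centralizer_iff]
  refine Subgroup.normalClosure_le_normal fun z hz => ?_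
  exact Subgroup.centralizer_le R.Q_le hz.2

theorem Y_comm : IsMulCommutative (yS (S : Subgroup G)) :=
  ⟨⟨fun x y => Subtype.ext ((Subgroup.mem_centralizer_iff.1 (R.Q_le_CY (R.Y_le_Q x.2)) y y.2).symm)⟩⟩

theorem Y_pgroup : IsPGroup p (yS (S : Subgroup G)) := (isPGroup_pCore p G).to_le R.Y_le_Q

end Setting

/-- The interesting case: `C_G(Y)` lies in the maximal subgroup and some abelian subgroup of largest
order leaves `O_p(G)`. -/
structure Offending (R : Setting p n S F φ) : Prop where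
  CY : Subgroup.centralizer ((yS (S : Subgroup G)) : Set G) ≤ R.M
  exA : ∃ A ∈ maxAb (S : Subgroup G), ¬ A ≤ pCore p G

/-- The three cases. -/
theorem Setting.cases (R : Setting p n S F φ) :
    zS (S : Subgroup G) ≤ Subgroup.center G ∨ (cZJ (S : Subgroup G)).Normal ∨ Offending R := by
  by_cases hCY : Subgroup.centralizer ((yS (S : Subgroup G)) : Set G) ≤ R.M
  swap
  · exact Or.inl fun z hz => R.mem_center hCY
      (fun g hg => (Subgroup.mem_centralizer_iff.1 hg z (Subgroup.subset_normalClosure hz)).symm)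
      fun g hg => Subgroup.mem_centralizer_iff.1 hz.2 g hg
  by_cases hA : ∃ A ∈ maxAb (S : Subgroup G), ¬ A ≤ pCore p G
  · exact Or.inr (Or.inr ⟨hCY, hA⟩)
  simp only [not_exists, not_and, not_not] at hA
  obtain ⟨A₀, hA₀⟩ := (replFamily_comm (G := G)).maxIn_nonempty (S : Subgroup G)
  haveI hZn : (centerThompsonAOf (S : Subgroup G)).Normal := by
    refine ⟨fun z hz g => Setting.Z_mem_iff.2 ⟨R.Q_le ?_, fun A hA' => ?_⟩⟩
    · exact Subgroup.Normal.conj_mem inferInstance z (hA A₀ hA₀ ((Setting.Z_mem_iff.1 hz).2 A₀ hA₀)) g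
    · have h1 : A.map (MulAut.conj g⁻¹).toMonoidHom ≤ (S : Subgroup G) := by
        rintro _ ⟨a, ha, rfl⟩
        exact R.Q_le (Subgroup.Normal.conj_mem inferInstance a (hA A hA' ha) g⁻¹)
      obtain ⟨a, ha, he⟩ := (Setting.Z_mem_iff.1 hz).2 _ (Setting.map_maxAb hA' _ h1)
      rw [show g * z * g⁻¹ = a by rw [← he]; simp [mul_assoc]]
      exact ha
  by_cases hCZ : Subgroup.centralizer (centerThompsonAOf (S : Subgroup G) : Set G) ≤ R.M
  · exact Or.inr (Or.inl (R.inf_normal hCZ))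
  · exact Or.inl fun z hz => R.mem_center hCZ
      (fun g hg => (Subgroup.mem_centralizer_iff.1 hg z (Setting.zS_le_Z hz)).symm)
      fun g hg => Subgroup.mem_centralizer_iff.1 hz.2 g hg

namespace Offending

variable {R : Setting p n S F φ} (O : Offending R)
include O

theorem Y1_normal : (omegaOne p (yS (S : Subgroup G))).Normal := omegaOne_normal' R.Y_comm

theorem CY1 : Subgroup.centralizer ((omegaOne p (yS (S : Subgroup G))) : Set G) ≤ R.M := by
  haveI := O.Y1_normal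
  refine le_trans (normal_le_sylow_sup S (C := Subgroup.centralizer ((yS (S : Subgroup G)) : Set G)) fun x hx => ?_)
    (sup_le R.le_M O.CY)
  obtain ⟨k, m, hm, hkm⟩ := Nat.exists_eq_pow_mul_and_not_dvd (orderOf_pos x).ne' p hp.out.ne_one
  refine ⟨k, mem_centralizer_of_fix_torsion R.Y_comm R.Y_pgroup ?_ fun y hy hy1 => ?_⟩
  · have hdvd : orderOf (x ^ p ^ k) ∣ m :=
      orderOf_dvd_of_pow_eq_one (by rw [← pow_mul, ← hkm, pow_orderOf_eq_one])
    exact Nat.Coprime.coprime_dvd_left hdvd ((Nat.Prime.coprime_iff_not_dvd hp.out).2 hm).symm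
  · have hy' : y ∈ (omegaOne p (yS (S : Subgroup G))) := Subgroup.subset_closure ⟨hy, hy1⟩
    exact (Subgroup.mem_centralizer_iff.1 (pow_mem hx (p ^ k)) y hy').symm

/-- The key counting. -/
theorem counts {A : Subgroup G} (hA : A ∈ maxAb (S : Subgroup G)) (hAQ : ¬ A ≤ pCore p G) :
    A.relIndex (yS (S : Subgroup G)) = p ^ n ∧ A.relIndex (omegaOne p (yS (S : Subgroup G))) = p ^ n ∧
      (yS (S : Subgroup G)) ⊔ (A ⊓ pCore p G) ∈ maxAb (S : Subgroup G) ∧ A ⊔ pCore p G = (S : Subgroup G) ∧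
      ∀ W : Subgroup G, W.Normal → IsMulCommutative W → W ≤ (S : Subgroup G) →
        A ⊓ pCore p G ≤ Subgroup.centralizer (W : Set G) → A.relIndex W ≤ p ^ n := by
  haveI := O.Y1_normal
  obtain ⟨x, hxA, hxQ⟩ := SetLike.not_le_iff_exists.1 hAQ
  have hlow : p ^ n ≤ A.relIndex (omegaOne p (yS (S : Subgroup G))) := by
    refine (R.disp (R.Y_pgroup.to_le omegaOne_le') O.CY1 (hA.1 hxA) hxQ).trans ?_
    rw [← Subgroup.inf_relIndex_left (omegaOne p (yS (S : Subgroup G))) A]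
    refine Subgroup.relIndex_le_of_le_left (inf_le_inf_left _ fun a ha => ?_) (relIndex_ne_zero' _ _)
    refine Subgroup.mem_centralizer_iff.2 fun y hy => ?_
    rw [Set.mem_singleton_iff.1 hy]
    exact congrArg Subtype.val (hA.2.1.1.1 ⟨x, hxA⟩ ⟨a, ha⟩)
  have hmono : A.relIndex (omegaOne p (yS (S : Subgroup G))) ≤ A.relIndex (yS (S : Subgroup G)) :=
    Subgroup.relIndex_le_of_le_right omegaOne_le' (relIndex_ne_zero' _ _)
  have hQA : (pCore p G).relIndex A ≤ p ^ n :=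
    (Subgroup.relIndex_le_of_le_right hA.1 (relIndex_ne_zero' _ _)).trans R.relIndex_S_le
  have eA : Nat.card A = (pCore p G).relIndex A * Nat.card (A ⊓ pCore p G : Subgroup G) := by
    have h := Subgroup.relIndex_mul_relIndex ⊥ (A ⊓ pCore p G) A bot_le inf_le_left
    rw [Subgroup.relIndex_bot_left, Subgroup.relIndex_bot_left, Subgroup.inf_relIndex_left] at h
    rw [← h, mul_comm]
  have up : ∀ W : Subgroup G, W.Normal → IsMulCommutative W → W ≤ (S : Subgroup G) →
      A ⊓ pCore p G ≤ Subgroup.centralizer (W : Set G) →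
      IsMulCommutative (W ⊔ (A ⊓ pCore p G) : Subgroup G) ∧
      A.relIndex W * Nat.card (A ⊓ pCore p G : Subgroup G) ≤ Nat.card (W ⊔ (A ⊓ pCore p G) : Subgroup G) ∧
      A.relIndex W ≤ (pCore p G).relIndex A := by
    intro W hWn hWc hWS hWcen
    have hc := comm_sup hWc (isMulCommutative_of_le hA.2.1 inf_le_left) hWcen
    set U := W ⊔ (A ⊓ pCore p G)
    have h1 : A.relIndex W * Nat.card (A ⊓ pCore p G : Subgroup G) ≤ Nat.card U := by
      have h := Subgroup.relIndex_mul_relIndex ⊥ (A ⊓ U) U bot_le inf_le_right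
      rw [Subgroup.relIndex_bot_left, Subgroup.relIndex_bot_left, Subgroup.inf_relIndex_right] at h
      rw [← h, mul_comm (Nat.card (A ⊓ U : Subgroup G))]
      exact Nat.mul_le_mul (Subgroup.relIndex_le_of_le_right le_sup_left (relIndex_ne_zero' _ _))
        (Subgroup.card_le_of_le (le_inf inf_le_left le_sup_right))
    have h2 := hA.2.2 U (sup_le hWS (inf_le_left.trans hA.1)) hc
    rw [eA] at h2
    exact ⟨hc, h1, Nat.le_of_mul_le_mul_right (h1.trans h2) Nat.card_pos⟩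
  obtain ⟨hYc, hY1, hY2⟩ := up (yS (S : Subgroup G)) inferInstance R.Y_comm (R.Y_le_Q.trans R.Q_le)
    (inf_le_right.trans R.Q_le_CY)
  have hAY : A.relIndex (yS (S : Subgroup G)) = p ^ n := le_antisymm (hY2.trans hQA) (hlow.trans hmono)
  have hQAeq : (pCore p G).relIndex A = p ^ n := le_antisymm hQA (hAY ▸ hY2)
  refine ⟨hAY, le_antisymm (hmono.trans hAY.le) hlow, ⟨sup_le (R.Y_le_Q.trans R.Q_le) (inf_le_left.trans hA.1),
    hYc, fun B hB hB' => ?_⟩, ?_, fun W hn' hc hWS hcen => (up W hn' hc hWS hcen).2.2.trans hQA⟩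
  · refine (hA.2.2 B hB hB').trans ?_
    rw [eA, hQAeq]
    rw [hAY] at hY1
    exact hY1
  · refine le_antisymm (sup_le hA.1 R.Q_le) ?_
    have h1 : (pCore p G).relIndex (A ⊔ pCore p G) = p ^ n := by
      rw [Subgroup.relIndex_sup_right, hQAeq]
    have h2 := Subgroup.relIndex_mul_relIndex (pCore p G) (A ⊔ pCore p G) (S : Subgroup G) le_sup_right
      (sup_le hA.1 R.Q_le)
    rw [h1] at h2
    have h3 : (A ⊔ pCore p G).relIndex (S : Subgroup G) = 1 := by
      have h4 := R.relIndex_S_le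
      rw [← h2] at h4
      have h5 := Nat.pos_of_ne_zero (relIndex_ne_zero' (A ⊔ pCore p G) (S : Subgroup G))
      have h6 : (A ⊔ pCore p G).relIndex (S : Subgroup G) ≤ 1 :=
        Nat.le_of_mul_le_mul_left (h4.trans_eq (mul_one _).symm) (Nat.pow_pos hp.out.pos)
      omega
    exact Subgroup.relIndex_eq_one.1 h3

theorem Z_le_Q : centerThompsonAOf (S : Subgroup G) ≤ pCore p G := by
  obtain ⟨A, hA, hAQ⟩ := O.exA
  exact fun z hz => sup_le R.Y_le_Q inf_le_right
    ((Setting.Z_mem_iff.1 hz).2 _ (O.counts hA hAQ).2.2.1)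

theorem W_le {B : Subgroup G} (hB : B ∈ maxAb (S : Subgroup G)) (hBQ : B ≤ pCore p G) : (wS (S : Subgroup G)) ≤ B := by
  refine (Subgroup.closure_le _).2 fun w hw => ?_
  obtain ⟨z, hz, hzw⟩ := Group.mem_conjugatesOfSet_iff.1 hw
  obtain ⟨g, rfl⟩ := isConj_iff.1 hzw
  have h1 : B.map (MulAut.conj g⁻¹).toMonoidHom ≤ (S : Subgroup G) := by
    rintro _ ⟨a, ha, rfl⟩
    exact R.Q_le (Subgroup.Normal.conj_mem inferInstance a (hBQ ha) g⁻¹)
  obtain ⟨b, hb, he⟩ := (Setting.Z_mem_iff.1 hz).2 _ (Setting.map_maxAb hB _ h1)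
  rw [SetLike.mem_coe, show g * z * g⁻¹ = b by rw [← he]; simp [mul_assoc]]
  exact hb

theorem W_comm : IsMulCommutative (wS (S : Subgroup G)) := by
  obtain ⟨A, hA, hAQ⟩ := O.exA
  have hB := (O.counts hA hAQ).2.2.1
  exact isMulCommutative_of_le hB.2.1 (O.W_le hB (sup_le R.Y_le_Q inf_le_right))

theorem W_le_Q : (wS (S : Subgroup G)) ≤ pCore p G := Subgroup.normalClosure_le_normal O.Z_le_Q

theorem Y_le_W : (yS (S : Subgroup G)) ≤ (wS (S : Subgroup G)) := Subgroup.normalClosure_mono Setting.zS_le_Z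

theorem W_split {A : Subgroup G} (hA : A ∈ maxAb (S : Subgroup G)) (hAQ : ¬ A ≤ pCore p G) {w : G}
    (hw : w ∈ (wS (S : Subgroup G))) : ∃ y ∈ (yS (S : Subgroup G)), ∃ a ∈ (wS (S : Subgroup G)) ⊓ A, w = y * a := by
  obtain ⟨h1, -, hB, -, h5⟩ := O.counts hA hAQ
  refine exists_mul_of_relIndex O.Y_le_W ?_ hw
  rw [h1]
  refine h5 (wS (S : Subgroup G)) inferInstance O.W_comm (O.W_le_Q.trans R.Q_le) fun a ha => ?_
  refine Subgroup.mem_centralizer_iff.2 fun v hv => ?_
  exact congrArg Subtype.val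
    (hB.2.1.1.1 ⟨v, O.W_le hB (sup_le R.Y_le_Q inf_le_right) hv⟩ ⟨a, le_sup_right (a := (yS (S : Subgroup G))) ha⟩)

theorem Kr_normal : (krS (S : Subgroup G)).Normal := by
  haveI : ((wS (S : Subgroup G)).map (QuotientGroup.mk' (yS (S : Subgroup G)))).Normal :=
    Subgroup.Normal.map inferInstance _ (QuotientGroup.mk'_surjective _)
  infer_instance

theorem mem_Kr {g : G} : g ∈ (krS (S : Subgroup G)) ↔ ∀ w ∈ (wS (S : Subgroup G)), ⁅g, w⁆ ∈ (yS (S : Subgroup G)) := by
  simp only [Subgroup.mem_comap, Subgroup.mem_centralizer_iff, SetLike.mem_coe, Subgroup.mem_map,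
    forall_exists_index, and_imp, forall_apply_eq_imp_iff₂]
  refine forall_congr' fun w => imp_congr_right fun _ => ?_
  rw [← QuotientGroup.eq_one_iff, ← QuotientGroup.mk'_apply (N := (yS (S : Subgroup G))), map_commutatorElement,
    commutatorElement_eq_one_iff_mul_comm]
  exact eq_comm

theorem maxAb_le_Kr {A : Subgroup G} (hA : A ∈ maxAb (S : Subgroup G)) : A ≤ (krS (S : Subgroup G)) := by
  intro a ha
  rw [O.mem_Kr]
  intro w hw
  by_cases hAQ : A ≤ pCore p G
  · rw [show ⁅a, w⁆ = 1 from commutatorElement_eq_one_iff_mul_comm.2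
      (congrArg Subtype.val (hA.2.1.1.1 ⟨a, ha⟩ ⟨w, O.W_le hA hAQ hw⟩))]
    exact one_mem _
  · obtain ⟨y, hy, b, hb, rfl⟩ := O.W_split hA hAQ hw
    have hab : a * b = b * a := congrArg Subtype.val (hA.2.1.1.1 ⟨a, ha⟩ ⟨b, hb.2⟩)
    have e : ⁅a, y * b⁆ = a * y * a⁻¹ * y⁻¹ := by
      calc ⁅a, y * b⁆ = a * y * (b * a⁻¹) * b⁻¹ * y⁻¹ := by rw [commutatorElement_def]; group
        _ = a * y * (a⁻¹ * b) * b⁻¹ * y⁻¹ := by rw [((show Commute a b from hab).inv_left).eq]
        _ = _ := by group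
    rw [e]
    exact mul_mem (Subgroup.Normal.conj_mem inferInstance y hy a) (inv_mem hy)

theorem not_le_M {N : Subgroup G} [N.Normal] (h : ∀ A ∈ maxAb (S : Subgroup G), A ≤ N) : ¬ N ≤ R.M := by
  intro hc
  obtain ⟨A, hA, hAQ⟩ := O.exA
  exact hAQ fun a ha => R.inf_le_Q hc ⟨hA.1 ha, h A hA ha⟩

omit O in
theorem S_le_normalizer_Z :
    (S : Subgroup G) ≤ Subgroup.normalizer (centerThompsonAOf (S : Subgroup G) : Set G) := by
  rw [← zFam_comm_eq]
  exact Subgroup.le_normalizer.trans (replFamily_comm.normalizer_le_zFam _)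

theorem W_eq {w : G} (hw : w ∈ (wS (S : Subgroup G))) : ∃ y ∈ (yS (S : Subgroup G)), ∃ z ∈ centerThompsonAOf (S : Subgroup G), w = y * z := by
  haveI := O.Kr_normal
  set U := (yS (S : Subgroup G)) ⊔ centerThompsonAOf (S : Subgroup G)
  haveI hU : U.Normal := by
    have hn' : (krS (S : Subgroup G)) ⊔ (S : Subgroup G) ≤ Subgroup.normalizer (U : Set G) := by
      refine sup_le (fun g hg => mem_normalizer_iff_cj_le.2 ?_) fun g hg => mem_normalizer_iff_cj_le.2 ?_
      · rw [Subgroup.map_sup]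
        refine sup_le ?_ ?_
        · rintro _ ⟨y, hy, rfl⟩
          exact Subgroup.mem_sup_left (Subgroup.Normal.conj_mem inferInstance y hy g)
        · rintro _ ⟨z, hz, rfl⟩
          show g * z * g⁻¹ ∈ U
          rw [show g * z * g⁻¹ = ⁅g, z⁆ * z by rw [commutatorElement_def]; group]
          exact Subgroup.mul_mem_sup (O.mem_Kr.1 hg z (Subgroup.subset_normalClosure hz)) hz
      · rw [Subgroup.map_sup]
        refine sup_le ?_ ?_
        · rintro _ ⟨y, hy, rfl⟩
          exact Subgroup.mem_sup_left (Subgroup.Normal.conj_mem inferInstance y hy g)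
        · rintro _ ⟨z, hz, rfl⟩
          exact Subgroup.mem_sup_right ((Subgroup.mem_normalizer_iff.1 (S_le_normalizer_Z hg) z).1 hz)
    refine Subgroup.normalizer_eq_top_iff.1 (top_le_iff.1 (le_trans ?_ hn'))
    exact (R.top_of_not_le le_sup_right fun hc =>
      O.not_le_M (N := (krS (S : Subgroup G))) (fun A hA => O.maxAb_le_Kr hA) (le_sup_left.trans hc)).ge
  have h1 : (wS (S : Subgroup G)) ≤ U := Subgroup.normalClosure_le_normal fun z hz => Subgroup.mem_sup_right hz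
  obtain ⟨y, hy, z, hz, rfl⟩ := Subgroup.mem_sup_of_normal_left.1 (h1 hw)
  exact ⟨y, hy, z, hz, rfl⟩

theorem comm_W_mem {w x : G} (hw : w ∈ (wS (S : Subgroup G))) (hx : x ∈ pCore p G) : ⁅w, x⁆ ∈ (tS p (S : Subgroup G)) := by
  obtain ⟨y, hy, z, hz, rfl⟩ := O.W_eq hw
  have hyc : ∀ u ∈ pCore p G, Commute y u := fun u hu =>
    Subgroup.mem_centralizer_iff.1 (R.Q_le_CY hu) y hy
  have e : ⁅y * z, x⁆ = ⁅z, x⁆ := by
    calc ⁅y * z, x⁆ = y * (z * x * z⁻¹) * y⁻¹ * x⁻¹ := by rw [commutatorElement_def]; group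
      _ = z * x * z⁻¹ * x⁻¹ := by
        rw [(hyc _ (Subgroup.Normal.conj_mem inferInstance x hx z)).eq, mul_inv_cancel_right]
      _ = _ := (commutatorElement_def z x).symm
  rw [e]
  exact Subgroup.commutator_mem_commutator hz hx

theorem T_normal : (tS p (S : Subgroup G)).Normal := by
  have e : (tS p (S : Subgroup G)) = ⁅(wS (S : Subgroup G)), pCore p G⁆ :=
    le_antisymm (Subgroup.commutator_mono Subgroup.le_normalClosure le_rfl)
      (Subgroup.commutator_le.2 fun w hw x hx => O.comm_W_mem hw hx)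
  rw [e]
  infer_instance

theorem T_le_Z : (tS p (S : Subgroup G)) ≤ centerThompsonAOf (S : Subgroup G) := by
  refine Subgroup.commutator_le.2 fun z hz x hx => ?_
  rw [show ⁅z, x⁆ = z * (x * z⁻¹ * x⁻¹) by rw [commutatorElement_def]; group]
  exact mul_mem hz ((Subgroup.mem_normalizer_iff.1 (S_le_normalizer_Z (R.Q_le hx)) _).1 (inv_mem hz))

theorem maxAb_le_CT {A : Subgroup G} (hA : A ∈ maxAb (S : Subgroup G)) :
    A ≤ Subgroup.centralizer ((tS p (S : Subgroup G)) : Set G) :=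
  (Setting.maxAb_le_C hA).trans (inf_le_right.trans (Subgroup.centralizer_le O.T_le_Z))

theorem comm_S_le : ⁅centerThompsonAOf (S : Subgroup G), (S : Subgroup G)⁆ ≤ (tS p (S : Subgroup G)) := by
  refine Subgroup.commutator_le.2 fun z hz s hs => ?_
  obtain ⟨A, hA, hAQ⟩ := O.exA
  rw [← (O.counts hA hAQ).2.2.2.1] at hs
  obtain ⟨a, ha, x, hx, rfl⟩ := Subgroup.mem_sup_of_normal_right.1 hs
  have hT : ⁅z, x⁆ ∈ (tS p (S : Subgroup G)) := Subgroup.commutator_mem_commutator hz hx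
  have hza : Commute z a := Subgroup.mem_centralizer_iff.1 (Setting.maxAb_le_C hA ha).2 z hz
  have e : ⁅z, a * x⁆ = a * ⁅z, x⁆ * a⁻¹ := by
    calc ⁅z, a * x⁆ = z * a * x * z⁻¹ * x⁻¹ * a⁻¹ := by rw [commutatorElement_def]; group
      _ = a * z * x * z⁻¹ * x⁻¹ * a⁻¹ := by rw [hza.eq]
      _ = _ := by rw [commutatorElement_def]; group
  rw [e]
  exact O.T_normal.conj_mem _ hT a

/-- `[Z(J(S)), S] ∩ Z(S)` is central. -/
theorem comm_inf_le_center :
    ⁅centerThompsonAOf (S : Subgroup G), (S : Subgroup G)⁆ ⊓ zS (S : Subgroup G) ≤ Subgroup.center G := by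
  rintro t ⟨ht, htS⟩
  haveI := O.T_normal
  refine R.mem_center (N := Subgroup.centralizer ((tS p (S : Subgroup G)) : Set G)) (O.not_le_M fun A hA => O.maxAb_le_CT hA)
    (fun g hg => (Subgroup.mem_centralizer_iff.1 hg t (O.comm_S_le ht)).symm)
    fun g hg => Subgroup.mem_centralizer_iff.1 htS.2 g hg

/-- The `p`-th powers in `Z(S)` are central. -/
theorem pow_mem_center {z : G} (hz : z ∈ zS (S : Subgroup G)) : z ^ p ∈ Subgroup.center G := by
  haveI := O.Y1_normal
  set P0 := powerClosure p 1 (yS (S : Subgroup G))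
  haveI : P0.Normal := by
    refine Subgroup.normalizer_eq_top_iff.1 (top_le_iff.1 fun g _ => mem_normalizer_iff_cj_le.2 ?_)
    refine Subgroup.map_le_iff_le_comap.2 ((Subgroup.closure_le _).2 ?_)
    rintro _ ⟨y, hy, rfl⟩
    show g * y ^ p ^ 1 * g⁻¹ ∈ P0
    rw [← conj_pow]
    exact Subgroup.subset_closure ⟨_, Subgroup.Normal.conj_mem inferInstance y hy g, rfl⟩
  have hcen : ∀ A ∈ maxAb (S : Subgroup G), A ≤ Subgroup.centralizer (P0 : Set G) := by
    intro A hA
    rw [Subgroup.le_centralizer_iff]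
    refine (Subgroup.closure_le _).2 ?_
    rintro _ ⟨y, hy, rfl⟩
    refine Subgroup.mem_centralizer_iff.2 fun a ha => ?_
    rw [pow_one]
    by_cases hAQ : A ≤ pCore p G
    · exact (((show Commute y a from Subgroup.mem_centralizer_iff.1 (R.Q_le_CY (hAQ ha)) y hy)).pow_left p).eq.symm
    · obtain ⟨h1, h2, -⟩ := O.counts hA hAQ
      obtain ⟨y1, hy1, b, hb, rfl⟩ := exists_mul_of_relIndex (X := (omegaOne p (yS (S : Subgroup G)))) omegaOne_le' (h1.trans h2.symm).le hy
      have hc : Commute y1 b := congrArg Subtype.val (R.Y_comm.1.1 ⟨y1, omegaOne_le' hy1⟩ ⟨b, hb.1⟩)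
      rw [hc.mul_pow, (omegaOne_pow R.Y_comm hy1).2, one_mul]
      exact congrArg Subtype.val (hA.2.1.1.1 ⟨a, ha⟩ ⟨b ^ p, pow_mem hb.2 p⟩)
  have hzP : z ^ p ∈ P0 :=
    Subgroup.subset_closure ⟨z, Subgroup.subset_normalClosure hz, by rw [pow_one]⟩
  refine R.mem_center (N := Subgroup.centralizer (P0 : Set G)) (O.not_le_M hcen)
    (fun g hg => (Subgroup.mem_centralizer_iff.1 hg _ hzP).symm)
    fun g hg => ((show Commute g z from Subgroup.mem_centralizer_iff.1 hz.2 g hg).pow_right p).eq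

theorem mem_CW {x : G} (hx : x ∈ pCore p G)
    (h : x ∈ Subgroup.centralizer (centerThompsonAOf (S : Subgroup G) : Set G)) :
    x ∈ Subgroup.centralizer ((wS (S : Subgroup G)) : Set G) := by
  refine Subgroup.mem_centralizer_iff.2 fun w hw => ?_
  obtain ⟨y, hy, z, hz, rfl⟩ := O.W_eq hw
  exact ((show Commute y x from Subgroup.mem_centralizer_iff.1 (R.Q_le_CY hx) y hy).mul_left
    (Subgroup.mem_centralizer_iff.1 h z hz)).eq

/-- `C_S(Z(J(S)))` contains every element of `S` in its normal closure. -/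
theorem inf_normalClosure_le :
    (S : Subgroup G) ⊓ Subgroup.normalClosure (cZJ (S : Subgroup G) : Set G) ≤ cZJ (S : Subgroup G) := by
  obtain ⟨A, hA, hAQ⟩ := O.exA
  have hSA := (O.counts hA hAQ).2.2.2.1
  haveI := O.T_normal
  haveI := O.Kr_normal
  set C := cZJ (S : Subgroup G) with hC
  set N := Subgroup.normalClosure (C : Set G) with hN
  set D := pCore p G ⊓ Subgroup.centralizer ((wS (S : Subgroup G)) : Set G) with hD
  have hCN : C ≤ N := Subgroup.le_normalClosure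
  have hAC : A ≤ C := Setting.maxAb_le_C hA
  have hDC : D ≤ C := fun d hd =>
    ⟨R.Q_le hd.1, Subgroup.centralizer_le (Subgroup.le_normalClosure (H := centerThompsonAOf _)) hd.2⟩
  -- elements of `C` are products
  have hCsplit : ∀ c ∈ C, ∃ a ∈ A, ∃ d ∈ D, c = a * d := by
    intro c hc
    obtain ⟨a, ha, x, hx, rfl⟩ := Subgroup.mem_sup_of_normal_right.1 (hSA.ge hc.1)
    refine ⟨a, ha, x, ⟨hx, O.mem_CW hx ?_⟩, rfl⟩
    exact (Subgroup.mul_mem_cancel_left _ (hAC ha).2).1 hc.2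
  have hNK : N ≤ (krS (S : Subgroup G)) ⊓ Subgroup.centralizer ((tS p (S : Subgroup G)) : Set G) := by
    refine Subgroup.normalClosure_le_normal fun c hc => ?_
    obtain ⟨a, ha, d, hd, rfl⟩ := hCsplit c hc
    refine mul_mem ⟨O.maxAb_le_Kr hA ha, O.maxAb_le_CT hA ha⟩ ⟨O.mem_Kr.2 fun w hw => ?_, ?_⟩
    · rw [show ⁅d, w⁆ = 1 from commutatorElement_eq_one_iff_mul_comm.2
        (Subgroup.mem_centralizer_iff.1 hd.2 w hw).symm]
      exact one_mem _
    · exact Subgroup.centralizer_le (O.T_le_Z.trans Subgroup.le_normalClosure) hd.2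
  -- elements of `O_p(G)` are centralized modulo `D`
  have hcentral : ∀ x ∈ pCore p G, ∀ g ∈ N, ⁅x, g⁆ ∈ D := by
    intro x hx g hg
    obtain ⟨hgK, hgT⟩ := hNK hg
    set x' := g * x * g⁻¹ with hx'
    have hx'Q : x' ∈ pCore p G := Subgroup.Normal.conj_mem inferInstance x hx g
    have hW : x⁻¹ * x' ∈ Subgroup.centralizer ((wS (S : Subgroup G)) : Set G) := by
      refine Subgroup.mem_centralizer_iff.2 fun w hw => ?_
      have hw' : g⁻¹ * w * g ∈ (wS (S : Subgroup G)) := by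
        simpa using Subgroup.Normal.conj_mem inferInstance w hw g⁻¹
      have hgw : ⁅g, g⁻¹ * w * g⁆ ∈ (yS (S : Subgroup G)) := O.mem_Kr.1 hgK _ hw'
      -- `w` and `g⁻¹ w g` differ by an element of `Y`
      set y := ⁅g, g⁻¹ * w * g⁆ with hy
      have ew : w = y * (g⁻¹ * w * g) := by rw [hy, commutatorElement_def]; group
      have hyc : ∀ u ∈ pCore p G, Commute y u := fun u hu =>
        Subgroup.mem_centralizer_iff.1 (R.Q_le_CY hu) y hgw
      have e1 : ⁅w, x⁆ = ⁅g⁻¹ * w * g, x⁆ := by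
        calc ⁅w, x⁆ = ⁅y * (g⁻¹ * w * g), x⁆ := by rw [← ew]
          _ = y * ((g⁻¹ * w * g) * x * (g⁻¹ * w * g)⁻¹) * y⁻¹ * x⁻¹ := by
            rw [commutatorElement_def]; group
          _ = _ := by
            rw [(hyc _ (Subgroup.Normal.conj_mem inferInstance x hx _)).eq, mul_inv_cancel_right,
              commutatorElement_def]
      have e2 : g * ⁅g⁻¹ * w * g, x⁆ * g⁻¹ = ⁅w, x'⁆ := by
        rw [hx', commutatorElement_def, commutatorElement_def]; group
      have e3 : g * ⁅g⁻¹ * w * g, x⁆ * g⁻¹ = ⁅g⁻¹ * w * g, x⁆ :=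
        mul_inv_eq_iff_eq_mul.2 (Subgroup.mem_centralizer_iff.1 hgT _ (O.comm_W_mem hw' hx)).symm
      have e4 : w * x * w⁻¹ * x⁻¹ = w * x' * w⁻¹ * x'⁻¹ := by
        have : ⁅w, x⁆ = ⁅w, x'⁆ := by rw [e1, ← e3, e2]
        rwa [commutatorElement_def, commutatorElement_def] at this
      calc w * (x⁻¹ * x') = x⁻¹ * x' * w * (w⁻¹ * x'⁻¹ * (x * (w * x⁻¹ * w⁻¹)) * w * x') * 1 := by group
        _ = x⁻¹ * x' * w * (w⁻¹ * x'⁻¹ * (x * (w * x⁻¹ * w⁻¹)) * w * x') := mul_one _
        _ = _ := by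
          have e5 : x * (w * x⁻¹ * w⁻¹) = x' * (w * x'⁻¹ * w⁻¹) := by
            have h6 := congrArg Inv.inv e4
            simp only [mul_inv_rev, inv_inv] at h6
            simpa only [mul_assoc] using h6
          rw [e5]; group
    have hQd : x⁻¹ * x' ∈ D := ⟨mul_mem ((pCore p G).inv_mem hx) hx'Q, hW⟩
    have e : ⁅x, g⁆ = x * (x⁻¹ * x')⁻¹ * x⁻¹ := by rw [hx', commutatorElement_def]; group
    rw [e]
    exact Subgroup.Normal.conj_mem inferInstance _ (inv_mem hQd) x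
  obtain ⟨P, hP⟩ := exists_sylow_inf S N
  have hmemP : ∀ a : N, a ∈ (P : Subgroup N) ↔ (a : G) ∈ (S : Subgroup G) := fun a => by
    rw [hP]; exact Subgroup.mem_subgroupOf
  have hPsplit : ∀ a : N, a ∈ (P : Subgroup N) → ∃ α ∈ A, ∃ u ∈ pCore p G ⊓ N, (a : G) = α * u := by
    intro a ha
    obtain ⟨α, hα, u, hu, e⟩ := Subgroup.mem_sup_of_normal_right.1 (hSA.ge ((hmemP a).1 ha))
    refine ⟨α, hα, u, ⟨hu, ?_⟩, e.symm⟩
    exact (Subgroup.mul_mem_cancel_left _ (hCN (hAC hα))).1 (e.symm ▸ a.2 : α * u ∈ N)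
  intro t ht
  obtain ⟨α, hα, u, hu, rfl⟩ := Subgroup.mem_sup_of_normal_right.1 (hSA.ge ht.1)
  have huN : u ∈ N := (Subgroup.mul_mem_cancel_left _ (hCN (hAC hα))).1 ht.2
  suffices h : u ∈ C from mul_mem (hAC hα) h
  have hfus := central_mem_of_fusion P (D.subgroupOf N) (C.subgroupOf N)
    (fun d hd => hDC hd) (fun c hc => (hmemP c).2 (show (c : G) ∈ C from hc).1) ?_ ?_ ?_
    (z := ⟨u, huN⟩) ((hmemP _).2 (R.Q_le hu)) (fun g => hcentral u hu g g.2)
  · exact hfus
  · intro a ha b hb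
    obtain ⟨α₁, hα₁, u₁, hu₁, e₁⟩ := hPsplit a ha
    obtain ⟨α₂, hα₂, u₂, hu₂, e₂⟩ := hPsplit b hb
    show ⁅(a : G), (b : G)⁆ ∈ D
    set q := QuotientGroup.mk' D
    have hq : ∀ x, q x = 1 ↔ x ∈ D := fun x => QuotientGroup.eq_one_iff x
    have hc : ∀ x g, x ∈ pCore p G → g ∈ N → Commute (q x) (q g) := fun x g hx hg => by
      rw [Commute, SemiconjBy, ← commutatorElement_eq_one_iff_mul_comm, ← map_commutatorElement, hq]
      exact hcentral x hx g hg
    have hαc : Commute (q α₁) (q α₂) :=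
      (show Commute α₁ α₂ from congrArg Subtype.val (hA.2.1.1.1 ⟨α₁, hα₁⟩ ⟨α₂, hα₂⟩)).map q
    rw [← hq, map_commutatorElement, commutatorElement_eq_one_iff_mul_comm, e₁, e₂, map_mul, map_mul]
    exact ((hαc.mul_right (hc u₂ α₁ hu₂.1 (hCN (hAC hα₁))).symm).mul_left
      ((hc u₁ α₂ hu₁.1 (hCN (hAC hα₂))).mul_right (hc u₁ u₂ hu₁.1 hu₂.2))).eq
  · intro g hg c hc
    have hmap : (S : Subgroup G).map (MulAut.conj (g : G)).toMonoidHom ≤ (S : Subgroup G) := by
      rw [← hSA, Subgroup.map_sup, hSA]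
      refine sup_le ?_ ?_
      · rintro _ ⟨a, ha, rfl⟩
        exact (hmemP _).1 (hg ⟨a, hCN (hAC ha)⟩ ((hmemP _).2 (hA.1 ha)))
      · rintro _ ⟨x, hx, rfl⟩
        exact R.Q_le (Subgroup.Normal.conj_mem inferInstance x hx (g : G))
    have hgS : (g : G) ∈ Subgroup.normalizer ((S : Subgroup G) : Set G) := mem_normalizer_iff_cj_le.2 hmap
    have hgZ : (g : G) ∈ Subgroup.normalizer (centerThompsonAOf (S : Subgroup G) : Set G) := by
      rw [← zFam_comm_eq]
      exact replFamily_comm.normalizer_le_zFam _ hgS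
    show (g : G) * c * (g : G)⁻¹ ∈ C
    refine ⟨hmap ⟨c, hc.1, rfl⟩, Subgroup.mem_centralizer_iff.2 fun z hz => ?_⟩
    have hz' : (g : G)⁻¹ * z * g ∈ centerThompsonAOf (S : Subgroup G) := by
      simpa using (Subgroup.mem_normalizer_iff.1 (inv_mem hgZ) z).1 hz
    have h2 := (show Commute ((g : G)⁻¹ * z * g) c from
      Subgroup.mem_centralizer_iff.1 hc.2 _ hz').map (MulAut.conj (g : G)).toMonoidHom
    simpa [Commute, SemiconjBy, mul_assoc] using h2
  · refine top_le_iff.1 ?_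
    rintro ⟨x, hx⟩ -
    have htop : N ⊔ (S : Subgroup G) = ⊤ := R.top_of_not_le le_sup_right fun hc =>
      O.not_le_M (N := N) (fun B hB => (Setting.maxAb_le_C hB).trans hCN) (le_sup_left.trans hc)
    have h1 : N ≤ (Subgroup.normalClosure (C.subgroupOf N : Set N)).map N.subtype := by
      refine (Subgroup.closure_le _).2 fun w hw => ?_
      obtain ⟨c, hc, hcw⟩ := Group.mem_conjugatesOfSet_iff.1 hw
      obtain ⟨g, rfl⟩ := isConj_iff.1 hcw
      obtain ⟨m, hm, s, hs, rfl⟩ := Subgroup.mem_sup_of_normal_left.1 (htop.ge (Subgroup.mem_top g))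
      have hsc : s * c * s⁻¹ ∈ C := by
        refine ⟨mul_mem (mul_mem hs hc.1) ((S : Subgroup G).inv_mem hs), Subgroup.mem_centralizer_iff.2 fun z hz => ?_⟩
        have hz' : s⁻¹ * z * s ∈ centerThompsonAOf (S : Subgroup G) := by
          simpa using (Subgroup.mem_normalizer_iff.1 (inv_mem (S_le_normalizer_Z hs)) z).1 hz
        have h2 := (show Commute (s⁻¹ * z * s) c from
          Subgroup.mem_centralizer_iff.1 hc.2 _ hz').map (MulAut.conj s).toMonoidHom
        simpa [Commute, SemiconjBy, mul_assoc] using h2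
      have hmem : (⟨s * c * s⁻¹, hCN hsc⟩ : N) ∈ C.subgroupOf N := hsc
      refine ⟨⟨m, hm⟩ * ⟨s * c * s⁻¹, hCN hsc⟩ * ⟨m, hm⟩⁻¹,
        Subgroup.Normal.conj_mem inferInstance _ (Subgroup.subset_normalClosure hmem) _, ?_⟩
      show m * (s * c * s⁻¹) * m⁻¹ = m * s * c * (m * s)⁻¹
      group
    obtain ⟨w, hw, e⟩ := h1 hx
    have e' : w = ⟨x, hx⟩ := Subtype.ext e
    exact e' ▸ hw

end Offending

end Cfsg.Agent.PushUp
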