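import Cfsg.Agent.Lib.PushUp.RankOneStructure
import Cfsg.Agent.Lib.PushUp.BTwoClass

/-!
# Pushing up over `L₂(pⁿ)`: class, exponent and chief factors
-/

set_option autoImplicit false

open scoped commutatorElement

namespace Cfsg.Agent.PushUp

open Cfsg Cfsg.Agent.Small

universe u w

variable {G : Type u} [Group G] [Finite G]

/-- Some automorphic image of `Y` leaves the core, or some automorphism moves `V` out of it. -/
theorem PUp.mate_or_moves {S Q Y M : Subgroup G} {p q : ℕ} (h : PUp S Q Y M p q) :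
    (∃ σ, ¬ mate S Y σ ≤ Q) ∨
      (∀ σ, mate S Y σ ≤ Q) ∧ ∃ σ, ¬ mate S (nbV S Y) σ ≤ Q := by
  classical
  by_cases h1 : ∃ σ, ¬ mate S Y σ ≤ Q
  · exact Or.inl h1
  simp only [not_exists, not_not] at h1
  obtain ⟨k₀, d₀, hk₀, hd₀⟩ := h.exists_path
  have hex : ∃ k, ∃ d : ℕ → Dart S, 1 ≤ k ∧ Chain k d ∧ ¬ (d 0).src Y ≤ (d (k - 1)).tgt Q := ⟨k₀, d₀, hk₀, hd₀⟩
  set b := Nat.find hex with hb
  obtain ⟨d, hk, hd, hnle⟩ := Nat.find_spec hex
  have hmin' : ShortPaths Q Y b S := fun k hk1 hkb d' hd' =>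
    by_contra fun hc => Nat.find_min hex hkb ⟨d', hk1, hd', hc⟩
  rcases (show b = 1 ∨ b = 2 ∨ 3 ≤ b by change 1 ≤ b at hk; omega) with hb1 | hb2 | hb3
  · rw [← hb, hb1] at hnle
    refine (hnle ?_).elim
    rw [Dart.src, map_emb_mate _ (d 0).r (d 0).l h.Y_S]
    exact Subgroup.map_mono (h1 _)
  · have hmin2 : ShortPaths Q Y 2 S := hb2 ▸ hmin'
    rw [← hb, hb2] at hd hnle
    exact Or.inr ⟨h1, h.exists_moves hmin2 ⟨hd, hnle⟩⟩
  · exact (h.no_long hmin' (by omega) hb3 ⟨hd, hnle⟩).elim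

theorem exponent_eq_prime_pow {H : Type*} [Group H] {p k : ℕ} (hp : p.Prime) (h : ∀ x : H, x ^ p ^ (k + 1) = 1)
    (hne : ∃ x : H, x ^ p ^ k ≠ 1) : Monoid.exponent H = p ^ (k + 1) := by
  obtain ⟨i, hi, e⟩ := (Nat.dvd_prime_pow hp).1 (Monoid.exponent_dvd_of_forall_pow_eq_one h)
  rw [e]
  congr 1
  by_contra hik
  obtain ⟨x, hx⟩ := hne
  refine hx ?_
  obtain ⟨j, hj⟩ := pow_dvd_pow p (show i ≤ k by omega)
  rw [hj, pow_mul, ← e, Monoid.pow_exponent_eq_one, one_pow]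

variable {p n : ℕ} [hp : Fact p.Prime] {S : Sylow p G} {F : Type} [Field F]
  [Fintype F] {φ : G →* Matrix.ProjectiveSpecialLinearGroup (Fin 2) F}

/-- The frame at a moving automorphism. -/
theorem Setting.two_frame (R : Setting p n S F φ)
    (hd : ∀ T : Subgroup ↥(S : Subgroup G), T ≠ ⊥ → T.Characteristic →
      ¬ (T.map (S : Subgroup G).subtype).Normal)
    {g s₁ : G} {RY : G →* Matrix.SpecialLinearGroup (Fin 2) F} {cY : G → Fin 2 → F}
    (hg : g ∉ R.M) (hs₁ : s₁ ∈ (S : Subgroup G)) (hs₁Q : s₁ ∉ pCore p G)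
    (hRY : Coord (S : Subgroup G) (pCore p G) R.M g s₁ RY)
    (hcY : NatSect (yS (S : Subgroup G)) (cenIn (yS (S : Subgroup G))) RY cY) (hker : RY.ker = pCore p G)
    (hp2 : p ≠ 2) (hml : ∀ τ, mate (S : Subgroup G) (yS (S : Subgroup G)) τ ≤ pCore p G)
    {σ : MulAut ↥(S : Subgroup G)}
    (hσ : ¬ mate (S : Subgroup G) (nbV (S : Subgroup G) (yS (S : Subgroup G))) σ ≤ pCore p G) :
    ∃ (E N : Subgroup G) (RE : G →* Matrix.SpecialLinearGroup (Fin 2) F) (cE : G → Fin 2 → F) (z : G),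
      TwoLevel (S : Subgroup G) (pCore p G) (yS (S : Subgroup G)) R.M (p ^ n)
        (nbV (S : Subgroup G) (yS (S : Subgroup G))) E
        (nbV (S : Subgroup G) (yS (S : Subgroup G)) ⊓ mate (S : Subgroup G) (pCore p G) σ) N ∧
      Coord (S : Subgroup G) (pCore p G) R.M g s₁ RE ∧
      NatSect (nbV (S : Subgroup G) (yS (S : Subgroup G))) E RE cE ∧
      TwoFrame (S : Subgroup G) (pCore p G) (yS (S : Subgroup G)) R.M p (p ^ n) g s₁ σ E RY RE cY cE z := by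
  set Q := pCore p G
  set Y := yS (S : Subgroup G)
  have h : PUp (S : Subgroup G) Q Y R.M p (p ^ n) := R.pUp hd
  haveI := h.Qn; haveI := h.Yn
  have hMS := hRY.le_normalizer hker h.Q_le
  have hHS := NatSect.center_of_coord h.toPUp0 hRY hcY hs₁ hs₁Q
  obtain ⟨E, N, L⟩ := h.moves_level hml hMS hHS hσ
  obtain ⟨RE, cE, hRE, hcE⟩ := L.sect.exists_nat h.toPUp0 hg hs₁ hs₁Q φ.normal_ker R.ker_le (R.torus hg) F R.hF
  obtain ⟨x, hx⟩ := hRY.surj ⟨!![(-1 : F), 0; 0, -1], by simp [Matrix.det_fin_two]⟩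
  haveI := L.Nn
  obtain ⟨z, hz, w, hw, rfl⟩ := Subgroup.mem_sup_of_normal_left.1 (L.N_sup.ge (Subgroup.mem_top x))
  rw [map_mul, hRY.Q_one w hw, mul_one] at hx
  have T : TwoFrame (S : Subgroup G) Q Y R.M p (p ^ n) g s₁ σ E RY RE cY cE z :=
    { h := h
      odd := hp.out.odd_of_ne_two hp2
      char := by
        have h1 : ((p ^ n : ℕ) : F) = 0 := R.hF ▸ FiniteField.cast_card_eq_zero F
        rw [Nat.cast_pow] at h1
        exact eq_zero_of_pow_eq_zero h1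
      hml := hml
      hHS := hHS
      hVV := h.nbV_comm hml hMS
      hs₁ := hs₁
      hs₁Q := hs₁Q
      coord := hRY
      hker := hker
      hcY := hcY
      coordE := hRE
      hcE := hcE
      hθ := hRY.rigid hRE hs₁ fun H hSH hcj => h.top H hSH fun hle => h.conj_S_not_le hg (by
        rintro _ ⟨s, hs, rfl⟩
        exact hle (hcj s hs))
      sect := L.sect
      Y_le := L.Y_le
      E_cent := L.E_cent
      moves := hσ
      moves' := h.moves_inv hml hσ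
      F1_inv := h.moves_fix_eq hml hHS L.sect L.Y_le (h.moves_inv hml hσ)
      hz := by
        rw [hx]
        ext i j
        fin_cases i <;> fin_cases j <;> simp
      hzV := fun x hx => L.N_comm z hz x hx }
  exact ⟨E, N, RE, cE, z, L, hRE, hcE, T⟩

/-- In characteristic at least five some automorphic image of `Y` leaves the core. -/
theorem Setting.exists_mate_of_five_le (R : Setting p n S F φ) (hp5 : 5 ≤ p)
    (hd : ∀ T : Subgroup ↥(S : Subgroup G), T ≠ ⊥ → T.Characteristic →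
      ¬ (T.map (S : Subgroup G).subtype).Normal) :
    ∃ σ, ¬ mate (S : Subgroup G) (yS (S : Subgroup G)) σ ≤ pCore p G := by
  obtain ⟨⟨g, s₁, RY, cY, hg, hs₁, hs₁Q, hRY, hcY, hker⟩, -⟩ := R.rank_one_core hd
  rcases (R.pUp hd).mate_or_moves with h1 | ⟨hml, σ, hσ⟩
  · exact h1
  · obtain ⟨E, N, RE, cE, z, -, -, -, T⟩ := R.two_frame hd hg hs₁ hs₁Q hRY hcY hker (by omega) hml hσ
    have := T.p_eq_three
    omega

/-- The class, the exponent, and the noncentral chief factors below the core. -/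
theorem Setting.rank_one_class (R : Setting p n S F φ)
    (hd : ∀ T : Subgroup ↥(S : Subgroup G), T ≠ ⊥ → T.Characteristic →
      ¬ (T.map (S : Subgroup G).subtype).Normal) :
    ((S : Subgroup G).lowerCentralSeries 2 = ⊥ ∧ (S : Subgroup G).lowerCentralSeries 1 ≠ ⊥ ∧
      (p = 2 → Monoid.exponent ↥(S : Subgroup G) = 4) ∧ (p ≠ 2 → Monoid.exponent ↥(S : Subgroup G) = p) ∧
      (∃ U W : Subgroup G, W ≤ U ∧ U ≤ pCore p G ∧ IsChiefFactor U W ∧ ¬ ⁅U, (⊤ : Subgroup G)⁆ ≤ W ∧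
        (∃ k : ℕ, iterCommutator W ⊤ k = ⊥) ∧ (∃ k : ℕ, iterCommutator (pCore p G) ⊤ k ≤ U))) ∨
    (p = 3 ∧ (S : Subgroup G).lowerCentralSeries 3 = ⊥ ∧ (S : Subgroup G).lowerCentralSeries 2 ≠ ⊥ ∧
      Monoid.exponent ↥(S : Subgroup G) = 9 ∧
      (∃ U₁ W₁ U₂ W₂ : Subgroup G, W₁ ≤ U₁ ∧ U₁ ≤ W₂ ∧ W₂ ≤ U₂ ∧ U₂ ≤ pCore p G ∧
        IsChiefFactor U₁ W₁ ∧ IsChiefFactor U₂ W₂ ∧ ¬ ⁅U₁, (⊤ : Subgroup G)⁆ ≤ W₁ ∧
        ¬ ⁅U₂, (⊤ : Subgroup G)⁆ ≤ W₂ ∧ (∃ k : ℕ, iterCommutator W₁ ⊤ k = ⊥) ∧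
        (∃ k : ℕ, iterCommutator W₂ ⊤ k ≤ U₁) ∧ (∃ k : ℕ, iterCommutator (pCore p G) ⊤ k ≤ U₂))) := by
  obtain ⟨⟨g, s₁, RY, cY, hg, hs₁, hs₁Q, hRY, hcY, hker⟩, -⟩ := R.rank_one_core hd
  set SS := (S : Subgroup G)
  set Q := pCore p G
  set Y := yS SS
  have h : PUp SS Q Y R.M p (p ^ n) := R.pUp hd
  haveI := h.Qn; haveI := h.Yn
  have hMS := hRY.le_normalizer hker h.Q_le
  have hHS := NatSect.center_of_coord h.toPUp0 hRY hcY hs₁ hs₁Q
  have hYC : IsChiefFactor Y (cenIn Y) := hcY.isChiefFactor hRY.surj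
  have hYne : ¬ ⁅Y, (⊤ : Subgroup G)⁆ ≤ cenIn Y := fun hle => h.Y_not_le_zS fun y hy =>
    h.cent s₁ hs₁ hs₁Q y hy (hle (Subgroup.commutator_mem_commutator hy (Subgroup.mem_top _)))
  have hC1 : ∃ k : ℕ, iterCommutator (cenIn Y) ⊤ k = ⊥ := ⟨1, le_bot_iff.1
    (comm_bot_of (fun x (hx : x ∈ cenIn Y) y _ => (Subgroup.mem_center_iff.1 hx.2 y).symm) ⊥)⟩
  rcases h.mate_or_moves with ⟨σ, hσ⟩ | ⟨hml, σ, hσ⟩
  · obtain ⟨hc2, hc1, hp2, hodd⟩ := h.one_class hσ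
    obtain ⟨-, N, -, hNQ, hNY⟩ := h.mate_facts hσ
    have hpne : ∃ x : ↥SS, x ^ p ^ 0 ≠ 1 := ⟨⟨s₁, hs₁⟩, fun he => hs₁Q (by
      rw [pow_zero, pow_one] at he
      rw [show s₁ = 1 from congrArg Subtype.val he]
      exact one_mem _)⟩
    refine Or.inl ⟨hc2, hc1, fun e => ?_, fun e => ?_, Y, cenIn Y, inf_le_left, h.Y_le, hYC, hYne, hC1, 2, ?_⟩
    · subst e
      refine exponent_eq_prime_pow (k := 1) hp.out (fun x => Subtype.ext (hp2 rfl x x.2)) ?_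
      by_contra hall
      simp only [not_exists, not_not] at hall
      refine hc1 (le_bot_iff.1 (comm_bot_of (fun a ha b hb => ?_) ⊥))
      have hinv : ∀ x : ↥SS, x⁻¹ = x := fun x => inv_eq_of_mul_eq_one_right (by rw [← sq]; exact hall x)
      have h2 : (⟨a, ha⟩ * ⟨b, hb⟩ : ↥SS) = ⟨b, hb⟩ * ⟨a, ha⟩ := by
        conv_lhs => rw [← hinv (⟨a, ha⟩ * ⟨b, hb⟩), mul_inv_rev, hinv, hinv]
      exact congrArg Subtype.val h2
    · rw [← pow_one p]
      exact exponent_eq_prime_pow (k := 0) hp.out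
        (fun x => Subtype.ext (by simpa using hodd e x x.2)) hpne
    · refine (iterCommutator_le hNQ hNY 2).trans (sup_le le_rfl ?_)
      exact ((Subgroup.lowerCentralSeries_mono 2 h.Q_le).trans hc2.le).trans bot_le
  · have hp2 : p ≠ 2 := by
      intro e
      subst e
      obtain ⟨τ, hτ⟩ := h.exists_mate_not_le hMS
      exact hτ (hml τ)
    obtain ⟨E, N, RE, cE, z, L, hRE, hcE, T⟩ := R.two_frame hd hg hs₁ hs₁Q hRY hcY hker hp2 hml hσ
    have hp3 := T.p_eq_three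
    obtain ⟨hc3, hc2⟩ := T.class_three
    obtain ⟨h9, s, hs, hs3⟩ := T.exponent_nine hp3
    have hVne : ¬ ⁅nbV SS Y, (⊤ : Subgroup G)⁆ ≤ E := fun hle => by
      have h1 : nbV SS Y ≤ nbV SS Y ⊓ mate SS Q σ := fun v hv => L.sect.free s₁ hs₁ hs₁Q v hv
        (hle (Subgroup.commutator_mem_commutator hv (Subgroup.mem_top _)))
      have h2 := L.sect.idxW
      rw [Subgroup.relIndex_eq_one.2 h1] at h2
      have := h.two_le
      omega
    refine Or.inr ⟨hp3, hc3, hc2, ?_, Y, cenIn Y, nbV SS Y, E, inf_le_left, L.Y_le,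
      L.sect.hCA.trans inf_le_left, L.V_le, hYC, hcE.isChiefFactor hRE.surj, hYne, hVne, hC1, ⟨1, ?_⟩, 3, ?_⟩
    · show Monoid.exponent ↥SS = 3 ^ 2
      refine exponent_eq_prime_pow (k := 1) Nat.prime_three (fun x => Subtype.ext ?_) ⟨⟨s, hs⟩, fun he => hs3 ?_⟩
      · simpa using h9 x x.2
      · simpa using congrArg Subtype.val he
    · exact Subgroup.commutator_le.2 fun e he x _ => L.E_cent e he x
    · haveI := L.sect.Wn
      refine (iterCommutator_le L.N_sup L.N_comm 3).trans (sup_le le_rfl ?_)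
      exact ((Subgroup.lowerCentralSeries_mono 3 h.Q_le).trans hc3.le).trans bot_le

end Cfsg.Agent.PushUp
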