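import Cfsg.Agent.Lib.PushUp.BEqOne
import Cfsg.Agent.Lib.Fusion.NPC

/-!
# Pushing up over `L₂(2ⁿ)`: the structure of the module
-/

set_option autoImplicit false

open scoped commutatorElement

namespace Cfsg.Agent.PushUp

open Cfsg Cfsg.Agent.Fusion

universe u

variable {G : Type u} [Group G] {S Q Y M : Subgroup G} {p q : ℕ}

/-- An element of odd order fixes what it moves by an involution commuting with it. -/
theorem odd_fix {w x c : G} (hx : (orderOf x).Coprime 2) (hc : ⁅w, x⁆ = c) (hcx : Commute c x)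
    (hc2 : c * c = 1) : c = 1 := by
  have h1 : w * x * w⁻¹ = c * x := by rw [← hc, commutatorElement_def]; group
  have h2 : c ^ orderOf x = 1 := by
    have h3 := congrArg (· ^ orderOf x) h1
    simp only [conj_pow, pow_orderOf_eq_one, mul_one, mul_inv_cancel, hcx.mul_pow] at h3
    exact h3.symm
  have h4 : orderOf c ∣ 2 := orderOf_dvd_of_pow_eq_one (by rw [pow_two, hc2])
  exact orderOf_eq_one_iff.1 (Nat.eq_one_of_dvd_coprimes hx (orderOf_dvd_of_pow_eq_one h2) h4)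

namespace PUp0

variable [Finite G] (h : PUp0 S Q Y M p q)
include h

omit [Finite G] in
theorem cenIn_le : cenIn Y ≤ zS S := fun _ hc =>
  ⟨h.Q_le (h.Y_le hc.1), Subgroup.mem_centralizer_iff.2 fun x _ => Subgroup.mem_center_iff.1 hc.2 x⟩

theorem exists_not_mem_M : ∃ g, g ∉ M := by
  by_contra hc
  simp only [not_exists, not_not] at hc
  exact h.M_ne (eq_top_iff.2 fun x _ => hc x)

theorem conj_S_not_le {g : G} (hg : g ∉ M) : ¬ S.map (MulAut.conj g).toMonoidHom ≤ M := fun hle => by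
  have hle' : S ≤ Q := fun s hs => by
    have := h.ti g hg _ (hle ⟨s, hs, rfl⟩) (by simpa [mul_assoc] using hs)
    simpa [mul_assoc] using h.Qn.conj_mem _ this g⁻¹
  have := h.idxS
  rw [Subgroup.relIndex_eq_one.2 hle'] at this
  have := h.two_le
  omega

/-- An element central in `S` and in a conjugate of `S` outside `M` is central. -/
theorem mem_cenIn {g z : G} (hg : g ∉ M) (hz : z ∈ zS S) (hz' : g⁻¹ * z * g ∈ zS S) : z ∈ cenIn Y := by
  refine ⟨h.Z_le hz, Subgroup.mem_center_iff.2 fun x => ?_⟩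
  have h1 : Subgroup.centralizer ({z} : Set G) = ⊤ := by
    refine h.top _ (fun s hs => Subgroup.mem_centralizer_singleton_iff.2
      (Subgroup.mem_centralizer_iff.1 hz.2 s hs)) fun hle => h.conj_S_not_le hg ?_
    rintro _ ⟨s, hs, rfl⟩
    refine hle (Subgroup.mem_centralizer_singleton_iff.2 ?_)
    have h2 := Subgroup.mem_centralizer_iff.1 hz'.2 s hs
    show g * s * g⁻¹ * z = z * (g * s * g⁻¹)
    calc g * s * g⁻¹ * z = g * (s * (g⁻¹ * z * g)) * g⁻¹ := by group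
      _ = g * (g⁻¹ * z * g * s) * g⁻¹ := by rw [h2]
      _ = z * (g * s * g⁻¹) := by group
  exact Subgroup.mem_centralizer_singleton_iff.1 (h1 ▸ Subgroup.mem_top x)

theorem cen_idx : (cenIn Y).relIndex (zS S) ≤ q := by
  obtain ⟨g, hg⟩ := h.exists_not_mem_M
  set Z' := (zS S).map (MulAut.conj g).toMonoidHom
  have hle : Z' ⊓ zS S ≤ cenIn Y := by
    rintro z ⟨⟨z', hz', rfl⟩, hz⟩
    exact h.mem_cenIn hg hz (by simpa [mul_assoc] using hz')
  calc (cenIn Y).relIndex (zS S) ≤ (Z' ⊓ zS S).relIndex (zS S) :=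
        Subgroup.relIndex_le_of_le_left hle (relIndex_ne_zero' _ _)
    _ = Z'.relIndex (zS S) := Subgroup.inf_relIndex_right _ _
    _ ≤ Z'.relIndex Y := Subgroup.relIndex_le_of_le_right h.Z_le (relIndex_ne_zero' _ _)
    _ = q := (conj_idx h.Yn g).trans h.idxY

end PUp0

namespace PUp

variable [Finite G] (h : PUp S Q Y M p q)
include h

/-- If an automorphic image of `Y` lies outside the core, then `S` centralizes `Y` modulo `Z(S)` and a normal
subgroup covering `G/Q` centralizes `Q/Y`. -/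
theorem mate_facts {σ : MulAut ↥S} (hσ : ¬ mate S Y σ ≤ Q) :
    (∀ y ∈ Y, ∀ s ∈ S, ⁅y, s⁆ ∈ zS S) ∧
      ∃ N : Subgroup G, N.Normal ∧ N ⊔ Q = ⊤ ∧ ∀ l ∈ N, ∀ w ∈ Q, ⁅l, w⁆ ∈ Y := by
  haveI := h.Qn
  haveI := h.Yn
  set X := mate S Y σ
  have hXS : X ≤ S := Subgroup.map_subtype_le _
  obtain ⟨x0, hx0, hx0Q⟩ := SetLike.not_le_iff_exists.1 hσ
  have hYab : ∀ a ∈ Y, ∀ b ∈ Y, a * b = b * a := fun a ha b hb =>
    (Subgroup.mem_centralizer_iff.1 (h.Q_cent (h.Y_le ha)) b hb).symm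
  have hXn : ∀ s ∈ S, ∀ x ∈ X, s * x * s⁻¹ ∈ X := by
    rintro s hs _ ⟨_, ⟨u, hu, rfl⟩, rfl⟩
    refine ⟨σ (σ.symm ⟨s, hs⟩ * u * (σ.symm ⟨s, hs⟩)⁻¹), ⟨_, h.Yn.conj_mem _ hu _, rfl⟩, ?_⟩
    simp
  have hXab : ∀ a ∈ X, ∀ b ∈ X, a * b = b * a := by
    rintro _ ⟨_, ⟨a, ha, rfl⟩, rfl⟩ _ ⟨_, ⟨b, hb, rfl⟩, rfl⟩
    have h1 : a * b = b * a := Subtype.ext (hYab _ ha _ hb)
    have h2 := congrArg σ h1
    rw [map_mul, map_mul] at h2
    exact congrArg Subtype.val h2
  -- commutators with `X` lie in `Z(S)`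
  have hYX : ∀ y ∈ Y, ∀ x ∈ X, ⁅y, x⁆ ∈ zS S := by
    intro y hy x hx
    have hcY : ⁅y, x⁆ ∈ Y := by
      rw [commutatorElement_def, mul_assoc y, mul_assoc y]
      exact mul_mem hy (h.Yn.conj_mem _ (inv_mem hy) x)
    have hcX : ⁅y, x⁆ ∈ X := by
      rw [commutatorElement_def]
      exact mul_mem (hXn y (h.Q_le (h.Y_le hy)) x hx) (inv_mem hx)
    refine h.cent x0 (hXS hx0) hx0Q _ hcY ?_
    rw [commutatorElement_eq_one_iff_mul_comm.2 (hXab _ hcX _ hx0)]
    exact one_mem _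
  -- the mate of the inverse lies outside the core
  obtain ⟨x1, hx1, hx1Q⟩ : ∃ x ∈ mate S Y σ⁻¹, x ∉ Q := by
    by_contra hcon
    simp only [not_exists, not_and, not_not] at hcon
    have hle : Y ≤ zS S := fun y hy => by
      refine h.cent x0 (hXS hx0) hx0Q y hy ?_
      obtain ⟨_, ⟨u, hu, rfl⟩, rfl⟩ := hx0
      set y' := σ⁻¹ (⟨y, h.Q_le (h.Y_le hy)⟩ : ↥S) with hy'
      have h1 : (y' : G) ∈ Q := hcon _ ⟨y', ⟨_, hy, rfl⟩, rfl⟩
      have h2 : u * y' = y' * u := Subtype.ext (Subgroup.mem_centralizer_iff.1 (h.Q_cent h1) (u : G) hu)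
      have h3 := congrArg σ h2
      rw [map_mul, map_mul, hy', MulAut.apply_inv_self] at h3
      rw [commutatorElement_eq_one_iff_mul_comm.2]
      · exact one_mem _
      · exact (congrArg Subtype.val h3).symm
    have h1 := h.idxY
    rw [Subgroup.relIndex_eq_one.2 hle] at h1
    have := h.two_le
    omega
  have hXQ : X ⊓ Q ≤ zS S := by
    rintro _ ⟨⟨_, ⟨u, hu, rfl⟩, rfl⟩, hxQ⟩
    refine h.Z_char σ u (h.cent _ (Subgroup.map_subtype_le _ hx1) hx1Q (u : G) hu ?_)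
    obtain ⟨_, ⟨v, hv, rfl⟩, rfl⟩ := hx1
    have h1 : v * σ u = σ u * v := Subtype.ext (Subgroup.mem_centralizer_iff.1 (h.Q_cent hxQ) (v : G) hv)
    have h2 := congrArg σ.symm h1
    rw [map_mul, map_mul, σ.symm_apply_apply] at h2
    rw [commutatorElement_eq_one_iff_mul_comm.2]
    · exact one_mem _
    · exact (congrArg Subtype.val h2).symm
  have hZX : zS S ≤ X := (mate_eq_of_char h.Z_char inf_le_left σ).ge.trans (mate_mono h.Z_le σ)
  have hsup : X ⊔ Q = S := by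
    refine le_antisymm (sup_le hXS h.Q_le) ?_
    have hi : Q.relIndex X = q := by
      rw [← Subgroup.inf_relIndex_right Q X,
        le_antisymm (inf_comm Q X ▸ hXQ) (le_inf (h.Z_le.trans h.Y_le) hZX)]
      exact (congrArg (fun Z : Subgroup G => Z.relIndex X) (mate_eq_of_char h.Z_char inf_le_left σ).symm).trans
        ((mate_relIndex (h.Y_le.trans h.Q_le) σ).trans h.idxY)
    have h1 := Subgroup.relIndex_mul_relIndex Q (X ⊔ Q) S le_sup_right (sup_le hXS h.Q_le)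
    rw [Subgroup.relIndex_sup_right, hi, h.idxS] at h1
    refine Subgroup.relIndex_eq_one.1 ?_
    have := h.two_le
    exact (mul_eq_left₀ (by omega)).1 h1
  have hHS : ∀ y ∈ Y, ∀ s ∈ S, ⁅y, s⁆ ∈ zS S := by
    intro y hy s hs
    rw [← hsup] at hs
    obtain ⟨x, hx, w, hw, rfl⟩ := Subgroup.mem_sup_of_normal_right.1 hs
    have hyw : y * w = w * y := Subgroup.mem_centralizer_iff.1 (h.Q_cent hw) y hy
    rw [show ⁅y, x * w⁆ = ⁅y, x⁆ by
      rw [commutatorElement_def, commutatorElement_def, mul_inv_rev,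
        show y * (x * w) * y⁻¹ = y * x * (w * y⁻¹) by group,
        show w * y⁻¹ = y⁻¹ * w from ((show Commute y w from hyw).inv_left.eq).symm]
      group]
    exact hYX y hy x hx
  refine ⟨hHS, Subgroup.normalClosure (X : Set G), inferInstance, ?_, ?_⟩
  · set H := Subgroup.normalClosure (X : Set G) ⊔ Q
    have hSH : S ≤ H := hsup.ge.trans (sup_le_sup_right Subgroup.le_normalClosure _)
    refine h.top H hSH fun hHM => h.M_ne (eq_top_iff.2 fun g _ => by_contra fun hg => ?_)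
    have hle : S ≤ Q := fun s hs => by
      have := h.ti g hg _ (hHM ((inferInstance : H.Normal).conj_mem s (hSH hs) g)) (by simpa [mul_assoc] using hs)
      have := h.Qn.conj_mem _ this g⁻¹
      simpa [mul_assoc] using this
    have := h.idxS
    rw [Subgroup.relIndex_eq_one.2 hle] at this
    have := h.two_le
    omega
  · have hXK : Subgroup.normalClosure (X : Set G) ≤ modCent Y Q := by
      haveI : (Q.map (QuotientGroup.mk' Y)).Normal :=
        h.Qn.map _ (QuotientGroup.mk'_surjective _)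
      refine Subgroup.normalClosure_le_normal ?_
      rintro _ ⟨_, ⟨u, hu, rfl⟩, rfl⟩
      refine mem_modCent.2 fun w hw => ?_
      have h1 : (⁅u, σ⁻¹ ⟨w, h.Q_le hw⟩⁆ : ↥S).1 ∈ zS S := hHS _ hu _ (σ⁻¹ ⟨w, h.Q_le hw⟩).2
      have h2 := h.Z_char σ _ h1
      rw [map_commutatorElement, MulAut.apply_inv_self] at h2
      exact h.Z_le h2
    exact fun l hl w hw => mem_modCent.1 (hXK hl) w hw

/-- A subgroup of `Y` which is not central, normal, and contains the centre, is `Y`. -/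
theorem le_of_normal (hY : Y ≤ Subgroup.normalClosure (zS S : Set G))
    (hHS : ∀ y ∈ Y, ∀ s ∈ S, ⁅y, s⁆ ∈ zS S) {W : Subgroup G} (hW : W.Normal) (hWY : W ≤ Y)
    (hCW : cenIn Y ≤ W) (hne : ¬ W ≤ cenIn Y) : Y ≤ W := by
  haveI hCn : (cenIn Y).Normal := ⟨fun x hx g => by
    rwa [Subgroup.mem_center_iff.1 hx.2 g, mul_inv_cancel_right]⟩
  obtain ⟨w, hw, hwZ⟩ : ∃ w ∈ W, w ∉ zS S := by
    by_contra hcon
    simp only [not_exists, not_and, not_not] at hcon
    obtain ⟨g, hg⟩ := h.exists_not_mem_M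
    exact hne fun z hz => h.mem_cenIn hg (hcon z hz) (hcon _ (by simpa using hW.conj_mem z hz g⁻¹))
  set π := QuotientGroup.mk' (cenIn Y)
  let f : ↥S →* G ⧸ cenIn Y :=
    { toFun := fun s => π ⁅w, (s : G)⁆
      map_one' := by simp
      map_mul' := fun s t => by
        rw [← map_mul]
        congr 1
        have h1 := Subgroup.mem_centralizer_iff.1 (hHS w (hWY hw) t t.2).2 s s.2
        calc ⁅w, ((s * t : ↥S) : G)⁆ = ⁅w, (s : G)⁆ * ((s : G) * ⁅w, (t : G)⁆) * (s : G)⁻¹ := by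
              simp only [Subgroup.coe_mul, commutatorElement_def]; group
          _ = ⁅w, (s : G)⁆ * ⁅w, (t : G)⁆ := by rw [h1]; group }
  have hker : f.ker = Q.subgroupOf S := by
    ext s
    show π ⁅w, (s : G)⁆ = 1 ↔ (s : G) ∈ Q
    rw [QuotientGroup.mk'_apply, QuotientGroup.eq_one_iff]
    refine ⟨fun hs => by_contra fun hsQ => hwZ (h.cent s s.2 hsQ w (hWY hw) hs), fun hs => ?_⟩
    rw [commutatorElement_eq_one_iff_mul_comm.2 (Subgroup.mem_centralizer_iff.1 (h.Q_cent hs) w (hWY hw))]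
    exact one_mem _
  have hr1 : f.range ≤ (zS S).map π := by
    rintro _ ⟨s, rfl⟩
    exact ⟨_, hHS w (hWY hw) s s.2, rfl⟩
  have hr2 : Nat.card ((zS S).map π) ≤ Nat.card f.range := by
    rw [← Subgroup.index_ker, hker, show (Q.subgroupOf S).index = q from h.idxS]
    have h2 := Subgroup.relIndex_ker (zS S) π
    rw [QuotientGroup.ker_mk'] at h2
    exact h2 ▸ h.cen_idx
  have heq := Subgroup.eq_of_le_of_card_ge hr1 hr2
  have hZW : zS S ≤ W := fun z hz => by
    obtain ⟨s, hs⟩ := heq.ge ⟨z, hz, rfl⟩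
    change π ⁅w, (s : G)⁆ = π z at hs
    rw [QuotientGroup.mk'_eq_mk'] at hs
    obtain ⟨c, hc, rfl⟩ := hs
    refine mul_mem ?_ (hCW hc)
    rw [commutatorElement_def, mul_assoc w, mul_assoc w]
    exact mul_mem hw (hW.conj_mem _ (inv_mem hw) _)
  haveI := hW
  exact hY.trans (Subgroup.normalClosure_le_normal hZW)

omit h in
/-- In characteristic two such an automorphism exists. -/
theorem rank_one_facts (h : PUp S Q Y M 2 q) (hMS : M ≤ Subgroup.normalizer (S : Set G)) :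
    (∀ y ∈ Y, ∀ s ∈ S, ⁅y, s⁆ ∈ zS S) ∧
      ∃ N : Subgroup G, N.Normal ∧ N ⊔ Q = ⊤ ∧ ∀ l ∈ N, ∀ w ∈ Q, ⁅l, w⁆ ∈ Y := by
  obtain ⟨σ, hσ⟩ := h.exists_mate_not_le hMS
  exact h.mate_facts hσ

end PUp

end Cfsg.Agent.PushUp
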