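import Cfsg.Agent.Lib.LocalEven.NaturalSL2
import Mathlib.RingTheory.LittleWedderburn
import Mathlib.Algebra.Ring.Subring.Basic

/-!
# Recognition of the natural `SL₂(q)`-module

A finite group acts on an abelian group of order `q²`; a subgroup `S` of index `q` over the kernel fixes a
subgroup `A` of order `q`, and translates of `A` outside the stabilizer `M` meet `A` trivially. Then the translates
form a spread, `S` consists of elations, and the slope set is a field.
-/

set_option autoImplicit false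

namespace Cfsg.Agent.PushUp

open Cfsg.Agent

universe u v

/-- The data of an action with a spread. -/
structure SpreadAct {G : Type u} [Group G] {V : Type v} [AddCommGroup V] (S Q M : Subgroup G)
    (ρ : G →* AddMonoid.End V) (A : AddSubgroup V) (q : ℕ) : Prop where
  two_le : 2 ≤ q
  Qn : Q.Normal
  Q_le : Q ≤ S
  idxS : Q.relIndex S = q
  S_le : S ≤ M
  M_ne : M ≠ ⊤
  top : ∀ H : Subgroup G, S ≤ H → ¬ H ≤ M → H = ⊤
  tiS : ∀ g ∉ M, ∀ x ∈ M, g⁻¹ * x * g ∈ S → x ∈ Q
  Q_one : ∀ x ∈ Q, ρ x = 1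
  cardA : Nat.card A = q
  cardV : Nat.card V = q * q
  fix : ∀ s ∈ S, ∀ a ∈ A, ρ s a = a
  free : ∀ s ∈ S, s ∉ Q → ∀ v, ρ s v = v → v ∈ A
  ti : ∀ g ∉ M, ∀ a ∈ A, ρ g a ∈ A → a = 0

variable {G : Type u} [Group G] {V : Type v} [AddCommGroup V] {S Q M : Subgroup G}
  {ρ : G →* AddMonoid.End V} {A : AddSubgroup V} {q : ℕ}

theorem rho_mul (g h : G) (v : V) : ρ (g * h) v = ρ g (ρ h v) := by rw [map_mul]; rfl

theorem rho_one (v : V) : ρ 1 v = v := by rw [map_one]; rfl

theorem rho_inv_self (g : G) (v : V) : ρ g⁻¹ (ρ g v) = v := by rw [← rho_mul, inv_mul_cancel, rho_one]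

theorem rho_self_inv (g : G) (v : V) : ρ g (ρ g⁻¹ v) = v := by rw [← rho_mul, mul_inv_cancel, rho_one]

theorem rho_injective (g : G) : Function.Injective (ρ g) := fun a b h => by
  rw [← rho_inv_self (ρ := ρ) g a, h, rho_inv_self]

namespace SpreadAct

variable (D : SpreadAct S Q M ρ A q) [Finite G] [Finite V]
include D

omit [Finite G] [Finite V] in
theorem not_mem_conj {g : G} (hg : g ∉ M) {s : G} (hs : s ∈ S) (hsQ : s ∉ Q) : g * s * g⁻¹ ∉ M := fun hc => by
  have h1 := D.Qn.conj_mem _ (D.tiS g hg _ hc (by simpa [mul_assoc] using hs)) g⁻¹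
  exact hsQ (by simpa [mul_assoc] using h1)

omit [Finite G] [Finite V] in
theorem exists_notQ : ∃ s ∈ S, s ∉ Q := by
  by_contra hcon
  simp only [not_exists, not_and, not_not] at hcon
  have := D.idxS
  rw [Subgroup.relIndex_eq_one.2 (show S ≤ Q from hcon)] at this
  have := D.two_le
  omega

omit [Finite G] [Finite V] in
theorem gen {g : G} (hg : g ∉ M) (H : Subgroup G) (hS : S ≤ H) (hc : ∀ s ∈ S, g * s * g⁻¹ ∈ H) : H = ⊤ := by
  obtain ⟨s, hs, hsQ⟩ := D.exists_notQ
  exact D.top H hS fun hle => D.not_mem_conj hg hs hsQ (hle (hc s hs))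

omit [Finite G] [Finite V] in
theorem move_mem {g : G} (hg : g ∉ M) {s t : G} (hs : s ∈ S) (ht : t ∈ S) (hm : (s * g)⁻¹ * (t * g) ∈ M) :
    s⁻¹ * t ∈ Q := by
  by_contra hQ
  refine D.not_mem_conj (g := g⁻¹) (fun h => hg (by simpa using inv_mem h)) (mul_mem (inv_mem hs) ht) hQ ?_
  simpa [mul_assoc] using hm

/-- Every vector outside `A` lies in a translate of `A` by an element of `S g`. -/
theorem part {g : G} (hg : g ∉ M) {v : V} (hv : v ∉ A) : ∃ s ∈ S, ∃ a ∈ A, v = ρ (s * g) a := by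
  classical
  set ι := (↥S ⧸ Q.subgroupOf S) × {a : A // a ≠ 0}
  have hout : ∀ x : ι, ρ ((x.1.out : G) * g) (x.2.1 : V) ∉ A := fun x hc => by
    refine x.2.2 (Subtype.ext (D.ti _ (fun hm => hg ?_) _ x.2.1.2 hc))
    simpa using mul_mem (inv_mem (D.S_le x.1.out.2)) hm
  let f : ι → {w : V // w ∉ A} := fun x => ⟨_, hout x⟩
  have hf : Function.Injective f := by
    rintro ⟨x, a⟩ ⟨y, b⟩ h
    have h1 : ρ ((x.out : G) * g) (a.1 : V) = ρ ((y.out : G) * g) (b.1 : V) := congrArg Subtype.val h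
    have hxy : x = y := by
      by_contra hne
      refine a.2 (Subtype.ext (D.ti (((y.out : G) * g)⁻¹ * ((x.out : G) * g)) (fun hm => hne ?_) _ a.1.2 ?_))
      · rw [← QuotientGroup.out_eq' x, ← QuotientGroup.out_eq' y, eq_comm, QuotientGroup.eq]
        exact D.move_mem hg y.out.2 x.out.2 hm
      · rw [rho_mul, h1, rho_inv_self]
        exact b.1.2
    subst hxy
    exact Prod.ext rfl (Subtype.ext (Subtype.ext (rho_injective _ h1)))
  have hc1 : Nat.card {w : V // w ∉ A} = q * q - q := by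
    haveI := Fintype.ofFinite V
    rw [Nat.card_eq_fintype_card, Fintype.card_subtype_compl, ← Nat.card_eq_fintype_card,
      ← Nat.card_eq_fintype_card, D.cardV]
    exact congrArg _ D.cardA
  have hc2 : Nat.card ι = q * (q - 1) := by
    haveI := Fintype.ofFinite A
    rw [Nat.card_prod, show Nat.card (↥S ⧸ Q.subgroupOf S) = q from
      (Subgroup.index_eq_card _).symm.trans D.idxS]
    congr 1
    rw [Nat.card_eq_fintype_card, Fintype.card_subtype_compl, Fintype.card_subtype_eq,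
      ← Nat.card_eq_fintype_card, D.cardA]
  have hb : Function.Bijective f :=
    (Nat.bijective_iff_injective_and_card f).2 ⟨hf, by rw [hc1, hc2, Nat.mul_sub, mul_one]⟩
  obtain ⟨⟨x, a⟩, hx⟩ := hb.2 ⟨v, hv⟩
  exact ⟨_, x.out.2, _, a.1.2, (congrArg Subtype.val hx).symm⟩

/-- `M` is the stabilizer of `A`. -/
theorem mem_A {m : G} (hm : m ∈ M) {a : V} (ha : a ∈ A) : ρ m a ∈ A := by
  by_contra hc
  obtain ⟨g, hg⟩ : ∃ g, g ∉ M := by
    by_contra hcon
    simp only [not_exists, not_not] at hcon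
    exact D.M_ne (eq_top_iff.2 fun x _ => hcon x)
  obtain ⟨s, hs, b, hb, he⟩ := D.part hg hc
  have hne : (s * g)⁻¹ * m ∉ M := fun h => hg (by
    have h1 := mul_mem (D.S_le (inv_mem hs)) (mul_mem hm (inv_mem h))
    simpa [mul_assoc] using h1)
  have h0 := D.ti _ hne a ha (by rw [rho_mul, he, rho_inv_self]; exact hb)
  exact hc (by rw [h0, map_zero]; exact zero_mem A)

/-- An element of `S` moves every vector by an element of `A`. -/
theorem elation {s : G} (hs : s ∈ S) (v : V) : ρ s v - v ∈ A := by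
  by_cases hsQ : s ∈ Q
  · rw [D.Q_one s hsQ]
    show v - v ∈ A
    rw [sub_self]
    exact zero_mem A
  by_contra hd
  obtain ⟨g, hg⟩ : ∃ g, g ∉ M := by
    by_contra hcon
    simp only [not_exists, not_not] at hcon
    exact D.M_ne (eq_top_iff.2 fun x _ => hcon x)
  obtain ⟨t, ht, b, hb, he⟩ := D.part hg hd
  set k := t * g
  have hk : k ∉ M := fun h => hg (by simpa [k] using mul_mem (inv_mem (D.S_le ht)) h)
  -- `A` and its translate by `k` span
  let e : A × A → V := fun x => (x.1 : V) + ρ k x.2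
  have he' : Function.Bijective e := by
    refine (Nat.bijective_iff_injective_and_card e).2 ⟨fun x y h => ?_, by
      rw [Nat.card_prod, D.cardV, D.cardA]⟩
    have h1 : ρ k ((x.2 : V) - y.2) = (y.1 : V) - x.1 := by
      rw [map_sub, sub_eq_sub_iff_add_eq_add]
      calc ρ k (x.2 : V) + x.1 = e x := add_comm _ _
        _ = e y := h
        _ = _ := rfl
    have h2 := D.ti k hk _ (sub_mem x.2.2 y.2.2) (by rw [h1]; exact sub_mem y.1.2 x.1.2)
    rw [h2, map_zero, eq_comm, sub_eq_zero] at h1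
    exact Prod.ext (Subtype.ext h1.symm) (Subtype.ext (sub_eq_zero.1 h2))
  obtain ⟨⟨a, c⟩, hv⟩ := he'.2 v
  change (a : V) + ρ k c = v at hv
  have h1 : ρ (s * k) (c : V) = ρ k ((c : V) + b) := by
    rw [rho_mul, map_add, ← he, ← hv, map_add, D.fix s hs a a.2]
    abel
  have hm : k⁻¹ * (s * k) ∈ M := by
    by_contra hm
    have h0 := D.ti _ hm c c.2 (by rw [rho_mul, h1, rho_inv_self]; exact add_mem c.2 hb)
    refine hd ?_
    rw [← hv, h0, map_zero, add_zero, D.fix s hs a a.2, sub_self]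
    exact zero_mem A
  exact D.not_mem_conj (g := k⁻¹) (fun h => hk (by simpa using inv_mem h)) hs hsQ (by simpa [mul_assoc] using hm)

theorem mem_of_fixed {x : G} {a : V} (ha : a ∈ A) (ha0 : a ≠ 0) (hxa : ρ x a ∈ A) : x ∈ M :=
  by_contra fun h => ha0 (D.ti x h a ha hxa)

/-- Two translates meeting nontrivially differ by an element of `M`. -/
theorem same {g h : G} {a b : V} (ha : a ∈ A) (hb : b ∈ A) (hb0 : b ≠ 0) (he : ρ g a = ρ h b) :
    g⁻¹ * h ∈ M :=
  D.mem_of_fixed hb hb0 (by rw [rho_mul, ← he, rho_inv_self]; exact ha)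

end SpreadAct

end Cfsg.Agent.PushUp
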