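import Cfsg.Agent.Lib.PushUp.SpreadField

/-!
# The natural module on a spread
-/

set_option autoImplicit false

namespace Cfsg.Agent.PushUp

open Cfsg.Agent Cfsg.Agent.Small
open scoped commutatorElement

universe u v w

theorem commute_of_mem_closure {R : Type*} [Ring R] {s : Set R} {x : R} (hx : x ∈ Subring.closure s) {y : R}
    (h : ∀ z ∈ s, z * y = y * z) : x * y = y * x := by
  induction hx using Subring.closure_induction with
  | mem z hz => exact h z hz
  | zero => rw [zero_mul, mul_zero]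
  | one => rw [one_mul, mul_one]
  | add a b _ _ ha hb => rw [add_mul, mul_add, ha, hb]
  | neg a _ ha => rw [neg_mul, mul_neg, ha]
  | mul a b _ _ ha hb => rw [mul_assoc, hb, ← mul_assoc, ha, mul_assoc]

variable {G : Type u} [Group G] {V : Type v} [AddCommGroup V] {S Q M : Subgroup G}
  {ρ : G →* AddMonoid.End V} {A : AddSubgroup V} {q : ℕ}

/-- An isomorphism of fields transports coordinates. -/
theorem Coord.map {g s₁ : G} {F : Type w} [Field F] [Fintype F] {R : G →* Matrix.SpecialLinearGroup (Fin 2) F}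
    (hR : Coord S Q M g s₁ R) {F' : Type*} [Field F'] [Fintype F'] (e : F ≃+* F') :
    Coord S Q M g s₁ ((Matrix.SpecialLinearGroup.map (n := Fin 2) (e : F →+* F')).comp R) := by
  have hu : ∀ a, Matrix.SpecialLinearGroup.map (n := Fin 2) (e : F →+* F') (NatSL2.u a) = NatSL2.u (e a) := by
    intro a
    ext i j
    rw [Matrix.SpecialLinearGroup.map_apply_coe]
    fin_cases i <;> fin_cases j <;> simp [NatSL2.u]
  have hinj : Function.Injective (Matrix.SpecialLinearGroup.map (n := Fin 2) (e : F →+* F')) := fun a b h => by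
    ext i j
    exact e.injective (congrArg (fun m : Matrix.SpecialLinearGroup (Fin 2) F' => m.1 i j) h)
  refine ⟨fun x => ?_, fun s hs => ?_, fun a => ?_, fun s hs h => hR.ker_S s hs (hinj (h.trans (map_one _).symm)),
    fun x hx => ?_, fun x => ?_, ?_, ?_⟩
  · obtain ⟨y, hy⟩ := hR.surj (Matrix.SpecialLinearGroup.map (n := Fin 2) (e.symm : F' →+* F) x)
    refine ⟨y, ?_⟩
    show Matrix.SpecialLinearGroup.map (n := Fin 2) (e : F →+* F') (R y) = x
    rw [hy]
    ext i j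
    exact e.apply_symm_apply _
  · obtain ⟨a, ha⟩ := hR.upper s hs
    exact ⟨e a, by rw [MonoidHom.comp_apply, ha, hu]⟩
  · obtain ⟨s, hs, hsa⟩ := hR.exists_upper (e.symm a)
    exact ⟨s, hs, by rw [MonoidHom.comp_apply, hsa, hu, e.apply_symm_apply]⟩
  · rw [MonoidHom.comp_apply, hR.Q_one x hx, map_one]
  · rw [hR.mem_M]
    exact (map_eq_zero_iff e e.injective).symm
  · show e ((R g).1 0 0) = 0
    rw [hR.g00, map_zero]
  · rw [MonoidHom.comp_apply, hR.one, hu, map_one]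

namespace SpreadAct

variable (D : SpreadAct S Q M ρ A q) [Finite G] [Finite V]
include D

/-- A spread with elations and commuting slopes gives the natural module. -/
theorem exists_coord_of_comm {g : G} (hg : g ∉ M) {s₁ : G} (hs₁ : s₁ ∈ S) (hs₁Q : s₁ ∉ Q)
    (hcs : ∀ Φ : Frame (S := S) (M := M) (ρ := ρ) (A := A) g s₁, ∀ {s t : G} (hs : s ∈ S) (ht : t ∈ S),
      Φ.slope D hs * Φ.slope D ht = Φ.slope D ht * Φ.slope D hs) :
    ∃ (F : Type v) (_ : Field F) (_ : Fintype F) (R : G →* Matrix.SpecialLinearGroup (Fin 2) F)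
      (ψ : V ≃+ (Fin 2 → F)), Fintype.card F = q ∧ Coord S Q M g s₁ R ∧
        ∀ (x : G) (v : V), ψ (ρ x v) = (R x : Matrix (Fin 2) (Fin 2) F).mulVec (ψ v) := by
  classical
  obtain ⟨Φ⟩ := D.exists_frame hg hs₁ hs₁Q
  set gens : Set (AddMonoid.End A) := {f | ∃ (s : G) (hs : s ∈ S), Φ.slope D hs = f}
  have hcomm : ∀ x ∈ gens, ∀ y ∈ gens, x * y = y * x := by
    rintro _ ⟨s, hs, rfl⟩ _ ⟨t, ht, rfl⟩
    exact hcs Φ hs ht
  set F₀ := Subring.closure gens
  letI : CommRing F₀ := Subring.closureCommRingOfComm hcomm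
  have hker : ∀ r : F₀, ∀ v : A, v ≠ 0 → (r : AddMonoid.End A) v = 0 → r = 0 := by
    intro r v hv hr
    refine Subtype.ext (AddMonoidHom.ext fun w => ?_)
    obtain ⟨s, hs, rfl⟩ := Φ.orbit D hv w
    show ((r : AddMonoid.End A) * Φ.slope D hs) v = 0
    rw [commute_of_mem_closure r.2 (y := Φ.slope D hs) fun z hz => hcomm z hz _ ⟨s, hs, rfl⟩]
    show Φ.slope D hs ((r : AddMonoid.End A) v) = 0
    rw [hr, map_zero]
  haveI hAn : Nontrivial A := Finite.one_lt_card_iff_nontrivial.1 (by rw [D.cardA]; exact D.two_le)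
  obtain ⟨v₀, hv₀⟩ := exists_ne (0 : A)
  have hmem : ∀ {s : G} (hs : s ∈ S), Φ.slope D hs ∈ F₀ := fun {s} hs => Subring.subset_closure ⟨s, hs, rfl⟩
  let κ : F₀ →+ A := AddMonoidHom.mk' (fun r => (r : AddMonoid.End A) v₀) fun _ _ => rfl
  have hκi : Function.Injective κ := (injective_iff_map_eq_zero κ).2 fun r hr => hker r v₀ hv₀ hr
  have hκs : Function.Surjective κ := fun w => by
    obtain ⟨s, hs, e⟩ := Φ.orbit D hv₀ w
    exact ⟨⟨_, hmem hs⟩, e⟩
  haveI : Finite F₀ := Finite.of_injective κ hκi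
  haveI : Nontrivial F₀ := ⟨⟨0, 1, fun h => hv₀ (congrArg (fun r : F₀ => (r : AddMonoid.End A) v₀) h).symm⟩⟩
  haveI : NoZeroDivisors F₀ := ⟨fun {a b} hab => by
    by_cases hb : b = 0
    · exact Or.inr hb
    · exact Or.inl (hker a _ (fun h => hb (hker b v₀ hv₀ h))
        (congrArg (fun r : F₀ => (r : AddMonoid.End A) v₀) hab))⟩
  haveI : IsDomain F₀ := NoZeroDivisors.to_isDomain _
  letI : Fintype F₀ := Fintype.ofFinite _
  letI : Field F₀ := Fintype.fieldOfDomain F₀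
  let κe : F₀ ≃+ A := AddEquiv.ofBijective κ ⟨hκi, hκs⟩
  have hcard : Fintype.card F₀ = q := by
    rw [← Nat.card_eq_fintype_card, Nat.card_congr κe.toEquiv, D.cardA]
  -- coordinates
  let coord : (Fin 2 → F₀) ≃+ V :=
    { toFun := fun v => Φ.E (κe (v 0), κe (v 1))
      invFun := fun x => ![κe.symm (Φ.E.symm x).1, κe.symm (Φ.E.symm x).2]
      left_inv := fun v => by funext i; fin_cases i <;> simp
      right_inv := fun x => by simp
      map_add' := fun a b => by rw [← map_add]; congr 1 }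
  set ψ := coord.symm
  have hu : ∀ {s : G} (hs : s ∈ S) (a : F₀), (a : AddMonoid.End A) = Φ.slope D hs →
      ∀ v, ψ (ρ s v) = (NatSL2.u a : Matrix (Fin 2) (Fin 2) F₀).mulVec (ψ v) := by
    intro s hs a ha v
    obtain ⟨w, rfl⟩ := coord.surjective v
    rw [show ψ (coord w) = w from coord.symm_apply_apply w, AddEquiv.symm_apply_eq]
    show ρ s (Φ.E (κe (w 0), κe (w 1))) = Φ.E (κe _, κe _)
    rw [Φ.act D hs]
    have e0 : (NatSL2.u a : Matrix (Fin 2) (Fin 2) F₀).mulVec w 0 = w 0 + a * w 1 := by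
      simp [NatSL2.u, Matrix.mulVec, dotProduct, Fin.sum_univ_two]
    have e1 : (NatSL2.u a : Matrix (Fin 2) (Fin 2) F₀).mulVec w 1 = w 1 := by
      simp [NatSL2.u, Matrix.mulVec, dotProduct, Fin.sum_univ_two]
    rw [e0, e1, map_add κe, ← ha]
    rfl
  set H : Subgroup G :=
    { carrier := {x | ∃ N : Matrix.SpecialLinearGroup (Fin 2) F₀, ∀ v,
        ψ (ρ x v) = (N : Matrix (Fin 2) (Fin 2) F₀).mulVec (ψ v)}
      one_mem' := ⟨1, fun v => by rw [rho_one, Matrix.SpecialLinearGroup.coe_one, Matrix.one_mulVec]⟩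
      mul_mem' := fun {x y} ⟨N, hN⟩ ⟨N', hN'⟩ => ⟨N * N', fun v => by
        rw [rho_mul, hN, hN', Matrix.mulVec_mulVec, ← Matrix.SpecialLinearGroup.coe_mul]⟩
      inv_mem' := fun {x} ⟨N, hN⟩ => ⟨N⁻¹, fun v => by
        conv_rhs => rw [← rho_self_inv (ρ := ρ) x v, hN]
        rw [Matrix.mulVec_mulVec, ← Matrix.SpecialLinearGroup.coe_mul, inv_mul_cancel,
          Matrix.SpecialLinearGroup.coe_one, Matrix.one_mulVec]⟩ } with hH
  have hSH : S ≤ H := fun s hs => ⟨_, hu hs ⟨_, hmem hs⟩ rfl⟩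
  let low : F₀ → Matrix.SpecialLinearGroup (Fin 2) F₀ := PSL2.vS
  -- the lower unitriangular elements
  have hlow : ∀ b : F₀, b ≠ 0 → ∃ t ∈ S, ∀ v,
      ψ (ρ (g * t * g⁻¹) v) = (low b : Matrix (Fin 2) (Fin 2) F₀).mulVec (ψ v) := by
    intro b hb
    obtain ⟨s, hs, e⟩ := Φ.orbit D hv₀ (κ b⁻¹)
    have ha : (⟨_, hmem hs⟩ : F₀) = b⁻¹ := hκi e
    have hsQ : s ∉ Q := fun h => inv_ne_zero hb (ha.symm.trans (Subtype.ext (Φ.slope_Q D hs h)))
    obtain ⟨t, ht, hT⟩ := Φ.exists_lower D hs hsQ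
    refine ⟨t, ht, fun v => ?_⟩
    obtain ⟨w, rfl⟩ := coord.surjective v
    rw [show ψ (coord w) = w from coord.symm_apply_apply w, AddEquiv.symm_apply_eq]
    show ρ (g * t * g⁻¹) (Φ.E (κe (w 0), κe (w 1))) = Φ.E (κe _, κe _)
    have e0 : (low b : Matrix (Fin 2) (Fin 2) F₀).mulVec w 0 = w 0 := by
      simp [low, PSL2.vS, Matrix.mulVec, dotProduct, Fin.sum_univ_two]
    have e1 : (low b : Matrix (Fin 2) (Fin 2) F₀).mulVec w 1 = w 1 + b * w 0 := by
      simp [low, PSL2.vS, Matrix.mulVec, dotProduct, Fin.sum_univ_two, add_comm]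
    have e2 : κe (w 0) = Φ.slope D hs (κe (b * w 0)) := by
      show κe (w 0) = κe ((⟨_, hmem hs⟩ : F₀) * (b * w 0))
      rw [ha, ← mul_assoc, inv_mul_cancel₀ hb, one_mul]
    rw [e0, e1, map_add κe, e2, hT]
  have hgen : ∀ t ∈ S, g * t * g⁻¹ ∈ H := by
    intro t ht
    by_cases htQ : t ∈ Q
    · exact hSH (D.Q_le (D.Qn.conj_mem t htQ g))
    obtain ⟨z, hz⟩ := Φ.mem_right _ (D.elation ht (ρ g⁻¹ (v₀ : V)))
    have hz0 : z ≠ 0 := fun h => by
      rw [h, show ((0, 0) : A × A) = 0 from rfl, map_zero] at hz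
      refine hv₀ (Subtype.ext (D.ti g⁻¹ (fun h => hg (by simpa using inv_mem h)) _ v₀.2 ?_))
      exact D.free t ht htQ _ (sub_eq_zero.1 (rho_injective g (hz.trans (map_zero _).symm)))
    have hz' : ρ (g * t * g⁻¹) (v₀ : V) = Φ.E (v₀, z) := by
      rw [show ((v₀, z) : A × A) = (v₀, 0) + (0, z) by simp, map_add, Φ.E_left, ← hz, map_sub, rho_self_inv,
        ← rho_mul, ← rho_mul]
      abel
    obtain ⟨t', ht', hT⟩ := hlow (κe.symm z) (fun h => hz0 (κe.symm.injective (h.trans (map_zero _).symm)))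
    have hfix : t'⁻¹ * t ∈ Q := by
      by_contra hQ
      refine hv₀ (Subtype.ext (D.ti g⁻¹ (fun h => hg (by simpa using inv_mem h)) _ v₀.2
        (D.free _ (mul_mem (inv_mem ht') ht) hQ _ ?_)))
      have h1 : ρ (g * t' * g⁻¹) (v₀ : V) = Φ.E (v₀, z) := by
        have h2 := hT (coord ![1, 0])
        rw [show ψ (coord ![1, 0]) = ![1, 0] from coord.symm_apply_apply _, AddEquiv.symm_apply_eq] at h2
        have e3 : coord ![1, 0] = (v₀ : V) := by
          show Φ.E (κe 1, κe 0) = _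
          rw [map_zero, Φ.E_left]
          rfl
        rw [e3] at h2
        rw [h2]
        show Φ.E (κe _, κe _) = _
        congr 1
        ext <;> simp [low, PSL2.vS, Matrix.mulVec, dotProduct, Fin.sum_univ_two]
        rfl
      refine rho_injective (ρ := ρ) g ?_
      rw [← rho_mul, ← rho_mul, ← rho_mul,
        show g * (t'⁻¹ * t) * g⁻¹ = (g * t' * g⁻¹)⁻¹ * (g * t * g⁻¹) by group, rho_mul, hz', ← h1, rho_inv_self,
        mul_inv_cancel, rho_one]
    rw [show g * t * g⁻¹ = g * t' * g⁻¹ * (g * (t'⁻¹ * t) * g⁻¹) by group]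
    exact mul_mem ⟨_, hT⟩ (hSH (D.Q_le (D.Qn.conj_mem _ hfix g)))
  have htop := D.gen hg H hSH hgen
  have hex : ∀ x : G, ∃ N : Matrix.SpecialLinearGroup (Fin 2) F₀, ∀ v,
      ψ (ρ x v) = (N : Matrix (Fin 2) (Fin 2) F₀).mulVec (ψ v) := fun x => htop.ge (Subgroup.mem_top x)
  choose R0 hR0 using hex
  have hun : ∀ {N N' : Matrix.SpecialLinearGroup (Fin 2) F₀},
      (∀ v, (N : Matrix (Fin 2) (Fin 2) F₀).mulVec (ψ v) = (N' : Matrix (Fin 2) (Fin 2) F₀).mulVec (ψ v)) → N = N' :=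
    fun h => Subtype.ext (Matrix.ext_of_mulVec_single fun i => by
      simpa using h (ψ.symm (Pi.single i 1)))
  let R : G →* Matrix.SpecialLinearGroup (Fin 2) F₀ := MonoidHom.mk' R0 fun x y => hun fun v => by
    rw [← hR0, rho_mul, hR0, hR0, Matrix.mulVec_mulVec, ← Matrix.SpecialLinearGroup.coe_mul]
  have hRS : ∀ {s : G} (hs : s ∈ S), R s = NatSL2.u ⟨_, hmem hs⟩ := fun {s} hs => hun fun v => by
    show (R0 s : Matrix (Fin 2) (Fin 2) F₀).mulVec (ψ v) = _
    rw [← hR0, hu hs ⟨_, hmem hs⟩ rfl]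
  have hupper : ∀ a, ∃ s ∈ S, R s = NatSL2.u a := fun a => by
    obtain ⟨s, hs, e⟩ := Φ.orbit D hv₀ (κ a)
    exact ⟨s, hs, (hRS hs).trans (congrArg NatSL2.u (hκi e))⟩
  have hsurj : R.range = ⊤ := by
    obtain ⟨t, -, hT⟩ := hlow 1 one_ne_zero
    refine sl2_top_of_mem (fun x => ?_) (g := low 1) ⟨g * t * g⁻¹, hun fun v => ?_⟩ ?_
    · obtain ⟨s, -, e⟩ := hupper x
      exact ⟨s, e⟩
    · show (R0 _ : Matrix (Fin 2) (Fin 2) F₀).mulVec (ψ v) = _
      rw [← hR0, hT]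
    · simp [low, PSL2.vS]
  refine ⟨F₀, inferInstance, inferInstance, R, ψ, hcard,
    ⟨fun x => hsurj.ge (Subgroup.mem_top x), fun s hs => ⟨_, hRS hs⟩, hupper, fun s hs h => ?_,
      fun x hx => hun fun v => ?_, fun x => ?_, ?_, ?_⟩, hR0⟩
  · by_contra hsQ
    rw [hRS hs, ← show NatSL2.u (0 : F₀) = 1 by ext i j; fin_cases i <;> fin_cases j <;> simp [NatSL2.u]] at h
    have h1 := congrArg (fun r : F₀ => (r : AddMonoid.End A) v₀) (NatSL2.u_inj h)
    exact hv₀ (Φ.slope_inj D hs hsQ h1)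
  · show (R0 x : Matrix (Fin 2) (Fin 2) F₀).mulVec (ψ v) = _
    rw [← hR0, D.Q_one x hx, Matrix.SpecialLinearGroup.coe_one, Matrix.one_mulVec]
    rfl
  · have h1 := hR0 x (coord ![1, 0])
    rw [show ψ (coord ![1, 0]) = ![1, 0] from coord.symm_apply_apply _, AddEquiv.symm_apply_eq] at h1
    have e3 : coord ![1, 0] = (v₀ : V) := by
      show Φ.E (κe 1, κe 0) = _
      rw [map_zero, Φ.E_left]
      rfl
    rw [e3] at h1
    have e4 : (R0 x : Matrix (Fin 2) (Fin 2) F₀).mulVec ![1, 0] 1 = (R0 x).1 1 0 := by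
      simp [Matrix.mulVec, dotProduct, Fin.sum_univ_two]
    show x ∈ M ↔ (R0 x).1 1 0 = 0
    rw [← e4]
    constructor
    · intro hx
      have h2 := D.mem_A hx v₀.2
      rw [h1] at h2
      change Φ.E (κe _, κe _) ∈ A at h2
      have h3 := (Φ.fst_eq ((Φ.E_left ⟨_, h2⟩).symm)).2
      exact κe.injective (h3.trans (map_zero _).symm)
    · intro hz
      refine D.mem_of_fixed v₀.2 (fun h => hv₀ (Subtype.ext h)) ?_
      rw [h1]
      show Φ.E (κe _, κe _) ∈ A
      rw [hz, map_zero, Φ.E_left]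
      exact Subtype.coe_prop _
  · obtain ⟨z, hz⟩ := Φ.mem_right _ v₀.2
    have h1 := hR0 g (coord ![1, 0])
    rw [show ψ (coord ![1, 0]) = ![1, 0] from coord.symm_apply_apply _, AddEquiv.symm_apply_eq] at h1
    have e3 : coord ![1, 0] = (v₀ : V) := by
      show Φ.E (κe 1, κe 0) = _
      rw [map_zero, Φ.E_left]
      rfl
    rw [e3, hz] at h1
    have h2 := (Φ.fst_eq h1).1
    have e4 : (R0 g : Matrix (Fin 2) (Fin 2) F₀).mulVec ![1, 0] 0 = (R0 g).1 0 0 := by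
      simp [Matrix.mulVec, dotProduct, Fin.sum_univ_two]
    rw [e4] at h2
    exact κe.injective (h2.symm.trans (map_zero _).symm)
  · exact (hRS Φ.hs₁).trans (congrArg NatSL2.u (Subtype.ext (Φ.slope_s₁ D)))

/-- A spread with elations gives the natural module. -/
theorem exists_coord {g : G} (hg : g ∉ M) {s₁ : G} (hs₁ : s₁ ∈ S) (hs₁Q : s₁ ∉ Q) {K : Subgroup G}
    (hK : K.Normal) (hKM : K ≤ M)
    (htor : ∀ x ∈ M, g⁻¹ * x * g ∈ M → ∀ y ∈ M, g⁻¹ * y * g ∈ M → ⁅x, y⁆ ∈ K) :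
    ∃ (F : Type v) (_ : Field F) (_ : Fintype F) (R : G →* Matrix.SpecialLinearGroup (Fin 2) F)
      (ψ : V ≃+ (Fin 2 → F)), Fintype.card F = q ∧ Coord S Q M g s₁ R ∧
        ∀ (x : G) (v : V), ψ (ρ x v) = (R x : Matrix (Fin 2) (Fin 2) F).mulVec (ψ v) := by
  exact D.exists_coord_of_comm hg hs₁ hs₁Q fun Φ _ _ hs ht => Φ.slope_comm D hK hKM htor hs ht

end SpreadAct

end Cfsg.Agent.PushUp
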