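import Cfsg.Agent.Lib.PushUp.Spread
import Cfsg.Agent.Lib.PushUp.SL2Overgroup

/-!
# The slope set of a spread with elations is a field
-/

set_option autoImplicit false

namespace Cfsg.Agent.PushUp

open Cfsg.Agent
open scoped commutatorElement

universe u v w

/-- Coordinates for a representation in `SL₂(F)` in which `S` is upper unitriangular. -/
structure Coord {G : Type u} [Group G] (S Q M : Subgroup G) (g s₁ : G) {F : Type w} [Field F] [Fintype F]
    (R : G →* Matrix.SpecialLinearGroup (Fin 2) F) : Prop where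
  surj : Function.Surjective R
  upper : ∀ s ∈ S, ∃ a, R s = NatSL2.u a
  exists_upper : ∀ a, ∃ s ∈ S, R s = NatSL2.u a
  ker_S : ∀ s ∈ S, R s = 1 → s ∈ Q
  Q_one : ∀ x ∈ Q, R x = 1
  mem_M : ∀ x, x ∈ M ↔ (R x).1 1 0 = 0
  g00 : (R g).1 0 0 = 0
  one : R s₁ = NatSL2.u 1

namespace SpreadAct

variable {G : Type u} [Group G] {V : Type v} [AddCommGroup V] {S Q M : Subgroup G}
  {ρ : G →* AddMonoid.End V} {A : AddSubgroup V} {q : ℕ} (D : SpreadAct S Q M ρ A q) [Finite G] [Finite V]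

/-- The commutator map of an element of `S`. -/
noncomputable def nil {s : G} (hs : s ∈ S) : V →+ A :=
  AddMonoidHom.mk' (fun v => (⟨ρ s v - v, D.elation hs v⟩ : A)) fun a b => Subtype.ext (by
    show ρ s (a + b) - (a + b) = ρ s a - a + (ρ s b - b)
    rw [map_add]; abel)

/-- The frame: a second component, normalised by a chosen element of `S`. -/
structure Frame (g s₁ : G) : Type (max u v) where
  hg : g ∉ M
  hs₁ : s₁ ∈ S
  E : A × A ≃+ V
  E_left : ∀ a : A, E (a, 0) = a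
  right_mem : ∀ y : A, ∃ a ∈ A, E (0, y) = ρ g a
  mem_right : ∀ a ∈ A, ∃ y : A, ρ g a = E (0, y)
  s₁_act : ∀ x y : A, ρ s₁ (E (x, y)) = E (x + y, y)

include D in
theorem exists_frame {g : G} (hg : g ∉ M) {s₁ : G} (hs₁ : s₁ ∈ S) (hs₁Q : s₁ ∉ Q) :
    Nonempty (Frame (S := S) (M := M) (ρ := ρ) (A := A) g s₁) := by
  let σ0 : A →+ A := (D.nil hs₁).comp ((ρ g : AddMonoid.End V).comp A.subtype)
  have hinj : Function.Injective σ0 := by
    rw [injective_iff_map_eq_zero]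
    intro a ha
    have h1 : ρ s₁ (ρ g a) - ρ g a = 0 := congrArg Subtype.val ha
    exact Subtype.ext (D.ti g hg a a.2 (D.free s₁ hs₁ hs₁Q _ (sub_eq_zero.1 h1)))
  let e0 : A ≃+ A := AddEquiv.ofBijective σ0 (Finite.injective_iff_bijective.1 hinj)
  let ι : A →+ V := ((ρ g : AddMonoid.End V).comp A.subtype).comp e0.symm.toAddMonoidHom
  have hι : ∀ y, ρ s₁ (ι y) - ι y = (y : V) := fun y =>
    congrArg Subtype.val (e0.apply_symm_apply y : σ0 (e0.symm y) = y)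
  let f : A × A →+ V := (A.subtype.comp (AddMonoidHom.fst A A)) + ι.comp (AddMonoidHom.snd A A)
  have hfi : Function.Injective f := by
    rw [injective_iff_map_eq_zero]
    rintro ⟨x, y⟩ h
    change (x : V) + ι y = 0 at h
    have h1 : e0.symm y = 0 := Subtype.ext (D.ti g hg _ (e0.symm y).2 (by
      show ι y ∈ A
      rw [eq_neg_of_add_eq_zero_right h]
      exact neg_mem x.2))
    obtain rfl : y = 0 := e0.symm.injective (by rw [h1, map_zero])
    rw [map_zero, add_zero] at h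
    exact Prod.ext (Subtype.ext h) rfl
  have hfb : Function.Bijective f :=
    (Nat.bijective_iff_injective_and_card f).2 ⟨hfi, by rw [Nat.card_prod, D.cardA, D.cardV]⟩
  have hf0 : ∀ y, f (0, y) = ι y := fun y => by
    show ((0 : A) : V) + ι y = ι y
    rw [ZeroMemClass.coe_zero, zero_add]
  refine ⟨⟨hg, hs₁, AddEquiv.ofBijective f hfb, fun a => ?_, fun y => ⟨_, (e0.symm y).2, hf0 y⟩,
    fun a ha => ⟨e0 ⟨a, ha⟩, ?_⟩, fun x y => ?_⟩⟩
  · show (a : V) + ι 0 = a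
    rw [map_zero, add_zero]
  · show ρ g a = f (0, _)
    rw [hf0]
    show ρ g a = ρ g ((e0.symm (e0 ⟨a, ha⟩) : A) : V)
    rw [e0.symm_apply_apply]
  · show ρ s₁ ((x : V) + ι y) = ((x + y : A) : V) + ι y
    rw [map_add, D.fix s₁ hs₁ x x.2, AddSubgroup.coe_add, ← sub_add_cancel (ρ s₁ (ι y)) (ι y), hι]
    abel

namespace Frame

variable {g s₁ : G} (Φ : Frame (S := S) (M := M) (ρ := ρ) (A := A) g s₁)

/-- The slope of an element of `S`. -/
noncomputable def slope {s : G} (hs : s ∈ S) : AddMonoid.End A :=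
  (D.nil hs).comp (Φ.E.toAddMonoidHom.comp (AddMonoidHom.inr A A))

theorem act {s : G} (hs : s ∈ S) (x y : A) : ρ s (Φ.E (x, y)) = Φ.E (x + Φ.slope D hs y, y) := by
  rw [show ((x, y) : A × A) = (x, 0) + (0, y) by simp, map_add, map_add, Φ.E_left, D.fix s hs x x.2]
  rw [show ((x + Φ.slope D hs y, y) : A × A) = (x, 0) + ((Φ.slope D hs y, 0) + (0, y)) by simp, map_add, map_add,
    Φ.E_left, Φ.E_left]
  show (x : V) + ρ s (Φ.E (0, y)) = (x : V) + ((ρ s (Φ.E (0, y)) - Φ.E (0, y)) + Φ.E (0, y))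
  rw [sub_add_cancel]

theorem fst_eq {x x' y y' : A} (h : Φ.E (x, y) = Φ.E (x', y')) : x = x' ∧ y = y' :=
  Prod.mk_inj.1 (Φ.E.injective h)

theorem slope_mul {s t : G} (hs : s ∈ S) (ht : t ∈ S) :
    Φ.slope D (mul_mem hs ht) = Φ.slope D hs + Φ.slope D ht := by
  refine AddMonoidHom.ext fun y => ?_
  have h1 := Φ.act D (mul_mem hs ht) 0 y
  rw [rho_mul, Φ.act D ht, Φ.act D hs] at h1
  have h2 := (Φ.fst_eq h1).1
  rw [zero_add, zero_add] at h2
  show Φ.slope D (mul_mem hs ht) y = Φ.slope D hs y + Φ.slope D ht y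
  rw [← h2]
  exact add_comm _ _

theorem slope_congr {s t : G} (hs : s ∈ S) (ht : t ∈ S) (h : s = t) : Φ.slope D hs = Φ.slope D ht := by
  subst h; rfl

theorem slope_Q {s : G} (hs : s ∈ S) (hsQ : s ∈ Q) : Φ.slope D hs = 0 := by
  refine AddMonoidHom.ext fun y => ?_
  have h1 := Φ.act D hs 0 y
  rw [D.Q_one s hsQ] at h1
  exact ((Φ.fst_eq (x := 0) (y := y) h1).1.trans (zero_add _)).symm

theorem slope_s₁ : Φ.slope D Φ.hs₁ = 1 := by
  refine AddMonoidHom.ext fun y => ?_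
  have h1 := Φ.act D Φ.hs₁ 0 y
  rw [Φ.s₁_act, zero_add, zero_add] at h1
  exact (Φ.fst_eq h1).1.symm

theorem slope_inv {s : G} (hs : s ∈ S) : Φ.slope D (inv_mem hs) = -Φ.slope D hs := by
  have h1 := Φ.slope_mul D hs (inv_mem hs)
  rw [Φ.slope_Q D _ (by rw [mul_inv_cancel]; exact one_mem Q)] at h1
  exact eq_neg_of_add_eq_zero_right h1.symm

theorem slope_inj {s : G} (hs : s ∈ S) (hsQ : s ∉ Q) {y : A} (h : Φ.slope D hs y = 0) : y = 0 := by
  have h1 := D.free s hs hsQ (Φ.E (0, y)) (by rw [Φ.act D hs, h, add_zero])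
  have h2 : Φ.E (0, y) = Φ.E (⟨_, h1⟩, 0) := (Φ.E_left ⟨_, h1⟩).symm
  exact (Φ.fst_eq h2).2

theorem slope_surj {s : G} (hs : s ∈ S) (hsQ : s ∉ Q) (x : A) : ∃ y, Φ.slope D hs y = x :=
  (Finite.injective_iff_surjective.1
    ((injective_iff_map_eq_zero (Φ.slope D hs)).2 fun _ => Φ.slope_inj D hs hsQ)) x

include D in
theorem orbit {v : A} (hv : v ≠ 0) (w : A) : ∃ (s : G) (hs : s ∈ S), Φ.slope D hs v = w := by
  let f : ↥S ⧸ Q.subgroupOf S → A := fun x => Φ.slope D x.out.2 v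
  have hf : Function.Injective f := by
    intro x y h
    by_contra hne
    have hQ : (y.out : G)⁻¹ * x.out ∉ Q := fun hm => hne (by
      rw [← QuotientGroup.out_eq' x, ← QuotientGroup.out_eq' y, eq_comm, QuotientGroup.eq]
      exact hm)
    refine hv (Φ.slope_inj D (mul_mem (inv_mem y.out.2) x.out.2) hQ ?_)
    rw [Φ.slope_mul D (inv_mem y.out.2) x.out.2, Φ.slope_inv D y.out.2]
    show -(f y) + f x = 0
    rw [h, neg_add_cancel]
  have hb : Function.Bijective f :=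
    (Nat.bijective_iff_injective_and_card f).2 ⟨hf, ((Subgroup.index_eq_card _).symm.trans D.idxS).trans D.cardA.symm⟩
  obtain ⟨x, hx⟩ := hb.2 w
  exact ⟨_, x.out.2, hx⟩

include D in
/-- For every slope there is an element of the conjugate of `S` with the inverse slope. -/
theorem exists_lower {s : G} (hs : s ∈ S) (hsQ : s ∉ Q) :
    ∃ t ∈ S, ∀ x y : A, ρ (g * t * g⁻¹) (Φ.E (Φ.slope D hs x, y)) = Φ.E (Φ.slope D hs x, y + x) := by
  have hg' : g⁻¹ ∉ M := fun h => Φ.hg (by simpa using inv_mem h)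
  have hk : g⁻¹ * s * g ∉ M := by simpa using D.not_mem_conj hg' hs hsQ
  obtain ⟨a0, ha0⟩ : ∃ a : A, a ≠ 0 := by
    haveI : Nontrivial A := Finite.one_lt_card_iff_nontrivial.1 (by rw [D.cardA]; exact D.two_le)
    exact exists_ne 0
  have hv : ρ (g⁻¹ * s * g) (a0 : V) ∉ A := fun h => ha0 (Subtype.ext (D.ti _ hk _ a0.2 h))
  obtain ⟨t, ht, b, hb, he⟩ := D.part hg' hv
  have hm : (t * g⁻¹)⁻¹ * (g⁻¹ * s * g) ∈ M :=
    D.same hb a0.2 (fun h => ha0 (Subtype.ext h)) he.symm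
  refine ⟨t, ht, ?_⟩
  set T := g * t * g⁻¹
  have hTfix : ∀ z : A, ρ T (Φ.E (0, z)) = Φ.E (0, z) := fun z => by
    obtain ⟨a, ha, hz⟩ := Φ.right_mem z
    rw [hz, ← rho_mul, show T * g = g * t by simp [T, mul_assoc], rho_mul, D.fix t ht a ha]
  have hdiff : ∀ x : A, ∃ z : A, ρ T (Φ.E (x, 0)) = Φ.E (x, z) := fun x => by
    obtain ⟨z, hz⟩ := Φ.mem_right _ (D.elation ht (ρ g⁻¹ (Φ.E (x, 0))))
    refine ⟨z, ?_⟩
    rw [show ((x, z) : A × A) = (x, 0) + (0, z) by simp, map_add, ← hz, map_sub, rho_self_inv, ← rho_mul, ← rho_mul]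
    abel
  intro x y
  obtain ⟨a, ha, hx⟩ := Φ.right_mem x
  obtain ⟨z, hz⟩ := hdiff (Φ.slope D hs x)
  have h1 : Φ.E (Φ.slope D hs x, x) = ρ T (ρ ((t * g⁻¹)⁻¹ * (g⁻¹ * s * g)) a) := by
    rw [← rho_mul, show T * ((t * g⁻¹)⁻¹ * (g⁻¹ * s * g)) = s * g by simp [T, mul_assoc], rho_mul, ← hx,
      Φ.act D hs, zero_add]
  set a' : A := ⟨_, D.mem_A hm ha⟩
  obtain ⟨z', hz'⟩ := hdiff a'
  change Φ.E (Φ.slope D hs x, x) = ρ T (a' : V) at h1
  rw [← Φ.E_left a', hz'] at h1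
  obtain ⟨e1, e2⟩ := Φ.fst_eq h1
  rw [← e1, hz] at hz'
  have e3 := (Φ.fst_eq hz').2
  rw [show ((Φ.slope D hs x, y) : A × A) = (Φ.slope D hs x, 0) + (0, y) by simp, map_add, map_add, hTfix, hz,
    ← map_add, e3, ← e2]
  congr 1
  ext <;> simp [add_comm]

include D in
/-- A diagonal element with a given slope. -/
theorem exists_diag {s : G} (hs : s ∈ S) (hsQ : s ∉ Q) :
    ∃ d ∈ M, g⁻¹ * d * g ∈ M ∧
      ∀ x y : A, ρ d (Φ.E (x, Φ.slope D hs y)) = Φ.E (Φ.slope D hs x, y) := by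
  have hm : ∀ {r : G} (hr : r ∈ S), r ∉ Q → ∃ t ∈ S, ∀ x y : A,
      ρ (r * (g * t * g⁻¹) * r) (Φ.E (Φ.slope D hr x, y)) = Φ.E (Φ.slope D hr y, -x) := by
    intro r hr hrQ
    obtain ⟨t, ht, hT⟩ := Φ.exists_lower D (inv_mem hr) (fun h => hrQ (by simpa using inv_mem h))
    refine ⟨t, ht, fun x y => ?_⟩
    have h1 := hT (-(x + y)) y
    rw [Φ.slope_inv D hr] at h1
    change ρ _ (Φ.E (-(Φ.slope D hr (-(x + y))), y)) = Φ.E (-(Φ.slope D hr (-(x + y))), _) at h1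
    rw [map_neg, neg_neg, map_add] at h1
    rw [rho_mul, rho_mul, Φ.act D hr, h1, Φ.act D hr]
    congr 1
    ext
    · simp [map_add, map_neg]
    · simp
  have hs₁Q : s₁ ∉ Q := fun h => by
    obtain ⟨a0, ha0⟩ : ∃ a : A, a ≠ 0 := by
      haveI : Nontrivial A := Finite.one_lt_card_iff_nontrivial.1 (by rw [D.cardA]; exact D.two_le)
      exact exists_ne 0
    have h1 := congrArg (fun f : AddMonoid.End A => f a0) ((Φ.slope_s₁ D).symm.trans (Φ.slope_Q D Φ.hs₁ h))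
    exact ha0 h1
  obtain ⟨t, -, hts⟩ := hm hs hsQ
  obtain ⟨t₁, -, ht₁⟩ := hm Φ.hs₁ hs₁Q
  set m := s * (g * t * g⁻¹) * s
  set m₁ := s₁ * (g * t₁ * g⁻¹) * s₁
  have hm₁ : ∀ x y : A, ρ m₁⁻¹ (Φ.E (x, y)) = Φ.E (-y, x) := fun x y => by
    have h1 := ht₁ (-y) x
    rw [Φ.slope_s₁ D] at h1
    change ρ m₁ (Φ.E (-y, x)) = Φ.E (x, - -y) at h1
    rw [neg_neg] at h1
    rw [← h1, rho_inv_self]
  have hd : ∀ x y : A, ρ (m * m₁⁻¹) (Φ.E (x, Φ.slope D hs y)) = Φ.E (Φ.slope D hs x, y) := fun x y => by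
    rw [rho_mul, hm₁, ← map_neg, hts, neg_neg]
  obtain ⟨a0, ha0⟩ : ∃ a : A, a ≠ 0 := by
    haveI : Nontrivial A := Finite.one_lt_card_iff_nontrivial.1 (by rw [D.cardA]; exact D.two_le)
    exact exists_ne 0
  refine ⟨m * m₁⁻¹, ?_, ?_, hd⟩
  · have h1 := hd a0 0
    rw [map_zero, Φ.E_left, Φ.E_left] at h1
    exact D.mem_of_fixed a0.2 (fun h => ha0 (Subtype.ext h)) (by rw [h1]; exact Subtype.coe_prop _)
  · obtain ⟨z, hz⟩ := Φ.mem_right _ a0.2
    obtain ⟨y, rfl⟩ := Φ.slope_surj D hs hsQ z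
    refine D.mem_of_fixed a0.2 (fun h => ha0 (Subtype.ext h)) ?_
    obtain ⟨b, hb, hyb⟩ := Φ.right_mem y
    rw [rho_mul, rho_mul, hz, hd, map_zero, hyb, rho_inv_self]
    exact hb

include D in
/-- The slopes commute. -/
theorem slope_comm {K : Subgroup G} (hK : K.Normal) (hKM : K ≤ M)
    (htor : ∀ x ∈ M, g⁻¹ * x * g ∈ M → ∀ y ∈ M, g⁻¹ * y * g ∈ M → ⁅x, y⁆ ∈ K)
    {s t : G} (hs : s ∈ S) (ht : t ∈ S) :
    Φ.slope D hs * Φ.slope D ht = Φ.slope D ht * Φ.slope D hs := by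
  -- commutators of two slopes are scalars
  have hsc : ∀ {s t : G} (hs : s ∈ S) (ht : t ∈ S), s ∉ Q → t ∉ Q →
      ∃ l : AddMonoid.End A, (∀ (r : G) (hr : r ∈ S), l * Φ.slope D hr = Φ.slope D hr * l) ∧
        Φ.slope D hs * Φ.slope D ht = l * (Φ.slope D ht * Φ.slope D hs) := by
    intro s t hs ht hsQ htQ
    obtain ⟨d1, h1, h1', e1⟩ := Φ.exists_diag D hs hsQ
    obtain ⟨d2, h2, h2', e2⟩ := Φ.exists_diag D ht htQ
    set c := ⁅d1, d2⁆
    have hc : c ∈ K := htor d1 h1 h1' d2 h2 h2'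
    have hcA : ∀ a ∈ A, ρ c a ∈ A := fun a ha => D.mem_A (hKM hc) ha
    have hch : ∀ (h : G), ∀ a ∈ A, ∃ b ∈ A, ρ c (ρ h a) = ρ h b := fun h a ha =>
      ⟨_, D.mem_A (hKM (by simpa using hK.conj_mem c hc h⁻¹ : h⁻¹ * c * h ∈ K)) ha, by
        rw [← rho_mul, ← rho_mul]; congr 1; simp [mul_assoc]⟩
    let l : AddMonoid.End A := AddMonoidHom.mk' (fun a => (⟨ρ c a, hcA a a.2⟩ : A))
      fun a b => Subtype.ext (map_add (ρ c) _ _)
    have hl : ∀ x : A, ρ c (Φ.E (x, 0)) = Φ.E (l x, 0) := fun x => by rw [Φ.E_left, Φ.E_left]; rfl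
    have hr : ∀ y : A, ∃ y', ρ c (Φ.E (0, y)) = Φ.E (0, y') := fun y => by
      obtain ⟨a, ha, e⟩ := Φ.right_mem y
      obtain ⟨b, hb, e'⟩ := hch g a ha
      obtain ⟨y', e''⟩ := Φ.mem_right b hb
      exact ⟨y', by rw [e, e', e'']⟩
    choose μ hμ using hr
    have hcomp : ∀ (r : G) (hr : r ∈ S) (y : A), l (Φ.slope D hr y) = Φ.slope D hr (μ y) := by
      intro r hr y
      obtain ⟨a, ha, e⟩ := Φ.right_mem y
      obtain ⟨b, hb, e'⟩ := hch (r * g) a ha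
      obtain ⟨y', e''⟩ := Φ.mem_right b hb
      rw [rho_mul, rho_mul, ← e, Φ.act D hr, e'', Φ.act D hr, zero_add, zero_add,
        show ((Φ.slope D hr y, y) : A × A) = (Φ.slope D hr y, 0) + (0, y) by simp, map_add, map_add, hl, hμ,
        ← map_add] at e'
      obtain ⟨i1, i2⟩ := Φ.fst_eq e'
      simp only [Prod.fst_add, Prod.snd_add, add_zero, zero_add] at i1 i2
      rw [i1, i2]
    have hμl : ∀ y, μ y = l y := fun y => by
      have h3 := hcomp s₁ Φ.hs₁ y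
      rw [Φ.slope_s₁ D] at h3
      exact h3.symm
    refine ⟨l, fun r hr => AddMonoidHom.ext fun y => ?_, AddMonoidHom.ext fun x => ?_⟩
    · show l (Φ.slope D hr y) = Φ.slope D hr (l y)
      rw [hcomp, hμl]
    · have i1 : ρ (d1 * d2) (Φ.E (x, 0)) = Φ.E (Φ.slope D hs (Φ.slope D ht x), 0) := by
        have j1 := e2 x 0
        have j2 := e1 (Φ.slope D ht x) 0
        rw [map_zero] at j1 j2
        rw [rho_mul, j1, j2]
      have i2 : ρ (d2 * d1) (Φ.E (x, 0)) = Φ.E (Φ.slope D ht (Φ.slope D hs x), 0) := by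
        have j1 := e1 x 0
        have j2 := e2 (Φ.slope D hs x) 0
        rw [map_zero] at j1 j2
        rw [rho_mul, j1, j2]
      rw [show d1 * d2 = c * (d2 * d1) by simp only [c, commutatorElement_def]; group, rho_mul, i2, hl] at i1
      exact (Φ.fst_eq i1).1.symm
  by_cases hsQ : s ∈ Q
  · rw [Φ.slope_Q D hs hsQ, zero_mul, mul_zero]
  by_cases htQ : t ∈ Q
  · rw [Φ.slope_Q D ht htQ, zero_mul, mul_zero]
  have ht₁ : t * s₁ ∈ S := mul_mem ht Φ.hs₁
  have hb1 : Φ.slope D ht₁ = Φ.slope D ht + 1 := by rw [Φ.slope_mul D ht Φ.hs₁, Φ.slope_s₁ D]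
  by_cases htQ' : t * s₁ ∈ Q
  · rw [Φ.slope_Q D ht₁ htQ', eq_comm, add_eq_zero_iff_eq_neg] at hb1
    rw [hb1]
    exact (Commute.one_right (Φ.slope D hs)).neg_right.eq
  obtain ⟨l, hl, hab⟩ := hsc hs ht hsQ htQ
  obtain ⟨l', hl', hab'⟩ := hsc hs ht₁ hsQ htQ'
  set a := Φ.slope D hs
  set b := Φ.slope D ht
  rw [hb1, mul_add, mul_one, hab, add_mul, one_mul, mul_add] at hab'
  have hk : (l - l') * (b * a) = (l' - 1) * a := by
    rw [sub_mul, sub_mul, one_mul, sub_eq_sub_iff_add_eq_add, hab']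
    exact add_comm _ _
  by_cases hz : ∃ v : A, v ≠ 0 ∧ (l - l') v = 0
  · obtain ⟨v, hv, hv0⟩ := hz
    have hll : l - l' = 0 := AddMonoidHom.ext fun w => by
      obtain ⟨r, hr, rfl⟩ := Φ.orbit D hv w
      show ((l - l') * Φ.slope D hr) v = 0
      rw [sub_mul, hl r hr, hl' r hr, ← mul_sub]
      show Φ.slope D hr ((l - l') v) = 0
      rw [hv0, map_zero]
    rw [hll, zero_mul] at hk
    have hl1 : l' = 1 := AddMonoidHom.ext fun w => by
      obtain ⟨x, rfl⟩ := Φ.slope_surj D hs hsQ w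
      have h3 := congrArg (fun f : AddMonoid.End A => f x) hk
      change (0 : A) = l' (a x) - a x at h3
      exact (sub_eq_zero.1 h3.symm)
    rw [hab, sub_eq_zero.1 hll, hl1, one_mul]
  · simp only [not_exists, not_and] at hz
    have hkb : (l - l') * b = l' - 1 := AddMonoidHom.ext fun w => by
      obtain ⟨x, rfl⟩ := Φ.slope_surj D hs hsQ w
      exact congrArg (fun f : AddMonoid.End A => f x) hk
    have e : (l - l') * (a * b) = (l - l') * (b * a) := by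
      rw [← mul_assoc, show (l - l') * a = a * (l - l') by rw [sub_mul, hl s hs, hl' s hs, mul_sub], mul_assoc, hkb,
        hk, mul_sub, sub_mul, mul_one, one_mul, hl' s hs]
    refine AddMonoidHom.ext fun w => sub_eq_zero.1 (by_contra fun hne => hz _ hne ?_)
    rw [map_sub, sub_eq_zero]
    exact congrArg (fun f : AddMonoid.End A => f w) e

end Frame

end SpreadAct

end Cfsg.Agent.PushUp
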