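import Cfsg.Agent.Lib.PushUp.RankOneTwo
import Cfsg.Agent.Lib.PushUp.NatSection

/-!
# The second natural section of a critical path of two edges
-/

set_option autoImplicit false

open scoped commutatorElement

namespace Cfsg.Agent.PushUp

open Cfsg

universe u

variable {G : Type u} [Group G]

/-- The data at the middle vertex of a critical path of two edges, in any characteristic. -/
structure TwoBase (S Q Y : Subgroup G) (q : ℕ) (Y1 Q1 W Yd Qd W0 : Subgroup G) (g0 : G) : Prop where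
  mate_le : ∀ σ : MulAut ↥S, mate S Y σ ≤ Q
  center : ∀ y ∈ Y, ∀ s ∈ S, ⁅y, s⁆ ∈ zS S
  Y1_nb : Y1 ≤ nbV S Y
  Q1_le : Q1 ≤ S
  Q1_idx : Q1.relIndex S = q
  Y1_le : Y1 ≤ Q1
  Y1_idx : (zS S).relIndex Y1 = q
  W_le : W ≤ S
  W_sup : S ≤ Q ⊔ W
  W_comm : ∀ x ∈ Q1, ∀ w ∈ W, ⁅x, w⁆ ∈ Y
  Qd_le : Qd ≤ S.map (MulAut.conj g0).toMonoidHom
  Qd_idx : Qd.relIndex (S.map (MulAut.conj g0).toMonoidHom) = q
  Qd_cent : ∀ x ∈ Qd, ∀ y ∈ Yd, x * y = y * x
  W0_sup : S.map (MulAut.conj g0).toMonoidHom ≤ Q ⊔ W0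
  Qd_comm : ∀ x ∈ Qd, ∀ u ∈ W0, ⁅x, u⁆ ∈ Y
  sep : ∀ u ∈ Y1, (∀ v ∈ Yd, u * v = v * u) → u ∈ zS S

/-- What a critical path of two edges gives. -/
structure TwoLevel (S Q Y M : Subgroup G) (q : ℕ) (V E F1 N : Subgroup G) : Prop where
  sect : SpreadSect S Q M V E F1 q
  Y_le : Y ≤ E
  E_cent : ∀ e ∈ E, ∀ g : G, ⁅e, g⁆ ∈ Y
  V_le : V ≤ Q
  Nn : N.Normal
  N_sup : N ⊔ Q = ⊤
  N_comm : ∀ l ∈ N, ∀ w ∈ Q, ⁅l, w⁆ ∈ V

variable [Finite G] {S Q Y M : Subgroup G} {p q : ℕ} {Y1 Q1 W Yd Qd W0 : Subgroup G} {g0 : G}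

theorem two_section_eq (h : PUp S Q Y M p q) (hg0 : g0 ∉ M) (T : TwoBase S Q Y q Y1 Q1 W Yd Qd W0 g0) :
    ∃ E N : Subgroup G, TwoLevel S Q Y M q (nbV S Y) E (nbV S Y ⊓ Q1) N := by
  classical
  haveI := h.Qn
  haveI := h.Yn
  set V := nbV S Y with hV
  haveI hVn : V.Normal := nbV_normal
  have hVQ : V ≤ Q := iSup_le fun i => by
    rintro _ ⟨x, hx, rfl⟩
    exact h.Qn.conj_mem x (T.mate_le i.1 hx) i.2
  have hmV : ∀ σ, mate S Y σ ≤ V := fun σ x hx => Subgroup.mem_iSup_of_mem (σ, 1) ⟨x, hx, by simp⟩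
  have hYV : Y ≤ V := fun y hy => hmV 1 ⟨⟨y, h.Y_le.trans h.Q_le hy⟩, ⟨_, hy, rfl⟩, rfl⟩
  have hcen : ∀ i : MulAut ↥S × G, ∀ x ∈ (mate S Y i.1).map (MulAut.conj i.2).toMonoidHom,
      ∀ s ∈ S.map (MulAut.conj i.2).toMonoidHom, ⁅x, s⁆ ∈ Y := by
    rintro ⟨σ, g⟩ _ ⟨_, ⟨_, ⟨y, hy, rfl⟩, rfl⟩, rfl⟩ _ ⟨s, hs, rfl⟩
    simp only [MulEquiv.coe_toMonoidHom, Subgroup.coe_subtype]
    rw [← map_commutatorElement]
    refine h.Yn.conj_mem _ ?_ g
    have h1 : (⁅y, σ.symm ⟨s, hs⟩⁆ : ↥S).1 ∈ zS S := T.center (y : G) hy _ (σ.symm ⟨s, hs⟩).2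
    have h2 := h.Z_char σ _ h1
    rw [map_commutatorElement, MulEquiv.apply_symm_apply] at h2
    exact h.Z_le h2
  have hVQc : V ≤ modCent Y Q := iSup_le fun i x hx => mem_modCent.2 fun s hs => hcen i x hx s
    ⟨i.2⁻¹ * s * i.2, h.Q_le (by simpa using h.Qn.conj_mem s hs i.2⁻¹), by simp [mul_assoc]⟩
  -- only elements of `M` centralize `V` modulo `Y`
  set U := autClosure S Y with hUdef
  have hUV : U ≤ V := iSup_le hmV
  have hSU : S ≤ Subgroup.normalizer (U : Set G) := fun s hs => Subgroup.mem_normalizer_iff.2 fun x => by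
    constructor
    · intro hx
      exact autClosure_char S Y (MulAut.conj ⟨s, hs⟩) ⟨x, autClosure_le S Y hx⟩ hx
    · intro hx
      have h2 := autClosure_char S Y (MulAut.conj ⟨s, hs⟩)⁻¹ ⟨_, autClosure_le S Y hx⟩ hx
      simpa [mul_assoc] using h2
  have hYne : Y ≠ ⊥ := by
    intro h0
    have h1 := h.idxY
    rw [h0, Subgroup.relIndex_bot_right] at h1
    have := h.two_le
    omega
  have hYU : Y ≤ U := le_autClosure Y (h.Y_le.trans h.Q_le)
  have hN2 : ∀ g : G, (∀ w ∈ V, ⁅w, g⁆ ∈ Y) → g ∈ M := by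
    intro g hg
    by_contra hgM
    have hgU : g ∈ Subgroup.normalizer (U : Set G) := mem_normalizer_iff_cj_le.2 fun _ ⟨x, hx, e⟩ => by
      subst e
      show g * x * g⁻¹ ∈ U
      rw [show g * x * g⁻¹ = ⁅x, g⁆⁻¹ * x by simp only [commutatorElement_def]; group]
      exact mul_mem (inv_mem (hYU (hg x (hUV hx)))) hx
    have hn : U.Normal := Subgroup.normalizer_eq_top_iff.1 (h.top _ hSU fun hc => hgM (hc hgU))
    exact hYne (le_bot_iff.1 (hYU.trans (eq_bot_of_hd h.hd (autClosure_le S Y) hn (autClosure_char S Y)).le))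
  have hSQ : ∀ g : G, ∃ s ∈ S.map (MulAut.conj g).toMonoidHom, s ∉ Q := by
    intro g
    by_contra hc
    simp only [not_exists, not_and, not_not] at hc
    have hle : S ≤ Q := fun s hs => by
      have := h.Qn.conj_mem _ (hc _ ⟨s, hs, rfl⟩) g⁻¹
      simpa [mul_assoc] using this
    have := h.idxS
    rw [Subgroup.relIndex_eq_one.2 hle] at this
    have := h.two_le
    omega
  -- fixed points modulo `Y`
  have hfix : ∀ (g : G) (Q' W' : Subgroup G), Q' ≤ S.map (MulAut.conj g).toMonoidHom →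
      Q'.relIndex (S.map (MulAut.conj g).toMonoidHom) = q → S.map (MulAut.conj g).toMonoidHom ≤ Q ⊔ W' →
      (∀ x ∈ Q', ∀ w ∈ W', ⁅x, w⁆ ∈ Y) →
      V ⊓ Q' = V ⊓ modCent Y (S.map (MulAut.conj g).toMonoidHom) ∧ (V ⊓ Q').relIndex V = q := by
    intro g Q' W' hQ'S hQ'i hsup hcomm
    have hVS : V ≤ S.map (MulAut.conj g).toMonoidHom := fun x hx => ⟨g⁻¹ * x * g,
      h.Q_le (by simpa using h.Qn.conj_mem _ (hVQ hx) g⁻¹), by simp [mul_assoc]⟩
    have h1 : (V ⊓ Q').relIndex V ≤ q := by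
      rw [inf_comm, Subgroup.inf_relIndex_right, ← hQ'i]
      exact Subgroup.relIndex_le_of_le_right hVS (relIndex_ne_zero' _ _)
    have hle : V ⊓ Q' ≤ V ⊓ modCent Y (S.map (MulAut.conj g).toMonoidHom) := fun x hx => ⟨hx.1, by
      have hxQW : Q ⊔ W' ≤ modCent Y (Subgroup.zpowers x) := sup_le
        (le_modCent_symm (fun y hy => hVQc ((Subgroup.zpowers_le.2 hx.1) hy)))
        (fun w hw => mem_modCent.2 (by
          rintro _ ⟨i, rfl⟩
          rw [← commutatorElement_inv]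
          exact inv_mem (hcomm _ (Q'.zpow_mem hx.2 i) w hw)))
      refine mem_modCent.2 fun s hs => ?_
      rw [← commutatorElement_inv]
      exact inv_mem (mem_modCent.1 (hxQW (hsup hs)) x (Subgroup.mem_zpowers x))⟩
    obtain ⟨s, hs, hsQ⟩ := hSQ g
    have hd := disp_conj h hVn h.Yn hYV hVQ hN2 hs hsQ (D := V ⊓ modCent Y (S.map (MulAut.conj g).toMonoidHom))
      inf_le_left (fun d hd => mem_modCent.1 hd.2 s hs)
    have h2 := Subgroup.relIndex_mul_relIndex (V ⊓ Q') (V ⊓ modCent Y (S.map (MulAut.conj g).toMonoidHom)) V hle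
      inf_le_left
    have h3 : (V ⊓ Q').relIndex (V ⊓ modCent Y (S.map (MulAut.conj g).toMonoidHom)) = 1 := by
      have hp1 := Nat.pos_of_ne_zero
        (relIndex_ne_zero' (V ⊓ Q') (V ⊓ modCent Y (S.map (MulAut.conj g).toMonoidHom)))
      by_contra hne
      have h5 : 2 * q ≤ (V ⊓ Q').relIndex (V ⊓ modCent Y (S.map (MulAut.conj g).toMonoidHom)) *
          (V ⊓ modCent Y (S.map (MulAut.conj g).toMonoidHom)).relIndex V := Nat.mul_le_mul (by omega) hd
      have := h.two_le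
      omega
    rw [h3, one_mul] at h2
    exact ⟨le_antisymm hle (Subgroup.relIndex_eq_one.1 h3), le_antisymm h1 (h2 ▸ hd)⟩
  have e1 : S.map (MulAut.conj (1 : G)).toMonoidHom = S := by ext; simp
  obtain ⟨hF1, hF1i⟩ := hfix 1 Q1 W (by rw [e1]; exact T.Q1_le) (by rw [e1]; exact T.Q1_idx)
    (by rw [e1]; exact T.W_sup) T.W_comm
  obtain ⟨hFd, hFdi⟩ := hfix g0 Qd W0 T.Qd_le T.Qd_idx T.W0_sup T.Qd_comm
  rw [e1] at hF1
  set F1 := V ⊓ Q1 with hF1def
  -- the elements central modulo `Y`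
  set E := V ⊓ modCent Y ⊤ with hEdef
  haveI hEn : E.Normal := by
    haveI : (modCent Y (⊤ : Subgroup G)).Normal := by
      haveI : ((⊤ : Subgroup G).map (QuotientGroup.mk' Y)).Normal :=
        Subgroup.Normal.map inferInstance _ (QuotientGroup.mk'_surjective Y)
      infer_instance
    infer_instance
  have hE : F1 ⊓ (V ⊓ Qd) = E := by
    refine le_antisymm (fun x hx => ⟨hx.1.1, ?_⟩) (le_inf (hF1.symm ▸ inf_le_inf_left _ ?_)
      (hFd.symm ▸ inf_le_inf_left _ ?_))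
    · rw [hF1, hFd] at hx
      have hS : S ≤ modCent Y (F1 ⊓ (V ⊓ Qd)) := fun s hs => mem_modCent.2 fun y hy => by
        rw [hF1, hFd] at hy
        rw [← commutatorElement_inv]
        exact inv_mem (mem_modCent.1 hy.1.2 s hs)
      have hS' : S.map (MulAut.conj g0).toMonoidHom ≤ modCent Y (F1 ⊓ (V ⊓ Qd)) := fun s hs =>
        mem_modCent.2 fun y hy => by
          rw [hF1, hFd] at hy
          rw [← commutatorElement_inv]
          exact inv_mem (mem_modCent.1 hy.2.2 s hs)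
      have htop := h.top _ hS fun hc => h.conj_S_not_le hg0 (hS'.trans hc)
      refine mem_modCent.2 fun g _ => ?_
      rw [← commutatorElement_inv]
      refine inv_mem (mem_modCent.1 (htop.ge (Subgroup.mem_top g)) x ?_)
      rw [hF1, hFd]
      exact hx
    · exact fun x hx => mem_modCent.2 fun y _ => mem_modCent.1 hx y (Subgroup.mem_top y)
    · exact fun x hx => mem_modCent.2 fun y _ => mem_modCent.1 hx y (Subgroup.mem_top y)
  have hEF : E ≤ F1 := hE ▸ inf_le_left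
  have hEd : E ≤ Qd := hE ▸ inf_le_right.trans inf_le_right
  have hYE : Y ≤ E := fun y hy => ⟨hYV hy, mem_modCent.2 fun g _ => by
    rw [commutatorElement_def, show y * g * y⁻¹ * g⁻¹ = y * (g * y⁻¹ * g⁻¹) by group]
    exact mul_mem hy (h.Yn.conj_mem _ (inv_mem hy) g)⟩
  have hY1F : Y1 ≤ F1 := le_inf T.Y1_nb T.Y1_le
  have hidxE : E.relIndex F1 ≤ q := by
    rw [← hE, inf_comm, Subgroup.inf_relIndex_right, ← hFdi]
    exact Subgroup.relIndex_le_of_le_right inf_le_left (relIndex_ne_zero' _ _)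
  have hY1E : q ≤ E.relIndex Y1 := by
    rw [← T.Y1_idx, ← Subgroup.inf_relIndex_right E]
    exact Subgroup.relIndex_le_of_le_left (fun u hu => T.sep u hu.2 fun v hv => T.Qd_cent u (hEd hu.1) v hv)
      (relIndex_ne_zero' _ _)
  have hidxA : E.relIndex F1 = q :=
    le_antisymm hidxE (hY1E.trans (Subgroup.relIndex_le_of_le_right hY1F (relIndex_ne_zero' _ _)))
  have hN3 : ∀ g : G, (∀ w ∈ V, ⁅w, g⁆ ∈ E) → g ∈ M := by
    intro g hg
    by_contra hgM
    have hmem : ∀ x, x ∈ S ∨ x = g → F1.map (MulAut.conj x).toMonoidHom ≤ F1 := by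
      rintro x hx _ ⟨y, hy, rfl⟩
      show x * y * x⁻¹ ∈ F1
      rw [show x * y * x⁻¹ = ⁅y, x⁆⁻¹ * y by simp only [commutatorElement_def]; group]
      refine mul_mem (inv_mem ?_) hy
      rcases hx with hx | rfl
      · rw [hF1] at hy
        exact hEF (hYE (mem_modCent.1 hy.2 x hx))
      · exact hEF (hg y hy.1)
    have hn : F1.Normal := Subgroup.normalizer_eq_top_iff.1 (h.top _ (fun s hs =>
      mem_normalizer_iff_cj_le.2 (hmem s (Or.inl hs))) fun hc => hgM (hc (mem_normalizer_iff_cj_le.2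
        (hmem g (Or.inr rfl)))))
    have hle : F1 ≤ E := fun x hx => by
      rw [← hE]
      refine ⟨hx, hFd.symm ▸ ⟨hx.1, mem_modCent.2 ?_⟩⟩
      rintro _ ⟨s, hs, rfl⟩
      have h1 : g0⁻¹ * x * g0 ∈ F1 := by simpa using hn.conj_mem x hx g0⁻¹
      rw [hF1] at h1
      have h2 := h.Yn.conj_mem _ (mem_modCent.1 h1.2 s hs) g0
      simpa [commutatorElement_def, mul_assoc] using h2
    have := (Subgroup.relIndex_eq_one.2 (hY1F.trans hle)).symm.trans_ge hY1E
    have := h.two_le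
    omega
  have hfree : ∀ s ∈ S, s ∉ Q → ∀ w ∈ V, ⁅w, s⁆ ∈ E → w ∈ F1 := by
    intro s hs hsQ w hw hws
    set D := V ⊓ modCent E (Subgroup.zpowers s)
    have hdd := h.disp V E hVn hEn inf_le_left hVQ hN3 s hs hsQ D inf_le_left
      (fun d hd => mem_modCent.1 hd.2 _ (Subgroup.mem_zpowers _))
    have hFD : F1 ≤ D := by
      rw [hF1]
      exact fun x hx => ⟨hx.1, mem_modCent.2 fun y hy =>
        hYE (mem_modCent.1 hx.2 y (Subgroup.zpowers_le.2 hs hy))⟩
    have h2 := Subgroup.relIndex_mul_relIndex F1 D V hFD inf_le_left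
    rw [hF1i] at h2
    have h3 : F1.relIndex D = 1 := by
      have hp1 := Nat.pos_of_ne_zero (relIndex_ne_zero' F1 D)
      by_contra hne
      have h5 : 2 * q ≤ F1.relIndex D * D.relIndex V := Nat.mul_le_mul (by omega) hdd
      have := h.two_le
      omega
    exact Subgroup.relIndex_eq_one.1 h3 ⟨hw, mem_modCent_zpowers hws⟩
  have hti : ∀ g ∉ M, ∀ a ∈ F1, g * a * g⁻¹ ∈ F1 → a ∈ E := by
    intro g hg a ha hga
    rw [hF1] at ha hga
    have htop := h.top (modCent Y (Subgroup.zpowers a))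
      (fun s hs => mem_modCent_zpowers (by rw [← commutatorElement_inv]; exact inv_mem (mem_modCent.1 ha.2 s hs)))
      fun hc => h.conj_S_not_le (g := g⁻¹) (fun h' => hg (by simpa using inv_mem h')) (by
        rintro _ ⟨s, hs, rfl⟩
        refine hc (mem_modCent_zpowers ?_)
        rw [← commutatorElement_inv]
        refine inv_mem ?_
        have h2 := h.Yn.conj_mem _ (mem_modCent.1 hga.2 s hs) g⁻¹
        simpa [commutatorElement_def, mul_assoc] using h2)
    refine ⟨ha.1, mem_modCent.2 fun x _ => ?_⟩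
    rw [← commutatorElement_inv]
    exact inv_mem (mem_modCent.1 (htop.ge (Subgroup.mem_top x)) a (Subgroup.mem_zpowers a))
  have hWV : W ≤ modCent V Q := by
    intro w hw
    refine mem_modCent.2 fun x hx => ?_
    have hi : Q1.relIndex Q ≤ Q1.relIndex V := by
      rw [← Subgroup.inf_relIndex_right Q1 V, inf_comm, hF1i, ← T.Q1_idx]
      exact Subgroup.relIndex_le_of_le_right h.Q_le (relIndex_ne_zero' _ _)
    obtain ⟨v, hv, a, ha, rfl⟩ := exists_mul_of_relIndex hVQ hi hx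
    rw [← QuotientGroup.eq_one_iff, ← QuotientGroup.mk'_apply (N := V), map_commutatorElement, map_mul,
      show QuotientGroup.mk' V v = 1 from (QuotientGroup.eq_one_iff v).2 hv, one_mul, ← map_commutatorElement,
      QuotientGroup.mk'_apply, QuotientGroup.eq_one_iff, ← commutatorElement_inv]
    exact inv_mem (hYV (T.W_comm a ha.2 w hw))
  refine ⟨E, Subgroup.normalClosure (W : Set G),
    ⟨⟨hVn, hEn, hEF, inf_le_left, fun a ha b hb => hYE (mem_modCent.1 (hVQc ha) b (hVQ hb)),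
      fun x hx w hw => hYE (mem_modCent.1 (hVQc hw) x hx), hidxA, hF1i,
      fun s hs a ha => hYE (mem_modCent.1 (hF1.le ha).2 s hs), hfree, hti⟩,
    hYE, fun e he g => mem_modCent.1 he.2 g (Subgroup.mem_top g), hVQ, inferInstance, ?_, ?_⟩⟩
  · set H := Subgroup.normalClosure (W : Set G) ⊔ Q
    have hSH : S ≤ H := T.W_sup.trans (sup_le le_sup_right (le_sup_of_le_left Subgroup.le_normalClosure))
    exact h.top H hSH fun hHM => h.conj_S_not_le hg0 (by
      rintro _ ⟨s, hs, rfl⟩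
      exact hHM ((inferInstance : H.Normal).conj_mem s (hSH hs) g0))
  · haveI : (Q.map (QuotientGroup.mk' V)).Normal := h.Qn.map _ (QuotientGroup.mk'_surjective _)
    exact fun l hl w hw => mem_modCent.1 (Subgroup.normalClosure_le_normal hWV hl) w hw

theorem two_section (h : PUp S Q Y M p q) (hg0 : g0 ∉ M) (T : TwoBase S Q Y q Y1 Q1 W Yd Qd W0 g0) :
    ∃ V E F1 N : Subgroup G, TwoLevel S Q Y M q V E F1 N := by
  obtain ⟨E, N, h'⟩ := two_section_eq h hg0 T
  exact ⟨_, E, _, N, h'⟩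

end Cfsg.Agent.PushUp
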